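import Cfsg.Agent.TO.X11.Fr_m3
import Cfsg.Agent.TO.X5.Abs_mg_m3
import Cfsg.Agent.TO.T3.KF
import Cfsg.Agent.H97.TC.Zcent
import Cfsg.Agent.PLocal.Replacement
import Cfsg.Agent.TO.X7.Grp
import Cfsg.Agent.TO.X.Plane
import Cfsg.Agent.TO.X.Mult
import Cfsg.Agent.TO.X.Iface
import Cfsg.Agent.Lib.FinFast
import Cfsg.Agent.H559.ChevConj
import Cfsg.Agent.H65.UnivE
import Cfsg.Agent.TO.Blk_m3
import Cfsg.Agent.S2119
import Cfsg.Agent.H273.RC.AbelBound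
import Cfsg.Agent.S0886
import Cfsg.Agent.S2227
import Cfsg.Agent.BpExc.NChev
import Cfsg.Agent.Lib.FastPerm
import Cfsg.Agent.FastGrp
import Cfsg.Agent.Prune
set_option linter.all false

section
prune_inst 0x7ff0bdfb48e8afffffff7e37ae95dffc19814fffe6defd4b7fe0619f2bdf230009c16b858de010fc1ef6e29410b87813ebfffabfe867d87ffffd1ff41ffbee0fa5e63508519488340fb40ff683f0778a7f3fffffffffffffffffffffffffffbefffdffffffff

-- part: TO/X5E/Main_mg
section
prune_inst 0xc00002200000000000000000000000000000000200000000100000000002104009000000000008100000000000040000005400000000000000000000000404018000000000000000020001000000000000000000000000000000000000041000200000000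
set_option linter.all false
open scoped Cfsg.Agent.FastGrp

namespace Cfsg.Agent.H90F

private noncomputable def frc {α : Type} (x : ℕ) (f : ℕ → α) : α := Nat.rec (f 0) (fun k _ => f (Nat.succ k)) x

private theorem frc_eq {α : Type} (x : ℕ) (f : ℕ → α) : frc x f = f x := by cases x <;> rfl

private noncomputable def nth {α : Type} (d : α) (l : List α) : ℕ → α :=
  List.rec (fun _ => d) (fun a _ ih n => Nat.rec a (fun k _ => ih k) n) l

private theorem nth_eq {α : Type} (d : α) (l : List α) (n : ℕ) : nth d l n = l.getD n d := by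
  induction l generalizing n with
  | nil => rfl
  | cons a l ih => cases n with
    | zero => rfl
    | succ k => exact ih k

private theorem nth_arr {α : Type} (d : α) (a : Array α) (n : ℕ) : a.getD n d = nth d a.toList n := by
  rw [nth_eq, List.getD_eq_getElem?_getD, Array.getD_eq_getD_getElem?, Array.getElem?_toList]

private noncomputable def fsi (D : Cfsg.Lie.ChevalleyDatum) (i : ℕ) : ℕ := frc i (nth 0 D.simpleIdx.toList)

private theorem si_eq (D : Cfsg.Lie.ChevalleyDatum) : D.simple = fsi D := by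
  funext r
  rw [fsi, frc_eq]
  exact nth_arr _ _ _

private theorem si_fun : Cfsg.Lie.ChevalleyDatum.simple = fsi := funext si_eq

private noncomputable def fca (D : Cfsg.Lie.ChevalleyDatum) (i s : ℕ) : ℤ :=
  frc i fun i => frc s (nth 0 (nth #[] D.cartanSR.toList i).toList)

private theorem ca_eq (D : Cfsg.Lie.ChevalleyDatum) : D.cartan = fca D := by
  funext i s
  rw [fca, frc_eq, frc_eq, ← nth_arr, ← nth_arr]
  rfl

private theorem ca_fun : Cfsg.Lie.ChevalleyDatum.cartan = fca := funext ca_eq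

private noncomputable def dOf {P : Prop} (b : Bool) (h : b = true ↔ P) : Decidable P :=
  Bool.rec (motive := fun c => b = c → Decidable P) (fun e => isFalse fun hp => Bool.noConfusion (e.symm.trans (h.2 hp)))
    (fun e => isTrue (h.1 e)) b rfl

private noncomputable def flt (n : ℕ) (p : ∀ k, k < n → Bool) (m : ℕ) : Bool :=
  Nat.rec true (fun k ih => Bool.rec false ih
    (Bool.rec (motive := fun b => Nat.ble (Nat.succ k) n = b → Bool) (fun _ => true)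
      (fun h => p k (Nat.le_of_ble_eq_true h)) (Nat.ble (Nat.succ k) n) rfl)) m

private theorem flt_one (n : ℕ) (p : ∀ k, k < n → Bool) (k : ℕ) (b : Bool) (e : Nat.ble (Nat.succ k) n = b) :
    (Bool.rec (motive := fun b => Nat.ble (Nat.succ k) n = b → Bool) (fun _ => true)
      (fun h => p k (Nat.le_of_ble_eq_true h)) b e : Bool) = true ↔ ∀ h, p k h = true := by
  cases b
  · exact ⟨fun _ h => absurd (Nat.ble_eq_true_of_le h) (by rw [e]; exact Bool.false_ne_true), fun _ => rfl⟩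
  · exact ⟨fun h _ => h, fun h => h _⟩

private theorem flt_iff (n : ℕ) (p : ∀ k, k < n → Bool) (m : ℕ) :
    flt n p m = true ↔ ∀ k, k < m → ∀ h, p k h = true := by
  induction m with
  | zero => exact ⟨fun _ k h => absurd h (Nat.not_lt_zero k), fun _ => rfl⟩
  | succ m ih =>
    have e : ∀ a b : Bool, (Bool.rec false a b : Bool) = true ↔ b = true ∧ a = true := by decide
    refine (e _ _).trans ((and_congr (flt_one n p m _ rfl) ih).trans ⟨fun h k hk => ?_, fun h => ⟨h m (Nat.lt_succ_self m), fun k hk => h k (Nat.lt_succ_of_lt hk)⟩⟩)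
    rcases Nat.lt_succ_iff_lt_or_eq.1 hk with h1 | h1
    · exact h.2 k h1
    · exact h1 ▸ h.1

private noncomputable def fff {n : ℕ} (P : Fin n → Prop) [H : DecidablePred P] : Decidable (∀ i, P i) :=
  dOf (flt n (fun k h => @decide _ (H ⟨k, h⟩)) n)
    ((flt_iff _ _ _).trans ⟨fun h k => of_decide_eq_true (h k.1 k.2 k.2), fun h k _ hk => decide_eq_true (h ⟨k, hk⟩)⟩)

private theorem ff_fun : @Nat.decidableForallFin = @fff := by
  funext n P H; exact Subsingleton.elim _ _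

private noncomputable def fal {α : Type} (l : List α) (p : α → Bool) : Bool :=
  List.rec true (fun a _ ih => Bool.rec false ih (p a)) l

private theorem al_fun : @List.all.{0} = @fal := by
  funext α l p
  induction l with
  | nil => rfl
  | cons a l ih => rw [List.all_cons, ih]; show _ = (Bool.rec false (fal l p) (p a) : Bool); cases p a <;> rfl

private noncomputable def mal {α : Type} (m : Multiset α) (p : α → Bool) : Bool :=
  Quot.lift (fun l => fal l p) (fun _ _ h => by rw [← al_fun]; exact h.all_eq) m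

private theorem mal_iff {α : Type} (m : Multiset α) (p : α → Bool) : mal m p = true ↔ ∀ a ∈ m, p a = true := by
  induction m using Quot.inductionOn with
  | h l => show fal l p = true ↔ _; rw [← al_fun, List.all_eq_true]; rfl

private noncomputable def fpi {α : Type} {β : α → Type} [H : ∀ a, DecidableEq (β a)] [F : Fintype α] :
    DecidableEq (∀ a, β a) := fun f g =>
  dOf (mal F.elems.val fun a => @decide _ (H a (f a) (g a)))
    ((mal_iff _ _).trans ⟨fun h => funext fun a => of_decide_eq_true (h a (F.complete a)),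
      fun h a _ => decide_eq_true (congrFun h a)⟩)

private theorem pi_fun : @Fintype.decidablePiFintype.{0, 0} = @fpi := by
  funext α β H F f g; exact Subsingleton.elim _ _

private theorem me_fun : @Matrix.decidableEq.{0, 0, 0} = 
    fun m n α H F G => @fpi m (fun _ => n → α) (fun _ => @fpi n (fun _ => α) (fun _ => H) G) F := by
  funext m n α H F G f g; exact Subsingleton.elim _ _

private noncomputable def fvc {α : Type} {n : ℕ} (h : α) (t : Fin n → α) (i : Fin n.succ) : α :=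
  Nat.rec (motive := fun k => k < n.succ → α) (fun _ => h) (fun k _ hk => t ⟨k, Nat.lt_of_succ_lt_succ hk⟩) i.1 i.2

private theorem vc_fun : @Matrix.vecCons.{0} = @fvc := by
  funext α n h t i
  rcases i with ⟨_ | k, hk⟩ <;> rfl

private noncomputable def fsm {ι M : Type} [AddCommMonoid M] (s : Finset ι) (f : ι → M) : M :=
  Quot.lift (fun l : List ι => (List.rec 0 (fun a _ ih => f a + ih) l : M)) (fun l l' h => by
    have e : ∀ l : List ι, (List.rec 0 (fun a _ ih => f a + ih) l : M) = (l.map f).sum := fun l => by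
      induction l with
      | nil => rfl
      | cons a l ih => rw [List.map_cons, List.sum_cons, ← ih]
    rw [e, e]; exact (h.map f).sum_eq) s.1

private theorem sm_fun : @Finset.sum.{0, 0} = @fsm := by
  funext ι M _ s f
  rcases s with ⟨m, hm⟩
  induction m using Quot.inductionOn with
  | h l =>
    show (l.map f).sum = (List.rec 0 (fun a _ ih => f a + ih) l : M)
    clear hm
    induction l with
    | nil => rfl
    | cons a l ih => rw [List.map_cons, List.sum_cons, ih]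

private theorem dl_fun : Nat.decLt = fun a b => dOf (Nat.ble (Nat.succ a) b) Nat.ble_eq.to_iff := by
  funext a b; exact Subsingleton.elim _ _

private theorem dn_fun : instDecidableEqNat = fun a b => dOf (Nat.beq a b) Nat.beq_eq.to_iff := by
  funext a b; exact Subsingleton.elim _ _

private noncomputable def ibq (a b : ℤ) : Bool :=
  Int.rec (fun m => Int.rec (fun n => Nat.beq m n) (fun _ => false) b) (fun m => Int.rec (fun _ => false) (fun n => Nat.beq m n) b) a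

private theorem ibq_iff (a b : ℤ) : ibq a b = true ↔ a = b := by
  rcases a with m | m <;> rcases b with n | n
  · exact Nat.beq_eq.to_iff.trans ⟨fun h => h ▸ rfl, Int.ofNat.inj⟩
  · exact ⟨fun h => Bool.noConfusion h, fun h => nomatch h⟩
  · exact ⟨fun h => Bool.noConfusion h, fun h => nomatch h⟩
  · exact Nat.beq_eq.to_iff.trans ⟨fun h => h ▸ rfl, Int.negSucc.inj⟩

private theorem dz_fun : Int.instDecidableEq = fun a b => dOf (ibq a b) (ibq_iff a b) := by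
  funext a b; exact Subsingleton.elim _ _

end Cfsg.Agent.H90F

-- part: TO/X5E/Tor
section
/-!
# S4817, `E₈`, `p = 5` : a regular toral subgroup (helper36)

`C : Co E B` with `D.Sz C.Z = ∅`.
-/

set_option autoImplicit false
set_option linter.unusedSectionVars false

namespace Cfsg.Agent.TO.X5E

open Cfsg Matrix Cfsg.Agent.DL Cfsg.Agent.DL.PP Cfsg.Agent.Nodes.Reps Cfsg.Agent.TO.X.Big Cfsg.Agent.TO.X11
open Cfsg.Agent.BHZ.Nil (KK)

variable {r : ℕ} [Fact r.Prime] {k : Type} [Field k] [CharP k r] {Y : Type} [Group Y] {N : Type} [Fintype N]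
  [DecidableEq N] {ρ : Y →* GL N k} {F : MulAut Y} {G : Subgroup Y} [IsAlgClosed k] {D : Datum r ρ F G}
  {p : ℕ} [Fact p.Prime] {Adm : Matrix D.R D.R ℤ → Prop} {S : Type} [Group S] {E : Em D p Adm S} {B Q : Subgroup S}
  (C : Co E B)

/-- conjugate points of two tori -/
theorem conj_form (σ : MulAut S) {u : S} {s v : D.R → ZMod p} (hu : E.ι u = C.t (ev C.ζ s)) {y : Y} (hy : y ∈ G)
    (hv : E.ι (σ u) = y * D.τ (ev C.ζ v) * y⁻¹) : ∃ z A, Adm A ∧ v = mv (D.Wm z * A) s := by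
  obtain ⟨g, hg, α, A, h1, h2, h3⟩ := E.aut σ
  obtain ⟨z, m, hz, h4⟩ := E6.exists_rp_conj D (s := fun _ : Unit => D.τ (mon A (ev C.ζ s)))
    (t := fun _ => D.τ (ev C.ζ v)) (fun _ => D.τ_mem _) (fun _ => D.τ_mem _) (y := y⁻¹ * g * α C.y)
    (mul_mem (mul_mem (inv_mem hy) hg) ((h1.memG _).2 C.hy)) fun _ => by
      rw [h3, hu, Co.t, map_mul, map_mul, map_inv, h1.tau] at hv
      calc _ = y⁻¹ * (g * (α C.y * D.τ (mon A (ev C.ζ s)) * (α C.y)⁻¹) * g⁻¹) * y := by group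
        _ = _ := by rw [hv]; group
  refine ⟨z, A, h2, ev_inj C.hζ (D.τ_inj ?_)⟩
  rw [ev_mv C.hζ, mon_mul, ← D.conj_τ hz, h4 ()]

/-- the finite torus -/
def Tr : Subgroup S where
  carrier := {a | ∃ c, E.ι a = C.t c}
  one_mem' := ⟨1, by rw [map_one, C.t_one]⟩
  mul_mem' := by
    rintro a b ⟨c, h⟩ ⟨c', h'⟩
    exact ⟨c * c', by rw [map_mul, C.t_mul, h, h']⟩
  inv_mem' := by
    rintro a ⟨c, h⟩
    exact ⟨c⁻¹, by rw [map_inv, C.t_inv, h]⟩

theorem Tr_comm {a b : S} (ha : a ∈ Tr C) (hb : b ∈ Tr C) : a * b = b * a := by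
  obtain ⟨c, h⟩ := ha
  obtain ⟨c', h'⟩ := hb
  exact E.inj (by rw [map_mul, map_mul, h, h', ← C.t_mul, ← C.t_mul, mul_comm])

theorem le_Tr : B ≤ Tr C := fun u hu => let ⟨_, h⟩ := C.cov u hu; ⟨_, h⟩

theorem Tr_le_Ce : Tr C ≤ Ce B := fun _ ha _ hu => Tr_comm C (le_Tr C hu) ha

/-- the element in the standard frame -/
noncomputable def st (a : S) : Y := C.y⁻¹ * E.ι a * C.y

theorem st_mem (a : S) : st C a ∈ G := mul_mem (mul_mem (inv_mem C.hy) (E.mem a).1) C.hy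

theorem st_mul (a b : S) : st C (a * b) = st C a * st C b := by
  rw [st, st, st, map_mul]; group

theorem st_pow (a : S) (n : ℕ) : st C (a ^ n) = st C a ^ n := by
  induction n with
  | zero => simp only [st, _root_.pow_zero, _root_.map_one, _root_.mul_one, _root_.inv_mul_cancel]
  | succ n ih => rw [pow_succ, st_mul, ih, pow_succ]

theorem st_eq {a : S} {c : D.R → kˣ} : st C a = D.τ c ↔ E.ι a = C.t c := by
  rw [st, Co.t, mul_assoc, inv_mul_eq_iff_eq_mul, ← eq_mul_inv_iff_mul_eq]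

theorem mem_Tr {a : S} : a ∈ Tr C ↔ st C a ∈ D.T := by
  rw [D.mem_T]
  exact exists_congr fun c => by rw [eq_comm (a := D.τ c), st_eq]

theorem mem_Z {z : Y} : z ∈ C.Z ↔ ∃ u ∈ B, st C u = z := by
  constructor
  · rintro ⟨v, ⟨u, hu, h⟩, rfl⟩
    exact ⟨u, hu, (st_eq C).2 h⟩
  · rintro ⟨u, hu, rfl⟩
    obtain ⟨v, h⟩ := C.cov u hu
    exact ⟨v, ⟨u, hu, h⟩, (st_eq C).2 h⟩

theorem st_cen {a : S} (ha : a ∈ Ce B) : st C a ∈ Subgroup.centralizer C.Z := fun z hz => by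
  obtain ⟨u, hu, rfl⟩ := (mem_Z C).1 hz
  rw [← st_mul, ← st_mul, ha u hu]

theorem cop {n : ℕ} (hn : ¬ p ∣ n) : E6.Cop C.Z n := by
  rintro _ ⟨v, -, rfl⟩
  exact ⟨p, (Nat.Prime.coprime_iff_not_dvd Fact.out).2 hn, by rw [← map_pow, ev_pow C.hζ, map_one]⟩

variable {C} in
theorem act_t {a : S} {v : D.W} (h : D.Rp v (st C a)) (c : D.R → kˣ) :
    E.ι a * C.t c * (E.ι a)⁻¹ = C.t (mon (D.Wm v) c) := by
  rw [Co.t, Co.t, ← D.conj_τ h, st]; group

variable {C} in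
theorem comm_φ {a : S} {v : D.W} (h : D.Rp v (st C a)) :
    D.Wm C.w * D.Mx * D.Wm v = D.Wm v * (D.Wm C.w * D.Mx) := by
  refine mon_inj (k := k) fun c => C.t_inj ?_
  rw [mon_mul, ← mon_mul, mon_mul _ (D.Wm v), ← C.F_t, ← act_t h, mon_mul (D.Wm v), ← act_t h, ← C.F_t, map_mul, map_mul,
    map_inv, (mem_GF.1 (E.mem a)).2]

theorem fix_φ {a : S} {c : D.R → kˣ} (h : E.ι a = C.t c) : mon (D.Wm C.w * D.Mx) c = c :=
  C.t_inj (by rw [← C.F_t, ← h, (mem_GF.1 (E.mem a)).2])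

variable (h0 : D.Sz C.Z = ∅)
include h0

theorem exists_rp {a : S} (ha : a ∈ Subgroup.normalizer (B : Set S)) : ∃ v, D.Rp v (st C a) := by
  refine E6.mem_NN_of_empty D C.Z_le h0 (st_mem C a) fun z hz => ?_
  obtain ⟨u, hu, rfl⟩ := (mem_Z C).1 hz
  have h1 := (mem_Tr C).1 (le_Tr C ((Subgroup.mem_normalizer_iff.1 (inv_mem ha) u).1 hu))
  convert h1 using 1
  simp only [st, map_mul, map_inv]
  group

theorem conj_mem_Tr {a : S} (ha : a ∈ Subgroup.normalizer (B : Set S)) {s : S} (hs : s ∈ Tr C) : a * s * a⁻¹ ∈ Tr C := by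
  obtain ⟨v, hv⟩ := exists_rp C h0 ha
  obtain ⟨c, h⟩ := hs
  exact ⟨_, by rw [map_mul, map_mul, map_inv, h, act_t hv]⟩

theorem mem_Tr_of_cop [Finite S] {a : S} (ha : a ∈ Ce B) (h : ¬ p ∣ orderOf a) : a ∈ Tr C :=
  (mem_Tr C).2 (E6.mem_T_of_cop D C.Z_le h0 (st_mem C a) (st_cen C ha) (orderOf_pos a) (cop C h) (by
    rw [← st_pow, pow_orderOf_eq_one]
    exact (mem_Tr C).1 (one_mem _)))

theorem Tr_le_KK [Finite S] (h : B ≤ Q) : Tr C ≤ KK p Q := fun _ ha => BHZ.Nil.mem_KK_iff.2 fun _ hy h1 =>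
  Tr_comm C (mem_Tr_of_cop C h0 (Subgroup.centralizer_le h hy) h1) ha

/-- the image of the centraliser in the Weyl group is a `p`-group -/
theorem exists_pow {a : S} {v : D.W} (h : D.Rp v (st C a)) {n : ℕ} (hn : a ^ n ∈ Ce B) : ∃ j, (v ^ p ^ j) ^ n = 1 := by
  obtain ⟨j, m, h1, h2⟩ := Nat.exists_eq_pow_mul_and_not_dvd (orderOf_pos v).ne' p (Fact.out : p.Prime).ne_one
  refine ⟨j, by_contra fun h3 => ?_⟩
  obtain ⟨b, hb, -⟩ := E6.exists_root D C.Z_le (KFacts.RgdDiag.rp_pow (KFacts.RgdDiag.rp_pow h _) n)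
    (by rw [← pow_mul, mul_comm, pow_mul, ← st_pow]; exact pow_mem (st_cen C hn) _) h3
    (n := m) (Nat.pos_of_ne_zero fun e => h1 (e ▸ dvd_zero p)) (by
      rw [← pow_mul, ← pow_mul, mul_comm n, ← mul_assoc, ← h2, pow_mul, pow_orderOf_eq_one, one_pow]) (cop C h1)
  exact (h0 ▸ hb : b ∈ (∅ : Set _))

end Cfsg.Agent.TO.X5E
end

-- part: TO/X5E/Kf
section
/-!
# S4817, `E₈`, `p = 5` : the block part (helper36)

`X5E.kr_of_coset` : an abelian normal subgroup of `C(D)` on which a coset of `C(D)` in the inertia group acts without fixed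
points lies in the kernel of the canonical character.
-/

set_option autoImplicit false
set_option linter.unusedSectionVars false

namespace Cfsg.Agent.TO.X5E

open Cfsg Subgroup
open Cfsg.Agent.Characters.Core Cfsg.Agent.Characters

theorem ker_of_coset {H : Type} [Group H] [Finite H] (N : Subgroup H) [hN : N.Normal] (hc : ∀ a b : N, a * b = b * a)
    {χ : H → ℂ} (hχ : IsIrrCharacter H χ) (α : MulAut N) (hα : ∀ n : N, χ (α n) = χ n)
    (hf : ∀ (g : H) (n : N), α (MulAut.conjNormal g n) = n → n = 1) : ∀ n ∈ N, χ n = χ 1 := by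
  classical
  have := Fintype.ofFinite H
  obtain ⟨l, hl⟩ := Blocks.Fong.exists_constituent N ⟨χ, hχ⟩
  have h1 : IsIrrCharacter N (l.1 ∘ α.toMonoidHom) := isIrr_comp α.toMonoidHom α.surjective l.2
  have h2 : classInner (fun n : N => χ n) (l.1 ∘ α.toMonoidHom) ≠ 0 := by
    refine fun h => hl (Eq.trans ?_ h)
    rw [classInner_def, classInner_def, ← Equiv.sum_comp α.toEquiv]
    exact congrArg _ (Finset.sum_congr rfl fun n _ => congrArg (· * _) (hα n))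
  obtain ⟨g, hg⟩ := Clifford.exists_conj_of_constituents N hχ l.2 h1 hl h2
  let β : MulAut N := α * MulAut.conjNormal g⁻¹
  have h3 : ∀ n : N, l.1 (β n) = l.1 n := fun n => by
    refine (congrFun hg (MulAut.conjNormal g⁻¹ n)).trans ?_
    rw [Function.comp_apply, ← MulAut.mul_apply, ← map_mul, mul_inv_cancel, map_one, MulAut.one_apply]
  have h4 : Function.Injective fun n : N => β n * n⁻¹ := fun x y e => by
    refine inv_mul_eq_one.1 (hf g⁻¹ _ ?_)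
    show β _ = _
    have e' : β x * x⁻¹ = β y * y⁻¹ := e
    rw [map_mul, map_inv, inv_mul_eq_iff_eq_mul, ← mul_assoc, e', inv_mul_cancel_right]
  have h5 : l.1 1 ≠ 0 := isIrr_apply_one_ne_zero l.2
  have h6 : ∀ a b : N, l.1 (a * b) * l.1 1 = l.1 a * l.1 b := fun a b =>
    H97.TC.irr_central_mul l.2 (mem_center_iff.2 fun y => hc y a) b
  have h7 : ∀ n : N, l.1 n = l.1 1 := fun n => by
    obtain ⟨y, rfl⟩ := Finite.injective_iff_surjective.1 h4 n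
    refine mul_right_cancel₀ h5 ?_
    rw [h6, h3, ← h6, mul_inv_cancel]
  have h8 := CharDeep.CliffordCorr.restrict_eq_smul_of_invariant N hχ l.2
    (fun g => funext fun n => (h7 _).trans (h7 n).symm) hl
  intro n hn
  refine (congrFun h8 ⟨n, hn⟩).trans (Eq.trans ?_ (congrFun h8 1).symm)
  rw [Pi.smul_apply, Pi.smul_apply, h7]

variable {G : Type} [Group G] [Finite G] {p : ℕ} [Fact p.Prime] {M : Ideal AlgInt}
  {b : Set (IrrCharacter G)} {D : Subgroup G} {θ : G → ℂ}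

/-- **a fixed point free coset** -/
theorem kr_of_coset (h : Can p M b D θ) {S : Subgroup G} (h1 : S ≤ Ce D) (hc : ∀ a ∈ S, ∀ a' ∈ S, a * a' = a' * a)
    (h2 : ∀ c ∈ normalizer (D : Set G), ∀ s ∈ S, c * s * c⁻¹ ∈ S) {t : G} (ht : t ∈ In D θ)
    (hf : ∀ c ∈ Ce D, ∀ s ∈ S, t * c * s * (t * c)⁻¹ = s → s = 1) : S ≤ h.kr := by
  have h3 := In_le_norm ht
  have : (S.subgroupOf (Ce D)).Normal := ⟨fun n hn c => h2 c (centralizer_le_normalizer _ c.2) n hn⟩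
  let α : MulAut (S.subgroupOf (Ce D)) :=
    { toFun := fun n => ⟨⟨t * n.1.1 * t⁻¹, h1 (h2 t h3 _ n.2)⟩, h2 t h3 _ n.2⟩
      invFun := fun n => ⟨⟨t⁻¹ * n.1.1 * t⁻¹⁻¹, h1 (h2 _ (inv_mem h3) _ n.2)⟩, h2 _ (inv_mem h3) _ n.2⟩
      left_inv := fun n => Subtype.ext (Subtype.ext (by simp only [mul_assoc, _root_.inv_mul_cancel_left, _root_.inv_inv, _root_.inv_mul_cancel, _root_.mul_one]))
      right_inv := fun n => Subtype.ext (Subtype.ext (by simp only [mul_assoc, _root_.inv_inv, _root_.mul_inv_cancel_left, _root_.mul_inv_cancel, _root_.mul_one]))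
      map_mul' := fun a a' => Subtype.ext (Subtype.ext (by simp only [mul_assoc, _root_.Subgroup.coe_mul, _root_.MulMemClass.mk_mul_mk, _root_.inv_mul_cancel_left])) }
  intro s hs
  refine h.mem_kr.2 ⟨h1 hs, ker_of_coset (S.subgroupOf (Ce D)) (fun a a' => Subtype.ext (Subtype.ext (hc _ a.2 _ a'.2)))
    h.irr α (fun n => ht.2 n.1.1) (fun g n e => Subtype.ext (Subtype.ext (hf g g.2 _ n.2 ?_))) ⟨s, h1 hs⟩ hs⟩
  have e' : t * (g.1 * n.1.1 * g.1⁻¹) * t⁻¹ = n.1.1 := congrArg (fun x => x.1.1) e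
  rw [← e']
  nth_rewrite 2 [← e']
  rw [e']
  group

end Cfsg.Agent.TO.X5E
end

-- part: TO/X5E/Core
section
/-!
# S4817, `E₈`, `p = 5` : the torus of type `2 A₄` (helper36)

* `rel` : roots in one orbit of an element with `Φ₅ (± w) = 0` are conjugate under the reflections of the orbit;
* `Hy.fpf`, `Hy.eq`, `Hy.false_of`.
-/

set_option autoImplicit false
set_option linter.unusedSectionVars false

namespace Cfsg.Agent.TO.X5E

open Cfsg Matrix Cfsg.Agent.DL Cfsg.Agent.DL.PP Cfsg.Agent.Nodes.Reps Cfsg.Agent.TO.X.Big Cfsg.Agent.TO.X11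
open Cfsg.Agent.Nodes.Coroot Cfsg.Agent.Tits.Roots
open Cfsg.Agent.BHZ.Nil (KK)

/-- the fifth cyclotomic polynomial -/
def Ph {A : Type} [Ring A] (g : A) : A := 1 + g + g ^ 2 + g ^ 3 + g ^ 4

theorem Ph_pow {A : Type} [Ring A] {g : A} (h : Ph g = 0) : g ^ 5 = 1 := by
  have h1 : g ^ 5 - 1 = (g - 1) * Ph g := by
    rw [Ph]
    noncomm_ring
  rwa [h, mul_zero, sub_eq_zero] at h1

theorem cop_Ph (a : ℤ) {n : ℕ} (h : n = 2 ∨ n = 3) : IsCoprime (Ph a) n := by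
  have h1 : n.Prime := by rcases h with rfl | rfl <;> norm_num
  refine ((Nat.prime_iff_prime_int.1 h1).irreducible.coprime_iff_not_dvd.2 fun h2 => ?_).symm
  rw [← ZMod.intCast_zmod_eq_zero_iff_dvd, Ph] at h2
  push_cast at h2
  revert h2
  generalize (a : ZMod n) = b
  rcases h with rfl | rfl <;> revert b <;> decide

variable {r : ℕ} [Fact r.Prime] {k : Type} [Field k] [CharP k r] {Y : Type} [Group Y] {N : Type} [Fintype N]
  [DecidableEq N] {ρ : Y →* GL N k} {F : MulAut Y} {G : Subgroup Y} [IsAlgClosed k] {D : Datum r ρ F G}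

section rel

variable (H : Subgroup D.W)

/-- conjugate vectors -/
def Rl (x y : D.R → ℤ) : Prop := ∃ v ∈ H, D.Wm v *ᵥ y = x

variable {H}

theorem Rl.refl (x : D.R → ℤ) : Rl H x x := ⟨1, one_mem _, by rw [D.Wm_one, one_mulVec]⟩

theorem Rl.trans {x y z : D.R → ℤ} (h : Rl H x y) (h' : Rl H y z) : Rl H x z := by
  obtain ⟨v, h1, rfl⟩ := h
  obtain ⟨v', h2, rfl⟩ := h'
  exact ⟨v * v', mul_mem h1 h2, by rw [D.Wm_mul, mulVec_mulVec]⟩

theorem Rl.symm {x y : D.R → ℤ} (h : Rl H x y) : Rl H y x := by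
  obtain ⟨v, h1, rfl⟩ := h
  exact ⟨v⁻¹, inv_mem h1, by rw [mulVec_mulVec, ← D.Wm_mul, inv_mul_cancel, D.Wm_one, one_mulVec]⟩

theorem rl_act {a : D.I → ℤ} (ha : D.Rt a) {v : D.W} (hv : v ∈ H) : Rl H (D.cor (D.act v a)) (D.cor a) :=
  ⟨v, hv, (D.cor_act v ha).symm⟩

theorem rl_sign {a : D.I → ℤ} (ha : D.Rt a) (h : D.rf a ∈ H) {ε : ℤ} (hε : ε = 1 ∨ ε = -1) :
    Rl H (ε • D.cor a) (D.cor a) := by
  rcases hε with rfl | rfl
  · rw [one_smul]
    exact Rl.refl _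
  · have := rl_act ha h
    rwa [D.act_rf_self ha, D.cor_neg ha, ← neg_one_smul ℤ] at this

theorem rl_step {a : D.I → ℤ} (ha : D.Rt a) (u : D.W) (h1 : D.rf a ∈ H) (h2 : D.rf (D.act u a) ∈ H)
    (h3 : cpr D.cs D.h a (D.act u a) ≠ 0) : Rl H (D.cor a) (D.cor (D.act u a)) := by
  have := Fintype.ofFinite D.W
  have hb : D.Rt (D.act u a) := ha.act u
  have h4 : form D.cs D.h (D.act u a) (D.act u a) = form D.cs D.h a a := form_rep _ _ _ _ _
  generalize D.act u a = b at *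
  have h5 : cpr D.cs D.h b a = cpr D.cs D.h a b :=
    cpr_eq_of_form _ _ ha (by rw [form_comm, two_form_cpr _ _ a hb, h4])
  by_cases e1 : a = b
  · rw [e1]
    exact Rl.refl _
  by_cases e2 : a = -b
  · rw [e2, D.cor_neg hb, ← neg_one_smul ℤ]
    exact rl_sign hb h2 (Or.inr rfl)
  have h6 := Base.cpr_mul_lt ha hb e1 e2
  rw [h5] at h6
  have h7 : -cpr D.cs D.h a b = 1 ∨ -cpr D.cs D.h a b = -1 := by
    generalize cpr D.cs D.h a b = n at *
    have h8 : n < 2 := by nlinarith only [h6]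
    have h9 : -2 < n := by nlinarith only [h6]
    omega
  have h8 : D.act (D.rf b) (D.act (D.rf a) b) = -cpr D.cs D.h a b • a := by
    rw [D.act_rf ha, h5, Datum.act, map_sub, map_zsmul]
    show D.act _ _ - _ • D.act _ _ = _
    rw [D.act_rf_self hb, D.act_rf hb]
    rcases h7 with h7 | h7
    · rw [h7, neg_eq_iff_eq_neg.1 h7]; module
    · rw [h7, neg_injective h7]; module
  have h9 := (rl_act (hb.act (D.rf a)) h2).trans (rl_act hb h1)
  rw [h8] at h9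
  refine Rl.trans ?_ h9
  rcases h7 with h7 | h7
  · rw [h7, one_smul]
    exact Rl.refl _
  · rw [h7, neg_one_smul, D.cor_neg ha, ← neg_one_smul ℤ]
    exact (rl_sign ha h1 (Or.inr rfl)).symm

theorem rel {w : D.W} {ε : ℤ} (hε : ε = 1 ∨ ε = -1) (hw : Ph (ε • D.Wm w) = 0) {a : D.I → ℤ} (ha : D.Rt a)
    (h : ∀ i : ℕ, D.rf (D.act (w ^ i) a) ∈ H) : Rl H (ε • D.cor a) (D.Wm w *ᵥ D.cor a) := by
  have hp : ∀ i : ℕ, D.Wm (w ^ i) = D.Wm w ^ i := fun i => map_pow D.WmHom w i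
  have hadd : ∀ i j : ℕ, D.act (w ^ (j + i)) a = D.act (w ^ j) (D.act (w ^ i) a) := fun i j => by
    rw [pow_add, Datum.act, map_mul]
    rfl
  have h0 : D.act (w ^ 0) a = a := by rw [pow_zero, Datum.act, map_one, Module.End.one_apply]
  have h5 : ∀ i : ℕ, Rl H (D.cor (D.act (w ^ i) a)) (D.cor (D.act (w ^ (5 + i)) a)) := fun i => by
    have h1 := congrArg (ε • ·) (Ph_pow hw)
    have h2 : ε * ε ^ 5 = 1 := by rcases hε with rfl | rfl <;> rfl
    simp only [_root_.smul_pow, smul_smul, h2, one_smul] at h1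
    rw [hadd, D.cor_act _ (ha.act _), hp, h1, smul_mulVec, one_mulVec]
    exact (rl_sign (ha.act _) (h i) hε).symm
  have h6 : ∀ n : ℕ, Rl H (D.cor (D.act (w ^ 1) a)) (D.cor (D.act (w ^ (5 * n + 1)) a)) := fun n => by
    induction n with
    | zero => exact Rl.refl _
    | succ n ih => exact ih.trans (by rw [show 5 * (n + 1) + 1 = 5 + (5 * n + 1) by ring]; exact h5 _)
  have h7 : ∀ j : ℕ, cpr D.cs D.h a (D.act (w ^ j) a) ≠ 0 → ∀ m : ℕ, Rl H (D.cor a) (D.cor (D.act (w ^ (j * m)) a)) :=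
    fun j hj m => by
      induction m with
      | zero => rw [mul_zero, h0]; exact Rl.refl _
      | succ m ih =>
        refine ih.trans ?_
        rw [mul_add, mul_one, add_comm, hadd]
        refine rl_step (ha.act _) _ (h _) (hadd _ _ ▸ h _) ?_
        rw [← hadd, add_comm, hadd]
        exact (cpr_rep _ _ _ _ (ha.act _)).trans_ne hj
  have h8 : ∃ j m n : ℕ, cpr D.cs D.h a (D.act (w ^ j) a) ≠ 0 ∧ j * m = 5 * n + 1 := by
    by_contra h8
    push Not at h8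
    have h9 : ∀ j m n : ℕ, j * m = 5 * n + 1 → D.wt a ⬝ᵥ (ε • D.Wm w) ^ j *ᵥ D.cor a = 0 := fun j m n e => by
      rw [_root_.smul_pow, smul_mulVec, dotProduct_smul, ← hp, ← D.cor_act _ ha, dotProduct, D.pair_cor (ha.act _),
        not_not.1 fun h10 => h8 j m n h10 e, smul_zero]
    have h10 := congrArg (fun A => D.wt a ⬝ᵥ A *ᵥ D.cor a) hw
    simp only [Ph, add_mulVec, dotProduct_add, one_mulVec, zero_mulVec, dotProduct_zero] at h10
    rw [h9 2 3 1 rfl, h9 3 2 1 rfl, h9 4 4 3 rfl, ← pow_one (ε • D.Wm w), h9 1 1 0 rfl, dotProduct, D.pair_cor ha,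
      cpr_self _ _ ha] at h10
    omega
  obtain ⟨j, m, n, h9, e⟩ := h8
  have h10 := (h7 j h9 m).trans (e ▸ h6 n).symm
  rw [pow_one, D.cor_act _ ha] at h10
  exact (rl_sign ha (h0 ▸ h 0) hε).trans h10

end rel

variable [Fact (Nat.Prime 5)] {Adm : Matrix D.R D.R ℤ → Prop} {S : Type} [Group S] [Finite S] {E : Em D 5 Adm S}
  {B Q : Subgroup S} {C : Co E B} {q ε : ℤ}

variable (C q ε) in
/-- the torus is of type `2 A₄` -/
structure Hy : Prop where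
  reg : D.Sz C.Z = ∅
  mx : D.Mx = q • 1
  sgn : ε = 1 ∨ ε = -1
  con : ((ε * q : ℤ) : ZMod 5) = 1
  ph : Ph (ε • D.Wm C.w) = 0
  fix : ∀ v, mv (D.Wm C.w * D.Mx) v = v → v ∈ C.B
  rk : Module.finrank (ZMod 5) C.B ≤ 2

namespace Hy

variable (H : Hy C q ε)
include H

theorem φ_eq : D.Wm C.w * D.Mx = (ε * q) • ε • D.Wm C.w := by
  rw [H.mx, mul_smul_comm, mul_one, smul_smul]
  rcases H.sgn with rfl | rfl <;> simp

theorem nil (v : D.R → ZMod 5) : mv ((D.Wm C.w * D.Mx - 1) ^ 4) v = 0 := by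
  let f : Matrix D.R D.R ℤ →+* Matrix D.R D.R (ZMod 5) := (Int.castRingHom (ZMod 5)).mapMatrix
  have h1 : f (D.Wm C.w * D.Mx) = f (ε • D.Wm C.w) := by
    rw [H.φ_eq, map_zsmul, ← Int.cast_smul_eq_zsmul (ZMod 5), H.con, one_smul]
  have h2 : ∀ g : Matrix D.R D.R (ZMod 5), (g - 1) ^ 4 = Ph g - 5 • (g ^ 3 - g ^ 2 + g) := fun g => by
    rw [Ph]
    noncomm_ring
  have h3 : Ph (f (ε • D.Wm C.w)) = f (Ph (ε • D.Wm C.w)) := by simp only [Ph, map_add, map_pow, map_one]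
  show f _ *ᵥ v = 0
  rw [map_pow, map_sub, map_one, h1, h2, h3, H.ph, map_zero, ← Nat.cast_smul_eq_nsmul (ZMod 5), ZMod.natCast_self, zero_smul,
    sub_zero, zero_mulVec]

/-- the exponent of the finite torus -/
theorem expo {c : D.R → kˣ} (h : mon (D.Wm C.w * D.Mx) c = c) : c ^ Ph (ε * q) = 1 := by
  have h1 : ∀ j : ℕ, mon ((D.Wm C.w * D.Mx) ^ j) c = c := fun j => by rw [mon_pow, Function.iterate_fixed h]
  have h2 : ∀ (a : ℤ) (g : Matrix D.R D.R ℤ), a ^ 4 • Ph g =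
      a ^ 4 • (a • g) ^ 0 + a ^ 3 • (a • g) ^ 1 + a ^ 2 • (a • g) ^ 2 + a • (a • g) ^ 3 + (1 : ℤ) • (a • g) ^ 4 := fun a g => by
    simp only [Ph, _root_.smul_pow, pow_zero, pow_one]
    module
  have h3 := congrArg (mon · c) (h2 (ε * q) (ε • D.Wm C.w))
  simp only [← H.φ_eq, H.ph, smul_zero, mon_add, mon_zsmul, h1, ← _root_.zpow_add] at h3
  rw [Ph, show ∀ a : ℤ, 1 + a + a ^ 2 + a ^ 3 + a ^ 4 = a ^ 4 + a ^ 3 + a ^ 2 + a + 1 from fun a => by ring, ← h3]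
  exact funext fun i => chr_zero c

/-- **fixed point free on the plane, fixed point free on the torus** -/
theorem fpf {n : S} (hn : n ∈ Subgroup.normalizer (B : Set S)) {m : ℕ} (hm : m = 2 ∨ m = 3) (h1 : n ^ m ∈ Ce B)
    (h2 : ∀ u ∈ B, n * u * n⁻¹ = u → u = 1) : ∀ s ∈ Tr C, n * s * n⁻¹ = s → s = 1 := by
  obtain ⟨v, hv⟩ := exists_rp C H.reg hn
  obtain ⟨j, hj⟩ := exists_pow C H.reg hv h1
  have hv' : D.Rp (v ^ 5 ^ j) (st C (n ^ 5 ^ j)) := st_pow C n _ ▸ KFacts.RgdDiag.rp_pow hv _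
  have hc := comm_φ hv'
  have h3 : ∀ (i : ℕ) (y : D.R → ZMod 5), mv (D.Wm (v ^ 5 ^ j)) y = y → mv ((D.Wm C.w * D.Mx - 1) ^ i) y = 0 → y = 0 := by
    intro i
    induction i with
    | zero => exact fun y _ h => by rwa [pow_zero, mv, Matrix.map_one _ (map_zero _) (map_one _), one_mulVec] at h
    | succ i ih =>
      intro y h4 h5
      rw [pow_succ, mv_mul] at h5
      have h6 := ih _ (by rw [← mv_mul, mul_sub, ← hc, mul_one, ← sub_one_mul, mv_mul, h4]) h5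
      obtain ⟨u, hu, e⟩ := H.fix y (by
        rw [mv, Matrix.map_sub _ (map_sub _), Matrix.map_one _ (map_zero _) (map_one _), sub_mulVec, one_mulVec,
          sub_eq_zero] at h6
        exact h6)
      have h7 : n ^ 5 ^ j ∈ Cu u := Subgroup.mem_centralizer_singleton_iff.2 (mul_inv_eq_iff_eq_mul.1 (E.inj (by
        rw [map_mul, map_mul, map_inv, e, act_t hv', ← ev_mv C.hζ, h4])))
      have h8 : n ^ m ∈ Cu u := Subgroup.centralizer_le (Set.singleton_subset_iff.2 hu) h1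
      have h9 : n ∈ Cu u := by
        obtain ⟨a, b, e⟩ : IsCoprime ((5 ^ j : ℕ) : ℤ) m := Nat.isCoprime_iff_coprime.2
          (Nat.Coprime.pow_left j (by rcases hm with rfl | rfl <;> norm_num))
        rw [← zpow_one n, ← e, _root_.zpow_add, mul_comm a, mul_comm b, _root_.zpow_mul, _root_.zpow_mul, zpow_natCast,
          zpow_natCast]
        exact mul_mem (zpow_mem h7 a) (zpow_mem h8 b)
      exact (C.eq_one_iff e).1 (h2 u hu (mul_inv_eq_iff_eq_mul.2 (Subgroup.mem_centralizer_singleton_iff.1 h9)))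
  have h4 : ∑ i ∈ Finset.range m, D.Wm (v ^ 5 ^ j) ^ i = 0 := by
    refine int_cancel (p := 5) (A := D.Wm (v ^ 5 ^ j) - 1) (fun y hy => h3 4 y ?_ (H.nil y)) ?_
    · rwa [Matrix.map_sub _ (map_sub _), Matrix.map_one _ (map_zero _) (map_one _), sub_mulVec, one_mulVec,
        sub_eq_zero] at hy
    · rw [mul_geom_sum, show D.Wm (v ^ 5 ^ j) ^ m = D.Wm ((v ^ 5 ^ j) ^ m) from (map_pow D.WmHom _ m).symm, hj, D.Wm_one,
        sub_self]
  rintro s ⟨c, e⟩ h5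
  have h6 : mon (D.Wm (v ^ 5 ^ j)) c = c := C.t_inj (by
    rw [← act_t hv', ← e, ← map_inv, ← map_mul, ← map_mul, mul_inv_eq_iff_eq_mul.2
      ((show Commute n s from mul_inv_eq_iff_eq_mul.1 h5).pow_left _).eq])
  have h7 : ∀ i : ℕ, mon (∑ i ∈ Finset.range i, D.Wm (v ^ 5 ^ j) ^ i) c = c ^ i := fun i => by
    induction i with
    | zero => exact (pow_zero c).symm ▸ funext fun i => chr_zero c
    | succ i ih => rw [Finset.sum_range_succ, mon_add, ih, mon_pow, Function.iterate_fixed h6, pow_succ]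
  have h8 : c ^ (m : ℤ) = 1 := by
    rw [zpow_natCast, ← h7, h4]
    exact funext fun i => chr_zero c
  obtain ⟨a, b, h9⟩ := cop_Ph (ε * q) hm
  refine E.inj ?_
  rw [e, map_one, ← zpow_one c, ← h9, _root_.zpow_add, mul_comm a, mul_comm b, _root_.zpow_mul, _root_.zpow_mul, h8,
    H.expo (fix_φ C e), _root_.one_zpow, _root_.one_zpow, mul_one, C.t_one]

theorem act_mem {Z : Set Y} (hZ : ∀ z ∈ Z, ∃ s ∈ Tr C, st C s = z) {a : D.I → ℤ} (ha : a ∈ D.Sz Z) (i : ℕ) :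
    D.act (C.w ^ i) a ∈ D.Sz Z := by
  induction i with
  | zero => rwa [pow_zero, Datum.act, map_one]
  | succ i ih =>
    rw [pow_succ', Datum.act, map_mul]
    refine ⟨ih.1.act _, fun z hz => ?_⟩
    obtain ⟨s, ⟨c, e⟩, rfl⟩ := hZ z hz
    have h1 := ih.2 _ hz
    have h2 := D.χ_rp C.hw (D.act (C.w ^ i) a) (D.τ_mem (mon D.Mx c))
    rw [D.conj_τ C.hw, ← mon_mul, fix_φ C e, H.mx, mon_zsmul, mon_one, D.χ_τ (D.act (C.w ^ i) a), map_zpow] at h2
    rw [(st_eq C).2 e] at h1 ⊢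
    rw [D.χ_τ, Units.val_eq_one] at h1
    exact h2.trans (by rw [h1, _root_.one_zpow, Units.val_one])

/-- **the plane is the whole group** -/
theorem eq {A : Subgroup (MulAut S)} (P : Pure 5 S A Q) (hB : B ≤ Q)
    (hK : ∀ a ∈ KK 5 Q, ∀ y ∈ G, ∀ b, D.Rt b → E.ι a ≠ y * D.τ (ev C.ζ (rv 5 (D.cor b))) * y⁻¹) : B = Q := by
  refine le_antisymm hB (by_contra fun h => ?_)
  obtain ⟨x, hx, h1, h2⟩ := PLocal.Replacement.exists_normalizing P.pg hB le_rfl (hB.trans Subgroup.le_normalizer) h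
  obtain ⟨v, hv⟩ := exists_rp C H.reg h2
  have h3 : x ^ 5 = 1 := P.expo x (BHZ.Nil.self_le_KK Q hx) (by
    obtain ⟨j, hj⟩ := P.pg ⟨x, hx⟩
    obtain ⟨i, -, hi⟩ := (Nat.dvd_prime_pow Fact.out).1 (orderOf_dvd_of_pow_eq_one (congrArg Subtype.val hj))
    exact ⟨i, hi⟩)
  have h4 : v ≠ 1 := by
    rintro rfl
    obtain ⟨c, e⟩ := (mem_Tr C).2 hv.mem_of_one
    obtain ⟨y, rfl⟩ := exists_ev C.hζ (c := c) (C.t_inj (by rw [C.t_pow, ← e, ← map_pow, h3, map_one, C.t_one]))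
    obtain ⟨u, hu, e'⟩ := H.fix y (ev_inj C.hζ (by rw [ev_mv C.hζ, fix_φ C e]))
    exact h1 (E.inj (e'.trans e.symm) ▸ hu)
  let Z : Set Y := {z | ∃ s ∈ Ce Q, ¬ 5 ∣ orderOf s ∧ st C s = z}
  have hZ' : ∀ z ∈ Z, ∃ s ∈ Tr C, st C s = z := fun _ ⟨s, h5, h6, e⟩ =>
    ⟨s, mem_Tr_of_cop C H.reg (Subgroup.centralizer_le hB h5) h6, e⟩
  have hZ : Z ⊆ D.T := fun z hz => let ⟨_, h5, e⟩ := hZ' z hz; e ▸ (mem_Tr C).1 h5
  have h5 : st C (1 : S) = 1 := by simp [st]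
  obtain ⟨a, ha, -⟩ := E6.exists_root D hZ hv (by
      rintro _ ⟨s, h6, -, rfl⟩
      rw [← st_mul, ← st_mul, h6 x hx]) h4 (n := 5) (by norm_num)
    (D.rp_unique (KFacts.RgdDiag.rp_pow hv 5) (by rw [← st_pow, h3, h5]; exact rp_one)) (by
      rintro _ ⟨s, -, h6, rfl⟩
      exact ⟨orderOf s, ((Nat.Prime.coprime_iff_not_dvd Fact.out).2 h6).symm, by rw [← st_pow, pow_orderOf_eq_one, h5]⟩)
  obtain ⟨v', h6, h7⟩ := rel (H := Subgroup.closure (D.rf '' D.Sz Z)) H.sgn H.ph ha.1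
    fun i => Subgroup.subset_closure ⟨_, H.act_mem hZ' ha i, rfl⟩
  obtain ⟨y, h8, h9⟩ := E6.lt_fix (D.twist ⟨C.w, C.hw⟩) (Z := Z) hZ (by
      rintro _ ⟨s, h8, h9, rfl⟩
      refine ⟨s, h8, h9, ?_⟩
      rw [MulAut.mul_apply, MulAut.conj_apply, st, map_mul, map_mul, map_inv, (mem_GF.1 (E.mem s)).2]
      group) (v := v') h6 (c := ev C.ζ (rv 5 (D.cor a))) (by
      show mon (D.Wm v' * (D.Wm (D.pr _) * D.Mx)) _ = _
      rw [Datum.Rp.pr_eq C.hw, ev_rv C.hζ, mon_coch, H.mx, mul_smul_comm, mul_smul_comm, mul_one, smul_mulVec,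
        ← mulVec_mulVec, h7, smul_smul, coch_eq_iff C.hζ]
      funext i
      simp only [rv, Pi.smul_apply, smul_eq_mul]
      rw [Int.cast_mul, mul_comm q, H.con, one_mul])
  change y ∈ D.cen Z at h8
  change _ = y * D.τ _ * y⁻¹ at h9
  change (MulAut.conj (C.y⁻¹ * F C.y) * F) (y * D.τ _ * y⁻¹) = _ at h9
  have h10 : y * D.τ (ev C.ζ (rv 5 (D.cor a))) * y⁻¹ ∈ D.cen Z := mul_mem (mul_mem h8 (D.T_le_cen Z (D.τ_mem _))) (inv_mem h8)
  obtain ⟨s, e⟩ := E.pw (C.y * (y * D.τ (ev C.ζ (rv 5 (D.cor a))) * y⁻¹) * C.y⁻¹)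
    (mem_GF.2 ⟨mul_mem (mul_mem C.hy (D.cen_le_G Z h10)) (inv_mem C.hy), by
      rw [MulAut.mul_apply, MulAut.conj_apply] at h9
      rw [map_mul, map_mul F C.y, map_inv]
      conv_rhs => rw [← h9]
      group⟩) (by rw [conj_pow, conj_pow, ← map_pow, ev_pow C.hζ, map_one]; group)
  refine hK s (BHZ.Nil.mem_KK_iff.2 fun b h11 h12 => E.inj ?_) (C.y * y) (mul_mem C.hy (D.cen_le_G Z h8)) a ha.1
    (by rw [e]; group)
  have h13 := D.cen_le_centralizer hZ h10 _ ⟨b, h11, h12, rfl⟩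
  rw [map_mul, map_mul, e]
  calc _ = C.y * (st C b * (y * D.τ (ev C.ζ (rv 5 (D.cor a))) * y⁻¹)) * C.y⁻¹ := by rw [st]; group
    _ = _ := by rw [h13, st]; group

/-- **the abelian case** -/
theorem false_of {M : Ideal AlgInt} {b : Set (IrrCharacter S)} (K : Blk) (T : Two 5 M b B) (hS : commutator S = ⊤) :
    False := by
  obtain ⟨θ, h⟩ := K.can0 S 5 M b B T.hM T.hb T.hD ((le_Tr C).trans (Tr_le_Ce C))
  have h1 : Nat.card B = 25 := by
    choose x hx using fun u : B => C.cov u u.2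
    rw [Nat.card_eq_of_bijective (fun u : B => (⟨x u, u, u.2, hx u⟩ : C.B)) ⟨fun u u' e => Subtype.ext (E.inj (by
      rw [hx, hx, show x u = x u' from congrArg Subtype.val e])), fun ⟨v, u, hu, e⟩ =>
        ⟨⟨u, hu⟩, Subtype.ext (ev_inj C.hζ (C.t_inj ((hx ⟨u, hu⟩).symm.trans e)))⟩⟩,
      Module.natCard_eq_pow_finrank (K := ZMod 5), le_antisymm H.rk (C.two_le T.nc), Nat.card_zmod]
    rfl
  have h2 : ∀ u ∈ B, ∀ m : ℕ, m = 2 ∨ m = 3 → u ^ m = 1 → u = 1 := fun u hu m hm e => by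
    obtain ⟨v, hv⟩ := C.cov u hu
    refine (pow_eq_one_iff_of_coprime (m := m) (n := 5) (by rcases hm with rfl | rfl <;> norm_num)).1 ⟨e, E.inj ?_⟩
    rw [map_pow, hv, conj_pow, ← map_pow, ev_pow C.hζ, map_one, map_one, mul_one, mul_inv_cancel]
  obtain ⟨t, ht, m, hm, h3, h4⟩ : ∃ t ∈ In B θ, ∃ m : ℕ, (m = 2 ∨ m = 3) ∧ (∀ d ∈ B, t ^ m * d * (t ^ m)⁻¹ = d) ∧
      ∀ d ∈ B, t * d * t⁻¹ = d → d = 1 := by
    rcases X5.neg_or_three K T h h1 with ⟨t, ht, h3⟩ | ⟨t, ht, h3⟩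
    · refine ⟨t, ht, 2, Or.inl rfl, fun d hd => ?_, fun d hd e => h2 d hd 2 (Or.inl rfl) ?_⟩
      · calc _ = t * (t * d * t⁻¹) * t⁻¹ := by rw [pow_two]; group
          _ = _ := by rw [h3 d hd, h3 _ (inv_mem hd), inv_inv]
      · rw [pow_two, mul_eq_one_iff_eq_inv, ← h3 d hd, e]
    · refine ⟨t, ht, 3, Or.inr rfl, fun d hd => ?_, fun d hd e => h2 d hd 3 (Or.inr rfl) ?_⟩
      · have h4 := (Subgroup.mem_normalizer_iff.1 (In_le_norm ht) d).1 hd
        have h5 := (Subgroup.mem_normalizer_iff.1 (In_le_norm ht) _).1 h4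
        have h6 := h3 d hd
        rw [mul_assoc d, h.comm d hd _ (mul_mem h4 h5)] at h6
        refine Eq.trans (by rw [pow_three]; group) (mul_left_cancel ((h3 _ h4).trans h6.symm))
      · have h4 := h3 d hd
        rwa [e, e, ← pow_two, ← pow_succ] at h4
  refine K.false_of_kr T hS h fun c hc h5 => kr_of_coset h (Tr_le_Ce C) (fun _ ha _ => Tr_comm C ha)
    (fun _ ha _ => conj_mem_Tr C H.reg ha) ht (fun c hc => ?_) (mem_Tr_of_cop C H.reg hc h5)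
  have h6 : ∀ d ∈ B, t * c * d * (t * c)⁻¹ = t * d * t⁻¹ := fun d hd => by
    rw [mul_assoc t, ← hc d hd]; group
  have h7 : ∀ (i : ℕ), ∀ d ∈ B, (t * c) ^ i * d * ((t * c) ^ i)⁻¹ = t ^ i * d * (t ^ i)⁻¹ := fun i => by
    induction i with
    | zero => exact fun _ _ => by rw [pow_zero, pow_zero]
    | succ i ih =>
      intro d hd
      calc _ = (t * c) ^ i * (t * c * d * (t * c)⁻¹) * ((t * c) ^ i)⁻¹ := by rw [pow_succ]; group
        _ = _ := by rw [h6 d hd, ih _ ((Subgroup.mem_normalizer_iff.1 (In_le_norm ht) d).1 hd), pow_succ]; group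
  exact H.fpf (mul_mem (In_le_norm ht) (Subgroup.centralizer_le_normalizer _ hc)) hm
    (fun d hd => (mul_inv_eq_iff_eq_mul.1 ((h7 m d hd).trans (h3 d hd))).symm) fun d hd e => h4 d hd ((h6 d hd).symm.trans e)

end Hy

end Cfsg.Agent.TO.X5E
end

-- part: TO/X5E/Lat
section
/-!
# S4817, `E₈`, `p = 5` : the plane of type `A₄ A₄` in the lattice (helper36)
-/

set_option autoImplicit false
set_option linter.unusedSectionVars false
set_option maxRecDepth 100000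
set_option synthInstance.maxSize 4000
set_option synthInstance.maxHeartbeats 400000

namespace Cfsg.Agent.TO.X5E

open Cfsg Cfsg.Lie Matrix
open Cfsg.Agent.ChevalleyStructure.CoxeterGeomTypes
open Cfsg.Agent.Tits.Roots Cfsg.Agent.Nodes Cfsg.Agent.Nodes.RGDChev Cfsg.Agent.KZ.DatX Cfsg.Agent.KZ.Exc
open Cfsg.Agent.TO.X Cfsg.Agent.TO.X.Lat
open Cfsg.Agent.TO.X7 (nz)

/-- the first vector -/
def u0 : Fin 8 → ZMod 5 := ![0, 0, 0, 0, 1, 0, 0, 0]

/-- the second vector -/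
def x0 : Fin 8 → ZMod 5 := ![1, 1, 1, 1, 0, 1, 1, 1]

/-- the Cartan matrix -/
def Cm : Matrix (Fin 8) (Fin 8) ℤ :=
  !![2, 0, -1, 0, 0, 0, 0, 0; 0, 2, 0, -1, 0, 0, 0, 0; -1, 0, 2, -1, 0, 0, 0, 0; 0, -1, -1, 2, -1, 0, 0, 0;
      0, 0, 0, -1, 2, -1, 0, 0; 0, 0, 0, 0, -1, 2, -1, 0; 0, 0, 0, 0, 0, -1, 2, -1; 0, 0, 0, 0, 0, 0, -1, 2]

/-- the form on the root lattice -/
def ip (a b : Fin 8 → ℤ) : ℤ :=
  (2 * a 0 - a 2) * b 0 + (2 * a 1 - a 3) * b 1 + (2 * a 2 - a 0 - a 3) * b 2 + (2 * a 3 - a 1 - a 2 - a 4) * b 3 +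
    (2 * a 4 - a 3 - a 5) * b 4 + (2 * a 5 - a 4 - a 6) * b 5 + (2 * a 6 - a 5 - a 7) * b 6 + (2 * a 7 - a 6) * b 7

/-- the roots with the values `0, 1` -/
def K1 : List (Fin 8 → ℤ) :=
  [![-2, -3, -4, -6, -5, -4, -3, -2], ![-1, -1, -1, -1, 0, 0, 0, 0], ![0, 0, 0, 0, 0, 0, 0, 1],
   ![0, 0, 0, 0, 0, 0, 1, 0], ![0, 0, 0, 0, 0, 1, 0, 0], ![0, 0, 0, 1, 0, 0, 0, 0],
   ![0, 0, 1, 0, 0, 0, 0, 0], ![0, 1, 0, 0, 0, 0, 0, 0], ![1, 0, 0, 0, 0, 0, 0, 0],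
   ![2, 3, 4, 6, 5, 3, 2, 1]]

/-- the roots with the values `1, 0` -/
def K2 : List (Fin 8 → ℤ) :=
  [![-2, -3, -4, -5, -4, -3, -2, -1], ![-1, -2, -2, -4, -4, -3, -2, -1], ![0, 0, 0, 0, 1, 0, 0, 0],
   ![0, 0, 1, 1, 1, 1, 1, 1], ![0, 1, 0, 1, 1, 1, 1, 1], ![0, 1, 1, 1, 1, 1, 1, 0],
   ![0, 1, 1, 2, 1, 1, 0, 0], ![1, 0, 1, 1, 1, 1, 1, 0], ![1, 1, 1, 1, 1, 1, 0, 0],
   ![1, 1, 1, 2, 1, 0, 0, 0]]

/-- the pointwise stabiliser -/
def Gm : Fin 5 → Matrix (Fin 8) (Fin 8) ℤ :=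
  ![!![1, 0, 0, 0, 0, 0, 0, 0; 0, 1, 0, 0, 0, 0, 0, 0; 0, 0, 1, 0, 0, 0, 0, 0; 0, 0, 0, 1, 0, 0, 0, 0;
      0, 0, 0, 0, 1, 0, 0, 0; 0, 0, 0, 0, 0, 1, 0, 0; 0, 0, 0, 0, 0, 0, 1, 0; 0, 0, 0, 0, 0, 0, 0, 1],
    !![-1, -1, -1, -1, 0, 0, 0, 0; 0, 0, 0, 1, 0, 0, 0, 0; 1, 0, 0, 0, 0, 0, 0, 0; 0, 0, 1, 0, 0, 0, 0, 0;
      0, 1, 0, 1, 1, 1, 1, 1; -2, -3, -4, -6, -5, -4, -3, -2; 2, 3, 4, 6, 5, 3, 2, 1; 0, 0, 0, 0, 0, 1, 0, 0],
    !![0, 1, 0, 0, 0, 0, 0, 0; 0, 0, 1, 0, 0, 0, 0, 0; -1, -1, -1, -1, 0, 0, 0, 0; 1, 0, 0, 0, 0, 0, 0, 0;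
      0, 1, 1, 2, 1, 1, 0, 0; 0, 0, 0, 0, 0, 0, 1, 0; 0, 0, 0, 0, 0, 0, 0, 1; -2, -3, -4, -6, -5, -4, -3, -2],
    !![0, 0, 0, 1, 0, 0, 0, 0; 1, 0, 0, 0, 0, 0, 0, 0; 0, 1, 0, 0, 0, 0, 0, 0; -1, -1, -1, -1, 0, 0, 0, 0;
      -1, -2, -2, -4, -4, -3, -2, -1; 2, 3, 4, 6, 5, 3, 2, 1; 0, 0, 0, 0, 0, 1, 0, 0; 0, 0, 0, 0, 0, 0, 1, 0],
    !![0, 0, 1, 0, 0, 0, 0, 0; -1, -1, -1, -1, 0, 0, 0, 0; 0, 0, 0, 1, 0, 0, 0, 0; 0, 1, 0, 0, 0, 0, 0, 0;
      1, 0, 1, 1, 1, 1, 1, 0; 0, 0, 0, 0, 0, 0, 0, 1; -2, -3, -4, -6, -5, -4, -3, -2; 2, 3, 4, 6, 5, 3, 2, 1]]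

/-- the scalar `2` -/
def Jm : Matrix (Fin 8) (Fin 8) ℤ :=
  !![-2, -3, -4, -6, -5, -4, -3, -1; 0, 0, 0, 0, 0, 0, 1, 1; 0, 0, 0, 0, 0, 1, 1, 0; 0, 0, 0, 0, 0, -1, -1, -1;
      1, 1, 2, 2, 2, 2, 1, 1; 0, 1, 0, 1, 0, 0, 0, 0; 0, -1, -1, -1, 0, 0, 0, 0; 0, 0, 1, 1, 0, 0, 0, 0]

/-- the certificates for the fixed spaces -/
def Pm : Fin 5 → Matrix (Fin 8) (Fin 8) ℤ :=
  ![0,
    !![0, 0, 0, 0, 0, 0, 0, 0; 2, 2, 3, 0, 0, 0, 0, 0; 0, 0, 4, 0, 0, 0, 0, 0; 2, 3, 3, 0, 0, 0, 0, 0;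
      0, 0, 0, 0, 0, 0, 0, 0; 3, 3, 4, 0, 2, 0, 3, 0; 1, 2, 2, 0, 2, 4, 1, 0; 2, 0, 3, 0, 2, 1, 1, 0],
    !![0, 0, 0, 0, 0, 0, 0, 0; 1, 0, 0, 0, 0, 0, 0, 0; 1, 1, 0, 0, 0, 0, 0, 0; 2, 3, 4, 0, 0, 0, 0, 0;
      0, 0, 0, 0, 0, 0, 0, 0; 4, 3, 2, 0, 1, 0, 0, 0; 4, 3, 2, 0, 1, 1, 0, 0; 4, 3, 2, 0, 1, 1, 1, 0],
    !![0, 0, 0, 0, 0, 0, 0, 0; 0, 4, 0, 0, 0, 0, 0, 0; 0, 4, 4, 0, 0, 0, 0, 0; 1, 0, 0, 0, 0, 0, 0, 0;
      0, 0, 0, 0, 0, 0, 0, 0; 2, 2, 3, 0, 4, 4, 0, 0; 2, 2, 3, 0, 4, 4, 4, 0; 1, 4, 2, 0, 4, 0, 2, 0],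
    !![0, 0, 0, 0, 0, 0, 0, 0; 4, 2, 2, 0, 0, 0, 0, 0; 1, 0, 0, 0, 0, 0, 0, 0; 1, 0, 1, 0, 0, 0, 0, 0;
      0, 0, 0, 0, 0, 0, 0, 0; 3, 2, 1, 0, 3, 4, 2, 0; 0, 3, 3, 0, 3, 1, 3, 0; 3, 2, 1, 0, 3, 0, 2, 0]]

/-- further eigenvectors -/
def vv : Fin 5 → Fin 8 → ZMod 5 :=
  ![![3, 2, 0, 3, 2, 0, 0, 4], ![2, 3, 3, 0, 2, 0, 0, 4], ![2, 0, 2, 3, 0, 0, 0, 4], ![3, 3, 2, 2, 3, 0, 0, 4],
    ![0, 2, 3, 2, 3, 0, 0, 4]]

private noncomputable def _root_.Cfsg.Agent.LsF.f822b56_0 : {f // @Cfsg.Agent.TO.X.vl = f} := ⟨_, by first | (delta Cfsg.Agent.TO.X.vl; rewrite [Cfsg.Agent.LsF.finFintype_eq, Cfsg.Agent.LsF.fsum_eq]; exact rfl) | exact rfl⟩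
private noncomputable def _root_.Cfsg.Agent.LsF.f822b56_1 : {f // @Cfsg.Agent.ChevalleyStructure.RootVecTab.dig = f} := ⟨_, by first | (delta Cfsg.Agent.ChevalleyStructure.RootVecTab.dig; rewrite [Cfsg.Agent.LsF.nmul_pat]; exact rfl) | exact rfl⟩
private noncomputable def _root_.Cfsg.Agent.LsF.f822b56_2 : {f // @Cfsg.Agent.ChevalleyStructure.RootVecTab.packTab = f} := ⟨_, by first | (delta Cfsg.Agent.ChevalleyStructure.RootVecTab.packTab; rewrite [Cfsg.Agent.LsF.instDecEq_eq, Cfsg.Agent.LsF.ite_eq]; exact rfl) | exact rfl⟩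
private noncomputable def _root_.Cfsg.Agent.LsF.f822b56_3 : {f // @Cfsg.Agent.ChevalleyStructure.RootVecTab.code = f} := ⟨_, by first | (delta Cfsg.Agent.ChevalleyStructure.RootVecTab.code; rewrite [Cfsg.Agent.LsF.f822b56_2.2, Cfsg.Agent.LsF.nmul_pat, Cfsg.Agent.LsF.npow_pat]; exact rfl) | exact rfl⟩
private noncomputable def _root_.Cfsg.Agent.LsF.f822b56_4 : {f // @Cfsg.Agent.ChevalleyStructure.RootVec.rt = f} := ⟨_, by first | (delta Cfsg.Agent.ChevalleyStructure.RootVec.rt; rewrite [Cfsg.Agent.LsF.f822b56_1.2, Cfsg.Agent.LsF.f822b56_3.2, Cfsg.Agent.LsF.nsub_pat, Cfsg.Agent.LsF.isub_pat, Cfsg.Agent.LsF.icast_pat, Cfsg.Agent.LsF.decLt_eq, Cfsg.Agent.LsF.dAnd_eq, Cfsg.Agent.LsF.ite_eq]; exact rfl) | exact rfl⟩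
private noncomputable def _root_.Cfsg.Agent.LsF.f822b56_5 : {f // @Cfsg.Agent.Nodes.RGDChev.vec = f} := ⟨_, by first | (delta Cfsg.Agent.Nodes.RGDChev.vec; rewrite [Cfsg.Agent.LsF.f822b56_4.2]; exact rfl) | exact rfl⟩
private noncomputable def _root_.Cfsg.Agent.LsF.f822b56_6 : {f // @Cfsg.Agent.TO.X5E.u0 = f} := ⟨_, by first | (delta Cfsg.Agent.TO.X5E.u0; rewrite [Cfsg.Agent.LsF.vecCons_eq]; exact rfl) | exact rfl⟩
private noncomputable def _root_.Cfsg.Agent.LsF.f822b56_7 : {f // @Cfsg.Agent.TO.X5E.x0 = f} := ⟨_, by first | (delta Cfsg.Agent.TO.X5E.x0; rewrite [Cfsg.Agent.LsF.vecCons_eq]; exact rfl) | exact rfl⟩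
theorem reg : ∀ s < 240, ¬ (vl (_root_.Cfsg.Agent.Nodes.RGDChev.vec chevE8 8 s) u0 = 0 ∧ vl (_root_.Cfsg.Agent.Nodes.RGDChev.vec chevE8 8 s) x0 = 0) := by (refine of_decide_eq_true ?_; (try (rewrite [Cfsg.Agent.LsF.f822b56_0.2, Cfsg.Agent.LsF.f822b56_5.2, Cfsg.Agent.LsF.f822b56_6.2, Cfsg.Agent.LsF.f822b56_7.2, Cfsg.Agent.LsF.zdecEq_eq, Cfsg.Agent.LsF.dAnd_eq, Cfsg.Agent.LsF.dNot_eq, Cfsg.Agent.LsF.dBallLT_eq, Cfsg.Agent.LsF.decide_eq])); decide +kernel)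

private noncomputable def _root_.Cfsg.Agent.LsF.f822b56_8 : {f // @Cfsg.Agent.TO.X5E.K1 = f} := ⟨_, by first | (delta Cfsg.Agent.TO.X5E.K1; rewrite [Cfsg.Agent.LsF.ineg_pat, Cfsg.Agent.LsF.vecCons_eq]; exact rfl) | exact rfl⟩
private noncomputable def _root_.Cfsg.Agent.LsF.f822b56_9 : {f // @Cfsg.Agent.TO.X5E.K2 = f} := ⟨_, by first | (delta Cfsg.Agent.TO.X5E.K2; rewrite [Cfsg.Agent.LsF.ineg_pat, Cfsg.Agent.LsF.vecCons_eq]; exact rfl) | exact rfl⟩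
theorem cls : ∀ s < 240, (vl (_root_.Cfsg.Agent.Nodes.RGDChev.vec chevE8 8 s) u0 = 0 → vl (_root_.Cfsg.Agent.Nodes.RGDChev.vec chevE8 8 s) x0 = 1 → _root_.Cfsg.Agent.Nodes.RGDChev.vec chevE8 8 s ∈ K1) ∧
    (vl (_root_.Cfsg.Agent.Nodes.RGDChev.vec chevE8 8 s) u0 = 1 → vl (_root_.Cfsg.Agent.Nodes.RGDChev.vec chevE8 8 s) x0 = 0 → _root_.Cfsg.Agent.Nodes.RGDChev.vec chevE8 8 s ∈ K2) := by (refine of_decide_eq_true ?_; (try (rewrite [Cfsg.Agent.LsF.f822b56_0.2, Cfsg.Agent.LsF.f822b56_5.2, Cfsg.Agent.LsF.f822b56_6.2, Cfsg.Agent.LsF.f822b56_7.2, Cfsg.Agent.LsF.f822b56_8.2, Cfsg.Agent.LsF.f822b56_9.2, Cfsg.Agent.LsF.zdecEq_eq, Cfsg.Agent.LsF.finFintype_eq, Cfsg.Agent.LsF.dPi_eq, Cfsg.Agent.LsF.instIDecEq_eq, Cfsg.Agent.LsF.dAnd_eq, Cfsg.Agent.LsF.dMem_eq, Cfsg.Agent.LsF.dBallLT_eq, Cfsg.Agent.LsF.decide_eq])); decide +kernel)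

private noncomputable def _root_.Cfsg.Agent.LsF.f822b56_10 : {f // @Cfsg.Agent.TO.X5E.ip = f} := ⟨_, by first | (delta Cfsg.Agent.TO.X5E.ip; rewrite [Cfsg.Agent.LsF.iadd_pat, Cfsg.Agent.LsF.imul_pat, Cfsg.Agent.LsF.isub_pat]; exact rfl) | exact rfl⟩
private noncomputable def _root_.Cfsg.Agent.LsF.f822b56_11 : {f // @Cfsg.Agent.TO.X5E.Gm = f} := ⟨_, by first | (delta Cfsg.Agent.TO.X5E.Gm; rewrite [Cfsg.Agent.LsF.mof_pat, Cfsg.Agent.LsF.ineg_pat, Cfsg.Agent.LsF.vecCons_eq]; exact rfl) | exact rfl⟩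
theorem srch : ∀ r0 ∈ K1, ∀ r1 ∈ K1, (ip r1 r0 = 0) →
    ∀ r2 ∈ K1, (ip r2 r1 = 0 ∧ ip r2 r0 = -1) →
    ∀ r3 ∈ K1, (ip r3 r2 = -1 ∧ ip r3 r1 = -1 ∧ ip r3 r0 = 0) →
    ∀ r4 ∈ K2, (ip r4 r3 = -1 ∧ ip r4 r2 = 0 ∧ ip r4 r1 = 0 ∧ ip r4 r0 = 0) →
    ∀ r5 ∈ K1, (ip r5 r4 = -1 ∧ ip r5 r3 = 0 ∧ ip r5 r2 = 0 ∧ ip r5 r1 = 0 ∧ ip r5 r0 = 0) →
    ∀ r6 ∈ K1, (ip r6 r5 = -1 ∧ ip r6 r4 = 0 ∧ ip r6 r3 = 0 ∧ ip r6 r2 = 0 ∧ ip r6 r1 = 0 ∧ ip r6 r0 = 0) →
    ∀ r7 ∈ K1, (ip r7 r6 = -1 ∧ ip r7 r5 = 0 ∧ ip r7 r4 = 0 ∧ ip r7 r3 = 0 ∧ ip r7 r2 = 0 ∧ ip r7 r1 = 0 ∧ ip r7 r0 = 0) →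
    ∃ i, Gm i = Matrix.of ![r0, r1, r2, r3, r4, r5, r6, r7] := by (refine of_decide_eq_true ?_; (try (rewrite [Cfsg.Agent.LsF.f822b56_8.2, Cfsg.Agent.LsF.f822b56_10.2, Cfsg.Agent.LsF.f822b56_9.2, Cfsg.Agent.LsF.f822b56_11.2, Cfsg.Agent.LsF.mof_pat, Cfsg.Agent.LsF.ineg_pat, Cfsg.Agent.LsF.vecCons_eq, Cfsg.Agent.LsF.finFintype_eq, Cfsg.Agent.LsF.dMat_eq, Cfsg.Agent.LsF.instIDecEq_eq, Cfsg.Agent.LsF.dAnd_eq, Cfsg.Agent.LsF.dBAll_eq, Cfsg.Agent.LsF.dExistsFin_eq, Cfsg.Agent.LsF.decide_eq])); decide +kernel)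

theorem sM_Cm : ∀ i, sM chevE8 8 i * Cm * (sM chevE8 8 i)ᵀ = Cm := by (delta Matrix.instHMulOfFintypeOfMulOfAddCommMonoid dotProduct Cfsg.Agent.TO.X5E.Cm Cfsg.Agent.KZ.DatX.sM Cfsg.Agent.ChevalleyStructure.CoxeterGeomTypes.cartanOf; refine of_decide_eq_true ?_; rewrite [H90F.dz_fun, H90F.si_fun, H90F.ca_fun, H90F.ff_fun, H90F.me_fun, H90F.vc_fun, H90F.sm_fun]; ((try (rewrite [Cfsg.Agent.LsF.mof_pat, Cfsg.Agent.LsF.imul_pat, Cfsg.Agent.LsF.isub_pat, Cfsg.Agent.LsF.ineg_pat, Cfsg.Agent.LsF.finFintype_eq, Cfsg.Agent.LsF.transpose_eq, Cfsg.Agent.LsF.iACM_eq, Cfsg.Agent.LsF.dFinEq_eq, Cfsg.Agent.LsF.ite_eq, Cfsg.Agent.LsF.decide_eq])); decide +kernel))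

theorem law : ∀ i j, Gm i * Gm j = Gm (i + j) := by (refine of_decide_eq_true ?_; (try (rewrite [Cfsg.Agent.LsF.f822b56_11.2, Cfsg.Agent.LsF.fadd_pat, Cfsg.Agent.LsF.finFintype_eq, Cfsg.Agent.LsF.dMat_eq, Cfsg.Agent.LsF.instMHMul_eq, Cfsg.Agent.LsF.iACM_eq, Cfsg.Agent.LsF.instIMul_eq, Cfsg.Agent.LsF.instIDecEq_eq, Cfsg.Agent.LsF.dForallFin_eq, Cfsg.Agent.LsF.decide_eq])); decide +kernel)

theorem Gm_zero : Gm 0 = 1 := by decide +kernel

theorem Gm_sum : ∀ i, i ≠ 0 → 1 + Gm i + Gm (i + i) + Gm (i + i + i) + Gm (i + i + i + i) = 0 := by (refine of_decide_eq_true ?_; (try (rewrite [Cfsg.Agent.LsF.f822b56_11.2, Cfsg.Agent.LsF.fadd_pat, Cfsg.Agent.LsF.finFintype_eq, Cfsg.Agent.LsF.dMat_eq, Cfsg.Agent.LsF.instMOne_eq, Cfsg.Agent.LsF.instIAdd_eq, Cfsg.Agent.LsF.instIDecEq_eq, Cfsg.Agent.LsF.dNot_eq, Cfsg.Agent.LsF.dFinEq_eq, Cfsg.Agent.LsF.dForallFin_eq, Cfsg.Agent.LsF.decide_eq])); decide +kernel)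

private noncomputable def _root_.Cfsg.Agent.LsF.f822b56_12 : {f // @Cfsg.Agent.TO.X5E.Pm = f} := ⟨_, by first | (delta Cfsg.Agent.TO.X5E.Pm; rewrite [Cfsg.Agent.LsF.mof_pat, Cfsg.Agent.LsF.vecCons_eq]; exact rfl) | exact rfl⟩
theorem cert : ∀ i, i ≠ 0 → (Pm i * (Gm i - 1)).map (Int.cast : ℤ → ZMod 5) =
    1 - vecMulVec u0 (Pi.single 4 1) - vecMulVec x0 (Pi.single 0 1) := by (refine of_decide_eq_true ?_; (try (rewrite [Cfsg.Agent.LsF.f822b56_12.2, Cfsg.Agent.LsF.f822b56_11.2, Cfsg.Agent.LsF.f822b56_6.2, Cfsg.Agent.LsF.f822b56_7.2, Cfsg.Agent.LsF.zdecEq_eq, Cfsg.Agent.LsF.finFintype_eq, Cfsg.Agent.LsF.dMat_eq, Cfsg.Agent.LsF.instMHMul_eq, Cfsg.Agent.LsF.instMOne_eq, Cfsg.Agent.LsF.iACM_eq, Cfsg.Agent.LsF.instZMul_pat, Cfsg.Agent.LsF.instZSub_pat, Cfsg.Agent.LsF.instIMul_eq, Cfsg.Agent.LsF.instISub_eq, Cfsg.Agent.LsF.dNot_eq, Cfsg.Agent.LsF.dFinEq_eq, Cfsg.Agent.LsF.dForallFin_eq, Cfsg.Agent.LsF.decide_eq]));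 decide +kernel)

theorem Jm_sq : Jm * Jm = -1 := by decide +kernel

theorem Jm_eig : mv Jm u0 = (2 : ZMod 5) • u0 ∧ mv Jm x0 = (2 : ZMod 5) • x0 := by decide +kernel

private noncomputable def _root_.Cfsg.Agent.LsF.f822b56_13 : {f // @Cfsg.Agent.KZ.DatX.refL = f} := ⟨_, by first | (delta Cfsg.Agent.KZ.DatX.refL; rewrite [Cfsg.Agent.LsF.imul_pat, Cfsg.Agent.LsF.isub_pat, Cfsg.Agent.LsF.zipWith_eq, Cfsg.Agent.LsF.getD_eq]; exact rfl) | exact rfl⟩
private noncomputable def _root_.Cfsg.Agent.LsF.f822b56_14 : {f // @Cfsg.Agent.KZ.DatX.app = f} := ⟨_, by first | (delta Cfsg.Agent.KZ.DatX.app; rewrite [Cfsg.Agent.LsF.f822b56_13.2, Cfsg.Agent.LsF.foldr_eq]; exact rfl) | exact rfl⟩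
private noncomputable def _root_.Cfsg.Agent.LsF.f822b56_15 : {f // @Cfsg.Agent.TO.X5E.Jm = f} := ⟨_, by first | (delta Cfsg.Agent.TO.X5E.Jm; rewrite [Cfsg.Agent.LsF.mof_pat, Cfsg.Agent.LsF.ineg_pat, Cfsg.Agent.LsF.vecCons_eq]; exact rfl) | exact rfl⟩
theorem Jm_wm : WM chevE8 8 Jm :=
  ⟨[0, 2, 3, 1, 2, 0, 3, 4, 3, 2, 0, 5, 4, 3, 1, 2, 3, 4, 5, 6, 5, 4, 3, 1, 2, 0, 3, 2, 4, 3, 5, 4, 6, 5, 7, 6, 5, 4, 3, 1,
    2, 0, 3, 2, 4, 3, 1, 5, 4, 3, 2, 6, 5, 4, 3, 1, 7, 6, 5, 4], (prod_eq_of isRows_E8 _ (by (refine of_decide_eq_true ?_; (try (rewrite [Cfsg.Agent.LsF.f822b56_14.2, Cfsg.Agent.LsF.f822b56_15.2, Cfsg.Agent.LsF.instIDecEq_eq, Cfsg.Agent.LsF.dFinEq_eq, Cfsg.Agent.LsF.dListEq_eq, Cfsg.Agent.LsF.dForallFin_eq, Cfsg.Agent.LsF.ofFn_eq, Cfsg.Agent.LsF.ite_eq, Cfsg.Agent.LsF.decide_eq])); decide +kernel))).symm⟩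

private noncomputable def _root_.Cfsg.Agent.LsF.f822b56_16 : {f // @Cfsg.Agent.TO.X.mv = f} := ⟨_, by first | (delta Cfsg.Agent.TO.X.mv; rewrite [Cfsg.Agent.LsF.finFintype_eq, Cfsg.Agent.LsF.mulVec_eq]; exact rfl) | exact rfl⟩
private noncomputable def _root_.Cfsg.Agent.LsF.f822b56_17 : {f // @Cfsg.Agent.TO.X5E.vv = f} := ⟨_, by first | (delta Cfsg.Agent.TO.X5E.vv; rewrite [Cfsg.Agent.LsF.vecCons_eq]; exact rfl) | exact rfl⟩
private noncomputable def _root_.Cfsg.Agent.LsF.f822b56_18 : {f // @Cfsg.Agent.TO.X7.nz = f} := ⟨_, by first | (delta Cfsg.Agent.TO.X7.nz; rewrite [Cfsg.Agent.LsF.f822b56_0.2, Cfsg.Agent.LsF.f822b56_5.2, Cfsg.Agent.LsF.zdecEq_eq, Cfsg.Agent.LsF.fcard_eq, Cfsg.Agent.LsF.ffilter_eq, Cfsg.Agent.LsF.frange_eq]; exact rfl) | exact rfl⟩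
theorem vv_eig : ∀ i, (3 : ZMod 5) • mv (Gm i) (mv Jm (vv i)) = vv i ∧ vv i ≠ 0 ∧ 40 < nz chevE8 (vv i) := by
  (refine of_decide_eq_true ?_; (try (rewrite [Cfsg.Agent.LsF.f822b56_16.2, Cfsg.Agent.LsF.f822b56_11.2, Cfsg.Agent.LsF.f822b56_15.2, Cfsg.Agent.LsF.f822b56_17.2, Cfsg.Agent.LsF.f822b56_18.2, Cfsg.Agent.LsF.zdecEq_eq, Cfsg.Agent.LsF.finFintype_eq, Cfsg.Agent.LsF.dPi_eq, Cfsg.Agent.LsF.instZMul_pat, Cfsg.Agent.LsF.decLt_eq, Cfsg.Agent.LsF.dAnd_eq, Cfsg.Agent.LsF.dNot_eq, Cfsg.Agent.LsF.dForallFin_eq, Cfsg.Agent.LsF.decide_eq])); decide +kernel)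

theorem nz_u0 : nz chevE8 u0 = 40 := by (refine of_decide_eq_true ?_; (try (rewrite [Cfsg.Agent.LsF.f822b56_18.2, Cfsg.Agent.LsF.f822b56_6.2, Cfsg.Agent.LsF.instDecEq_eq, Cfsg.Agent.LsF.decide_eq])); decide +kernel)

theorem nz_cor : ∀ i, 40 < nz chevE8 (Pl.cz 5 (cartanOf chevE8 8 i)) := by (delta Cfsg.Agent.ChevalleyStructure.RootVecTab.packTab Cfsg.Agent.ChevalleyStructure.RootVec.rt Cfsg.Agent.TO.X7.nz Cfsg.Agent.ChevalleyStructure.RootVecTab.code Cfsg.Agent.TO.X.vl Cfsg.Agent.ChevalleyStructure.CoxeterGeomTypes.cartanOf Cfsg.Agent.Nodes.RGDChev.vec; refine of_decide_eq_true ?_; rewrite [H90F.dl_fun, H90F.dn_fun, H90F.si_fun, H90F.ca_fun, H90F.ff_fun, H90F.sm_fun]; ((try (rewrite [Cfsg.Agent.LsF.f822b56_1.2, Cfsg.Agent.LsF.nmul_pat, Cfsg.Agent.LsF.nsub_pat, Cfsg.Agent.LsF.npow_pat, Cfsg.Agent.LsF.isub_pat, Cfsg.Agent.LsF.icast_pat, Cfsg.Agent.LsF.zmul_pat, Cfsg.Agent.LsF.zdecEq_eq, Cfsg.Agent.LsF.finFintype_eq,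 Cfsg.Agent.LsF.fcard_eq, Cfsg.Agent.LsF.ffilter_eq, Cfsg.Agent.LsF.frange_eq, Cfsg.Agent.LsF.zACM_pat, Cfsg.Agent.LsF.dAnd_eq, Cfsg.Agent.LsF.ite_eq, Cfsg.Agent.LsF.decide_eq])); decide +kernel))

theorem u0_ne : u0 ≠ 0 := by decide

theorem ip_eq (a b : Fin 8 → ℤ) : (a ᵥ* Cm) ⬝ᵥ b = ip a b := by
  simp only [vecMul, dotProduct, Fin.sum_univ_eight, Cm, ip, of_apply, cons_val]
  ring

theorem gram {W : Matrix (Fin 8) (Fin 8) ℤ} (hW : WM chevE8 8 W) : W * Cm * Wᵀ = Cm :=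
  Pl.WM.ind (P := fun W => W * Cm * Wᵀ = Cm) (by rw [transpose_one, one_mul, mul_one]) (fun i W _ h => by
    conv_rhs => rw [← sM_Cm i, ← h]
    simp only [transpose_mul, mul_assoc]) hW

/-- the pointwise stabiliser of the plane -/
theorem stab {W : Matrix (Fin 8) (Fin 8) ℤ} (hW : WM chevE8 8 W) (h1 : mv W u0 = u0) (h2 : mv W x0 = x0) :
    ∃ i, Gm i = W := by
  have g : ∀ i j, ip (W i) (W j) = Cm i j := fun i j => (ip_eq _ _).symm.trans (congrFun (congrFun (gram hW) i) j)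
  have r : ∀ i, ∃ s < 240, _root_.Cfsg.Agent.Nodes.RGDChev.vec chevE8 8 s = W i := fun i => by
    obtain ⟨w, rfl⟩ := (wM_iff hpE8).1 hW
    have h := rt_wm hpE8 (rt_sr hpE8 i) w
    rwa [sr, single_one_vecMul] at h
  have k1 : ∀ i, u0 i = 0 → x0 i = 1 → W i ∈ K1 := fun i a b => by
    obtain ⟨s, hs, e⟩ := r i
    exact e ▸ (cls s hs).1 (e ▸ (congrFun h1 i).trans a) (e ▸ (congrFun h2 i).trans b)
  have k2 : ∀ i, u0 i = 1 → x0 i = 0 → W i ∈ K2 := fun i a b => by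
    obtain ⟨s, hs, e⟩ := r i
    exact e ▸ (cls s hs).2 (e ▸ (congrFun h1 i).trans a) (e ▸ (congrFun h2 i).trans b)
  obtain ⟨i, h⟩ := srch _ (k1 0 rfl rfl) _ (k1 1 rfl rfl) (g 1 0)
    _ (k1 2 rfl rfl) ⟨g 2 1, g 2 0⟩
    _ (k1 3 rfl rfl) ⟨g 3 2, g 3 1, g 3 0⟩
    _ (k2 4 rfl rfl) ⟨g 4 3, g 4 2, g 4 1, g 4 0⟩
    _ (k1 5 rfl rfl) ⟨g 5 4, g 5 3, g 5 2, g 5 1, g 5 0⟩
    _ (k1 6 rfl rfl) ⟨g 6 5, g 6 4, g 6 3, g 6 2, g 6 1, g 6 0⟩
    _ (k1 7 rfl rfl) ⟨g 7 6, g 7 5, g 7 4, g 7 3, g 7 2, g 7 1, g 7 0⟩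
   
  refine ⟨i, h.trans (funext fun a => ?_)⟩
  fin_cases a <;> rfl

theorem ph_Gm {i : Fin 5} (h : i ≠ 0) : Ph (Gm i) = 0 := by
  rw [Ph, pow_succ _ 3, pow_succ _ 2, pow_two, law, law, law, Gm_sum i h]

theorem mem_of_fix {i : Fin 5} (h : i ≠ 0) {v : Fin 8 → ZMod 5} (hv : mv (Gm i) v = v) :
    v ∈ Submodule.span (ZMod 5) {u0, x0} := by
  have h1 : mv (Gm i - 1) v = 0 := by
    have h2 := hv
    rw [mv] at h2 ⊢
    rw [Matrix.map_sub _ Int.cast_sub, Matrix.map_one _ Int.cast_zero Int.cast_one, sub_mulVec, one_mulVec, h2, sub_self]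
  have h2 := mv_mul (Pm i) (Gm i - 1) v
  rw [h1, Pl.mv_zero, mv, cert i h, sub_mulVec, sub_mulVec, one_mulVec, vecMulVec_mulVec, vecMulVec_mulVec, sub_sub,
    sub_eq_zero] at h2
  exact Submodule.mem_span_pair.2 ⟨Pi.single 4 1 ⬝ᵥ v, Pi.single 0 1 ⬝ᵥ v, by
    rw [op_smul_eq_smul, op_smul_eq_smul] at h2
    exact h2.symm⟩

/-- **the scalars on the plane** -/
theorem dich {W : Matrix (Fin 8) (Fin 8) ℤ} (hW : WM chevE8 8 W) {c : ZMod 5} (h1 : c • mv W u0 = u0)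
    (h2 : c • mv W x0 = x0) :
    (∃ ε : ℤ, (ε = 1 ∨ ε = -1) ∧ (ε : ZMod 5) * c = 1 ∧ Ph (ε • W) = 0 ∧
      ∀ v : Fin 8 → ZMod 5, c • mv W v = v → v ∈ Submodule.span (ZMod 5) {u0, x0}) ∨
      ∃ v : Fin 8 → ZMod 5, c • mv W v = v ∧ v ≠ 0 ∧ 40 < nz chevE8 v := by
  have h0 : c ≠ 0 := fun e => u0_ne (h1.symm.trans (by rw [e, zero_smul]))
  obtain ⟨ε, hε, hc⟩ : ∃ ε : ℤ, (ε = 1 ∨ ε = -1) ∧ (c = ε ∨ c = 2 * ε) := by
    have h : ∀ c : ZMod 5, c ≠ 0 → (c = (1 : ℤ) ∨ c = 2 * (1 : ℤ)) ∨ (c = (-1 : ℤ) ∨ c = 2 * (-1 : ℤ)) := by decide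
    exact (h c h0).elim (fun h => ⟨1, Or.inl rfl, h⟩) fun h => ⟨-1, Or.inr rfl, h⟩
  have h3 : WM chevE8 8 (ε • W) := by
    rcases hε with rfl | rfl
    · rwa [one_smul]
    · rw [neg_one_smul, ← neg_one_mul]
      exact WM.mul ⟨_, neg_E8.symm⟩ hW
  rcases hc with rfl | rfl
  · obtain ⟨i, h⟩ := stab h3 (by rw [smul_mv, h1]) (by rw [smul_mv, h2])
    simp only [← smul_mv, ← h]
    by_cases h4 : i = 0
    · exact Or.inr ⟨vv 0, by rw [h4, Gm_zero, mv_one], (vv_eig 0).2⟩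
    · exact Or.inl ⟨ε, hε, by rcases hε with rfl | rfl <;> rfl, h ▸ ph_Gm h4, fun v => mem_of_fix h4⟩
  · obtain ⟨i, h⟩ := stab (h3.mul Jm_wm) (by rw [mv_mul, Jm_eig.1, mv_smul, smul_mv, smul_smul, h1])
      (by rw [mv_mul, Jm_eig.2, mv_smul, smul_mv, smul_smul, h2])
    refine Or.inr ⟨vv i, ?_, (vv_eig i).2⟩
    conv_rhs => rw [← (vv_eig i).1, h, ← mv_mul, mul_assoc, Jm_sq, mul_neg_one, ← neg_smul, smul_mv, smul_smul]
    congr 1
    rw [Int.cast_neg, mul_neg, ← neg_mul]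
    rfl

end Cfsg.Agent.TO.X5E
end

-- part: TO/X5E/Main
section
/-!
# S4817, `E₈`, `p = 5` : the plane of type `A₄ A₄` does not occur (helper36)
-/

set_option autoImplicit false
set_option linter.unusedSectionVars false
set_option maxHeartbeats 400000

namespace Cfsg.Agent.TO.X5E

open Cfsg Cfsg.Lie Matrix Cfsg.Agent.DL Cfsg.Agent.Nodes.RGDChev Cfsg.Agent.KZ.DatX Cfsg.Agent.TO.X
  Cfsg.Agent.ChevalleyStructure.CoxeterGeomTypes
open Cfsg.Agent.BHZ.Nil (KK)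
open Cfsg.Agent.TO.X11 (Em Co ev)
open Cfsg.Agent.TO.X7 (nz)

theorem p5 : Nat.Prime 5 := by norm_num

theorem cor_ne : ∀ i, Pl.cz 5 (cartanOf chevE8 8 i) ≠ 0 := by (delta Cfsg.Agent.ChevalleyStructure.CoxeterGeomTypes.cartanOf; refine of_decide_eq_true ?_; rewrite [H90F.si_fun, H90F.ca_fun, H90F.ff_fun, H90F.pi_fun]; decide +kernel)

variable [Fact (Nat.Prime 5)] {r e : ℕ} [Fact r.Prime] {k : Type} [Field k] [CharP k r] [IsAlgClosed k]
  {X : XF hpE8 r k ((r : ℤ) ^ e • 1)}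

theorem cor_big {b : Fin 8 → ℤ} (hb : X.D.Rt b) :
    Pl.cz 5 (l := 8) (X.D.cor b) ≠ 0 ∧ 40 < nz chevE8 (Pl.cz 5 (l := 8) (X.D.cor b)) := by
  obtain ⟨w, i, rfl⟩ := hb
  have h1 : Pl.cz 5 (cartanOf chevE8 8 i) = mv (wm X w⁻¹ * 1) (Pl.cz 5 (l := 8) (X.D.cor (X.D.act w (Tits.Roots.sr i)))) := by
    have h2 : X.D.cor (X.D.act w (Tits.Roots.sr i)) = wm X w *ᵥ cartanOf chevE8 8 i := X.D.cor_act_sr w i
    have h3 : wm X w⁻¹ * wm X w = 1 :=
      (map_mul (wm X) _ _).symm.trans ((congrArg _ (inv_mul_cancel _)).trans (map_one _))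
    rw [h2, ← Pl.mv_cz, ← mv_mul, mul_one, h3, mv_one]
  exact ⟨fun h => cor_ne i (h1.trans ((congrArg _ h).trans (Pl.mv_zero _))), (nz_cor i).trans_le
    (X7.nz_cj hpE8 ⟨_, 1, WM_wm X w⁻¹, ⟨1, by norm_num, 1, List.mem_singleton_self _, (one_smul _ _).symm⟩, h1⟩)⟩

theorem aa₀ {G : Type} [Group G] [Finite G] (s : XS X (AdmF r) 1 G) {ζ : kˣ} (hζ : IsPrimitiveRoot ζ 5) (hr : 5 ≠ r)
    {M : Ideal AlgInt} {b : Set (IrrCharacter G)} {D : Subgroup G} (H : Two 5 M b D) (hG : commutator G = ⊤)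
    {Γ : Subgroup (MulAut G)} (P : Pure 5 G Γ D) (E : Tor X) (h1 : u0 ∈ vs s hζ E D) (h2 : x0 ∈ vs s hζ E D) : False := by
  have hA : ∀ A : Matrix (Fin 8) (Fin 8) ℤ, AdmF r A → AdmS 5 [1] A := fun _ => admS_of_admF p5 Fact.out hr
  let T : Co (X7.em (p := 5) s (Nat.coprime_one_left 5)) (D ⊓ E.T.comap s.ι) :=
    ⟨E.y, trivial, E.w, X.D.rp_pr E.hF, ζ, hζ, fun u hu => let ⟨v, _, h⟩ := exists_vec s hζ P E hu.1 hu.2; ⟨v, h⟩⟩
  have h3 : ∀ v ∈ vs s hζ E D, v ∈ T.B := fun v ⟨a, ha, h⟩ => ⟨a, ⟨ha, show s.ι a ∈ E.T from h ▸ E.e_mem ζ v⟩, h⟩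
  have h4 := h3 _ h1
  have h5 := h3 _ h2
  have h6 : X.D.Sz T.Z = ∅ := by
    refine Set.eq_empty_of_forall_notMem fun a ha => ?_
    obtain ⟨a1, a2⟩ := T.mem_Sz.1 ha
    obtain ⟨t, ht, rfl⟩ := (X.rt_iff a).1 a1
    exact reg t ht ⟨a2 _ h4, a2 _ h5⟩
  have h7 : ∀ v : Fin 8 → ZMod 5, X11.mv (X.D.Wm T.w * X.D.Mx) v = (((r : ℤ) ^ e : ℤ) : ZMod 5) • mv (wm X E.w) v :=
    fun v => (mv_mul (l := 8) (wm X E.w) ((r : ℤ) ^ e • 1) v).trans (by rw [smul_mv, mv_one, mv_smul])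
  have h8 : ∀ a ∈ KK 5 D, ∀ (y : ↥(chevE8.group k)) (v : Fin 8 → ZMod 5), s.ι a = y * X.D.τ (ev ζ v) * y⁻¹ → v ≠ 0 →
      ¬ 40 < nz chevE8 v := fun a ha y v h h0 => by
    obtain ⟨d, hd, h9⟩ := h1
    obtain ⟨α, -, rfl⟩ := P.conj d (le_KK hd) a ha (pElt_of_e s hζ E h9) (FO.pElt_of_pow (k := 1) (ι_inj s (by
        rw [pow_one, map_pow, h, conj_pow, map_one, conj_eq_one_iff]
        exact (map_pow X.D.τ _ _).symm.trans ((congrArg _ (X11.ev_pow hζ _)).trans (map_one _)))))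
      (ne_one_of_e s hζ E h9 u0_ne) (fun h10 => h0 (X11.ev_inj hζ (X.D.τ_inj (by
        rw [h10, map_one, eq_comm, conj_eq_one_iff] at h
        exact h.trans ((map_one _).symm.trans (congrArg _ (X11.ev_zero hζ).symm))))))
    obtain ⟨z, A, h10, h11⟩ := conj_form T α h9 (y := y) trivial h
    exact not_lt.2 ((X7.nz_cj hpE8 ⟨_, A, WM_wm X z, hA A h10, h11⟩).trans nz_u0.le)
  rcases dich (WM_wm X E.w) ((h7 _).symm.trans (T.fix h4)) ((h7 _).symm.trans (T.fix h5)) with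
    ⟨ε, e1, e2, e3, e4⟩ | ⟨v, e1, e2, e3⟩
  · have K : Hy T ((r : ℤ) ^ e) ε := ⟨h6, rfl, e1, (Int.cast_mul _ _).trans e2, e3, fun v hv =>
      (Submodule.span_le.2 (by rintro _ (rfl | rfl) <;> assumption) : _ ≤ T.B) (e4 v ((h7 v).symm.trans hv)),
      Pl.rkE85 ((X7.pureSp P inf_le_left T).mono hA)⟩
    exact K.false_of blk ((K.eq P inf_le_left fun a ha y _ c hc h =>
      h8 a ha y _ h (cor_big hc).1 (cor_big hc).2).symm ▸ H) hG
  · obtain ⟨a, ha⟩ := (X7.em (p := 5) s (Nat.coprime_one_left 5)).pw (T.t (ev ζ v))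
      (mem_GF.2 ⟨T.t_mem _, (T.F_t _).trans (congrArg T.t ((X11.ev_mv hζ _ _).symm.trans (congrArg _ ((h7 v).trans e1))))⟩)
      ((T.t_pow _ _).symm.trans ((congrArg T.t (X11.ev_pow hζ _)).trans T.t_one))
    exact h8 a (Tr_le_KK T h6 inf_le_left ⟨_, ha⟩) E.y v ha e2 e3

/-- **the plane of type `A₄ A₄`** -/
theorem aa {S : Type} [Group S] (s : XS X (AdmF r) 1 S) {ζ : kˣ} (hζ : IsPrimitiveRoot ζ 5) (hr : 5 ≠ r)
    {G : Type} [Group G] [Finite G] {σ : G →* S} {M : Ideal AlgInt} {b : Set (IrrCharacter G)} {D : Subgroup G}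
    (H : Hyp 5 M b D σ) (hσ : Function.Bijective σ) (E : Tor X) (h1 : u0 ∈ vs s hζ E (D.map σ))
    (h2 : x0 ∈ vs s hζ E (D.map σ)) : False := by
  have P := blk.pure G 5 M b D G (MonoidHom.id G)
    { H with surj := Function.surjective_id
             ker := by rw [← H.ker, (MonoidHom.ker_eq_bot_iff σ).2 hσ.1, MonoidHom.ker_id] }
  rw [Subgroup.map_id] at P
  have h3 : ∀ v ∈ vs s hζ E (D.map σ), v ∈ vs (s.congr (MulEquiv.ofBijective σ hσ)) hζ E D := by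
    rintro v ⟨_, ⟨d, hd, rfl⟩, h⟩
    exact ⟨d, hd, h⟩
  exact aa₀ _ hζ hr H.toTwo H.perf P E (h3 _ h1) (h3 _ h2)

end Cfsg.Agent.TO.X5E

namespace Cfsg.Agent.TO.X5E

open Cfsg Cfsg.Lie Cfsg.Agent.Nodes.RGDChev Cfsg.Agent.KZ.DatX Cfsg.Agent.TO.X

/-- the plane of type `D₆` does not occur -/
def BoxD6 : Prop := ∀ [Fact (Nat.Prime 5)] (r e : ℕ) [Fact r.Prime] (k : Type) [Field k] [CharP k r] [IsAlgClosed k]
  (X : XF hpE8 r k ((r : ℤ) ^ e • 1)) (S : Type) [Group S] [Finite S] (s : XS X (AdmF r) 1 S) (ζ : kˣ)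
  (hζ : IsPrimitiveRoot ζ 5), 5 ≠ r → ∀ (G : Type) [Group G] [Finite G] (σ : G →* S) (M : Ideal AlgInt)
  (b : Set (IrrCharacter G)) (D : Subgroup G), Hyp 5 M b D σ → Function.Bijective σ → ∀ E : Tor X,
    (![4, 0, 4, 2, 0, 1, 0, 0] : Fin 8 → ZMod 5) ∈ vs s hζ E (D.map σ) →
    (![0, 3, 0, 4, 4, 3, 0, 0] : Fin 8 → ZMod 5) ∈ vs s hζ E (D.map σ) → False

theorem e8_of (h : BoxD6) : RE8 5 := by
  intro F _ _ r e _ _ hF hr G _ _ σ M b D H
  have := Fact.mk p5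
  obtain ⟨k, _, _, _, X, ⟨s⟩⟩ := has_E8 hF
  obtain ⟨ζ, hζ⟩ := exists_prim (r := r) k (n := 5) fun h1 => hr ((Nat.prime_dvd_prime_iff_eq Fact.out p5).1 h1).symm
  obtain ⟨E, a, c, u, x, ha, hc, -, h1, h2, h3⟩ := exists_plane s hζ (blk.pure G 5 M b D _ σ H)
    (conn_of_pm X Cn.pm_E8 (Nat.coprime_one_right 5)) hr
  rcases Pl.plE85 (h3.mono fun _ => admS_of_admF p5 Fact.out hr) with ⟨W, hW, h4⟩ | ⟨W, hW, h4⟩
  · obtain ⟨E', -, -, h5, h6⟩ := exists_std s hζ E ⟨a, ha, h1⟩ ⟨c, hc, h2⟩ hW h4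
    exact h r e k X _ s ζ hζ hr G σ M b D H (zd_E8.inj H) E' h5 h6
  · obtain ⟨E', -, -, h5, h6⟩ := exists_std s hζ E ⟨a, ha, h1⟩ ⟨c, hc, h2⟩ hW h4
    exact aa s hζ hr H (zd_E8.inj H) E' h5 h6

end Cfsg.Agent.TO.X5E
end

-- part: TO/X5/LatX
section
/-!
# S4817, exceptional groups, `p = 5` : the normaliser of the plane in the Weyl group (helper34)
-/

set_option autoImplicit false
set_option linter.unusedSectionVars false
set_option maxHeartbeats 200000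

namespace Cfsg.Agent.TO.X5

open CoxeterSystem Cfsg Cfsg.Lie Cfsg.Lie.ChevalleyDatum Matrix
open Cfsg.Agent.ChevalleyStructure Cfsg.Agent.ChevalleyStructure.Elts Cfsg.Agent.ChevalleyStructure.CoxeterGeom
  Cfsg.Agent.ChevalleyStructure.CoxeterGeomTypes
open Cfsg.Agent.Tits.Roots Cfsg.Agent.Nodes Cfsg.Agent.Nodes.RGDChev Cfsg.Agent.Nodes.Coroot Cfsg.Agent.TO.X
open Cfsg.Agent.DL Cfsg.Agent.KZ.DatX

theorem fact5 : Fact (Nat.Prime 5) := ⟨by norm_num⟩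

attribute [local instance] fact5

variable {C : ChevalleyDatum} {l : ℕ} {M : CoxeterMatrix (Fin l)} {hp : IsType C l M} {r : ℕ} [Fact r.Prime]
  {k : Type} [Field k] [CharP k r] [IsAlgClosed k] {Mx : Matrix (Fin l) (Fin l) ℤ} (X : XF hp r k Mx)
  {u x : Fin l → ZMod 5} {rt : P5 → Fin l → ℤ}

variable (hp) in
/-- the action of the Weyl group on the characters -/
noncomputable abbrev ac (z : M.Group) (a : Fin l → ℤ) : Fin l → ℤ := rep M.toCoxeterSystem hp.isCartan z a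

/-- the plane -/
def BB (u x : Fin l → ZMod 5) : Submodule (ZMod 5) (Fin l → ZMod 5) := Submodule.span (ZMod 5) {u, x}

/-- the roots of `D₄` -/
def Del (rt : P5 → Fin l → ℤ) : Set (Fin l → ℤ) := {a | ∃ c, c ≠ 0 ∧ a = rt c}

theorem mem_BB {v : Fin l → ZMod 5} : v ∈ BB u x ↔ ∃ i j : ZMod 5, i • u + j • x = v := Submodule.mem_span_pair

theorem u_mem : u ∈ BB u x := mem_BB.2 ⟨1, 0, by rw [one_smul, zero_smul, add_zero]⟩

theorem x_mem : x ∈ BB u x := mem_BB.2 ⟨0, 1, by rw [one_smul, zero_smul, zero_add]⟩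

theorem vl_pv (a : Fin l → ℤ) (i j : ZMod 5) : vl a (i • u + j • x) = i * (cl u x a).1 + j * (cl u x a).2 := by
  rw [vl_add, vl_smul, vl_smul]
  rfl

theorem vl_ac (z : M.Group) (a : Fin l → ℤ) (v : Fin l → ZMod 5) : vl (ac hp z a) (mv (wm X z) v) = vl a v := by
  rw [← vl_vecMul]
  exact congrArg (vl · v) (X.D.wt_act z a)

theorem ac_mul (z z' : M.Group) (a : Fin l → ℤ) : ac hp (z * z') a = ac hp z (ac hp z' a) := rep_mul_apply _ _ _ _ _

theorem ac_one (a : Fin l → ℤ) : ac hp 1 a = a := by rw [ac, map_one, Module.End.one_apply]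

theorem rt_iff' {a : Fin l → ℤ} : TO.X.Rt C l a ↔ IsRoot M.toCoxeterSystem hp.isCartan a := (isRoot_iff hp _ a).symm

theorem rt_ac (z : M.Group) {a : Fin l → ℤ} (ha : TO.X.Rt C l a) : TO.X.Rt C l (ac hp z a) :=
  (rt_iff' (hp := hp)).2 (((rt_iff' (hp := hp)).1 ha).act z)

theorem cp_ac (z : M.Group) (b : Fin l → ℤ) {a : Fin l → ℤ} (ha : TO.X.Rt C l a) :
    cp hp (ac hp z b) (ac hp z a) = cp hp b a :=
  have := finite_W hp M.toCoxeterSystem
  cpr_rep _ _ z b ((rt_iff' (hp := hp)).1 ha)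

theorem mv_wm (z z' : M.Group) (v : Fin l → ZMod 5) : mv (wm X (z * z')) v = mv (wm X z) (mv (wm X z') v) := by
  rw [map_mul, mv_mul]

variable (u x) in
/-- the elements which preserve the plane -/
def Pre (z : M.Group) : Prop := ∀ v ∈ BB u x, mv (wm X z) v ∈ BB u x

variable {X} {z z' : M.Group}

theorem Pre.mul (h : Pre X u x z) (h' : Pre X u x z') : Pre X u x (z * z') := fun v hv => by
  rw [mv_wm]
  exact h _ (h' v hv)

theorem Pre.pow (h : Pre X u x z) (n : ℕ) : Pre X u x (z ^ n) := by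
  induction n with
  | zero => intro v hv; rwa [pow_zero, map_one, mv_one]
  | succ n ih => rw [pow_succ]; exact ih.mul h

theorem Pre.inv (h : Pre X u x z) : Pre X u x z⁻¹ := by
  have := finite_W hp M.toCoxeterSystem
  obtain ⟨n, hn⟩ := (isOfFinOrder_of_finite z).mem_powers_iff_mem_zpowers.2 (inv_mem (Subgroup.mem_zpowers z))
  exact hn ▸ h.pow n

theorem Pre.exists_cl (h : Pre X u x z) : ∃ m, ∀ a, cl u x (ac hp z a) = lm m (cl u x a) := by
  obtain ⟨i, j, h1⟩ := mem_BB.1 (h.inv u u_mem)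
  obtain ⟨i', j', h2⟩ := mem_BB.1 (h.inv x x_mem)
  have h3 : ∀ a v, vl (ac hp z a) v = vl a (mv (wm X z⁻¹) v) := fun a v => by
    rw [← vl_ac X z a, ← mv_wm, mul_inv_cancel, map_one, mv_one]
  exact ⟨((i, j), (i', j')), fun a => Prod.ext ((h3 a u).trans (by rw [← h1, vl_pv]; rfl))
    ((h3 a x).trans (by rw [← h2, vl_pv]; rfl))⟩

theorem lm_zero (m : P5 × P5) : lm m 0 = 0 := by simp [lm]

variable (T : Tb hp u x rt)
include T

theorem Tb.ext {v v' : Fin l → ZMod 5} (hv : v ∈ BB u x) (hv' : v' ∈ BB u x)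
    (h1 : vl (rt (1, 0)) v = vl (rt (1, 0)) v') (h2 : vl (rt (0, 1)) v = vl (rt (0, 1)) v') : v = v' := by
  obtain ⟨i, j, rfl⟩ := mem_BB.1 hv
  obtain ⟨i', j', rfl⟩ := mem_BB.1 hv'
  rw [vl_pv, vl_pv, T.cl_rt _ (by decide)] at h1 h2
  simp only [mul_one, mul_zero, add_zero, zero_add] at h1 h2
  rw [h1, h2]

/-- **the normaliser of the plane preserves `D₄`** -/
theorem Tb.exists_lm (h : Pre X u x z) : ∃ m, Gp m ∧ (∀ a, cl u x (ac hp z a) = lm m (cl u x a)) ∧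
    ∀ c, c ≠ 0 → lm m c ≠ 0 ∧ ac hp z (rt c) = rt (lm m c) := by
  obtain ⟨m, hm⟩ := h.exists_cl
  obtain ⟨m', hm'⟩ := h.inv.exists_cl
  have e : ∀ a, ac hp z⁻¹ (ac hp z a) = a := fun a => by rw [← ac_mul, inv_mul_cancel, ac_one]
  have e' : ∀ a, ac hp z (ac hp z⁻¹ a) = a := fun a => by rw [← ac_mul, mul_inv_cancel, ac_one]
  have key : ∀ c, c ≠ 0 → lm m c ≠ 0 ∧ ac hp z (rt c) = rt (lm m c) := fun c hc => by
    have h1 : cl u x (ac hp z (rt c)) = lm m c := by rw [hm, T.cl_rt c hc]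
    have h2 : lm m' (lm m c) = c := by rw [← h1, ← hm', e, T.cl_rt c hc]
    have h3 : lm m c ≠ 0 := fun e0 => hc (by rw [← h2, e0, lm_zero])
    refine ⟨h3, ?_⟩
    rw [← h1] at h3 ⊢
    refine (T.chr _ (rt_ac z (T.root c hc)) h3).2 fun b hb b1 b2 => ?_
    rw [← e' b, cp_ac z _ (T.root c hc)]
    refine (T.chr _ (T.root c hc) (by rwa [T.cl_rt c hc])).1 (by rw [T.cl_rt c hc]) _ (rt_ac _ hb)
      (fun e0 => b1 (by rw [← e0, e'])) ?_
    rw [hm', b2, h1, h2, T.cl_rt c hc]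
  refine ⟨m, fun a => ?_, hm, key⟩
  by_cases ha : a = 0
  · rw [ha, lm_zero]
    rfl
  · have h0 : ((1, 0) : P5) ≠ 0 := by decide
    rw [← T.gram _ _ (key a ha).1 (key _ h0).1, ← (key a ha).2, ← (key _ h0).2, cp_ac z _ (T.root _ h0), T.gram _ _ ha h0]

theorem Tb.ac_mem (h : Pre X u x z) {a : Fin l → ℤ} (ha : a ∈ Del rt) : ac hp z a ∈ Del rt := by
  obtain ⟨m, -, -, h1⟩ := T.exists_lm h
  obtain ⟨c, hc, rfl⟩ := ha
  exact ⟨_, (h1 c hc).1, (h1 c hc).2⟩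

/-- scalars -/
theorem Tb.scal {s s' : ZMod 5} (hs : s' * s = 1) (h : ∀ v ∈ BB u x, mv (wm X z) v = s • v) {c : P5} (hc : c ≠ 0) :
    ac hp z (rt c) = rt (s' • c) := by
  obtain ⟨m, -, h1, h2⟩ := T.exists_lm (X := X) (z := z) fun v hv => h v hv ▸ (BB u x).smul_mem s hv
  have h3 : ∀ v ∈ BB u x, vl (ac hp z (rt c)) v = s' * vl (rt c) v := fun v hv => by
    rw [← vl_ac X z (rt c) v, h v hv, vl_smul, ← mul_assoc, hs, one_mul]
  have h4 : cl u x (ac hp z (rt c)) = s' • cl u x (rt c) := Prod.ext (h3 u u_mem) (h3 x x_mem)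
  rw [h1, T.cl_rt c hc] at h4
  rw [(h2 c hc).2, h4]

theorem Tb.fix_of (h : Pre X u x z) (h1 : ac hp z (rt (1, 0)) = rt (1, 0)) (h2 : ac hp z (rt (0, 1)) = rt (0, 1))
    {v : Fin l → ZMod 5} (hv : v ∈ BB u x) : mv (wm X z) v = v :=
  T.ext (h v hv) hv (by rw [← vl_ac X z _ v, h1]) (by rw [← vl_ac X z _ v, h2])

omit T in
theorem ac_pow {m : P5 × P5} (h : ∀ c, c ≠ 0 → lm m c ≠ 0 ∧ ac hp z (rt c) = rt (lm m c)) (n : ℕ) {c : P5} (hc : c ≠ 0) :
    (lm m)^[n] c ≠ 0 ∧ ac hp (z ^ n) (rt c) = rt ((lm m)^[n] c) := by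
  induction n with
  | zero => exact ⟨hc, by rw [pow_zero, ac_one]; rfl⟩
  | succ n ih => rw [pow_succ', ac_mul, ih.2, Function.iterate_succ_apply']; exact h _ ih.1

theorem Tb.inj {a b : P5} (ha : a ≠ 0) (hb : b ≠ 0) (h : rt a = rt b) : a = b := by
  rw [← T.cl_rt a ha, h, T.cl_rt b hb]

/-- no transvections -/
theorem Tb.five (h : Pre X u x z) (h5 : ∀ v ∈ BB u x, mv (wm X (z ^ 5)) v = v) : ∀ v ∈ BB u x, mv (wm X z) v = v := by
  obtain ⟨m, hm, -, h2⟩ := T.exists_lm h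
  have h3 : ∀ c, c ≠ 0 → (lm m)^[5] c = c := fun c hc => T.inj (ac_pow h2 5 hc).1 hc (by
    rw [← (ac_pow h2 5 hc).2, T.scal (X := X) (mul_one 1) (fun v hv => by rw [h5 v hv, one_smul]) hc, one_smul])
  obtain rfl := gp_five m hm (h3 _ (by decide)) (h3 _ (by decide))
  exact fun v hv => T.fix_of h (h2 _ (by decide)).2 (h2 _ (by decide)).2 hv

/-- the stabiliser of a vector has exponent four -/
theorem Tb.four (h : Pre X u x z) {v₀ : Fin l → ZMod 5} (hv : v₀ ∈ BB u x) (h0 : v₀ ≠ 0) (h1 : mv (wm X z) v₀ = v₀) :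
    ∀ v ∈ BB u x, mv (wm X (z ^ 4)) v = v := by
  obtain ⟨m, hm, h2, h3⟩ := T.exists_lm h
  rcases gp_four m hm with h4 | h4
  · exact fun v hv => T.fix_of (h.pow 4) (by rw [(ac_pow h3 4 (by decide)).2, h4.1])
      (by rw [(ac_pow h3 4 (by decide)).2, h4.2]) hv
  · obtain ⟨i, j, rfl⟩ := mem_BB.1 hv
    have h5 : ∀ c, c ≠ 0 → i * (lm m c).1 + j * (lm m c).2 = i * c.1 + j * c.2 := fun c hc => by
      have h6 := vl_ac X z (rt c) (i • u + j • x)
      rwa [h1, vl_pv, vl_pv, h2, T.cl_rt c hc] at h6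
    have h6 := h5 (1, 0) (by decide)
    have h7 := h5 (0, 1) (by decide)
    simp only [lm, mul_one, mul_zero, add_zero, zero_add] at h6 h7
    have h8 := h4 (i, j) (Prod.ext h6 h7)
    rw [Prod.mk_eq_zero] at h8
    exact absurd (by rw [h8.1, h8.2, zero_smul, zero_smul, add_zero]) h0

/-- elements of order three -/
theorem Tb.three (h : Pre X u x z)
    (h3 : ∀ v ∈ BB u x, v + mv (wm X z) v + mv (wm X z) (mv (wm X z) v) = 0) {c : P5} (hc : c ≠ 0) :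
    cp hp (rt c) (ac hp z (rt c)) = -1 ∧ cp hp (ac hp z (rt c)) (rt c) = -1 ∧
      ac hp z (ac hp z (rt c)) = -(rt c + ac hp z (rt c)) := by
  obtain ⟨m, hm, h1, h2⟩ := T.exists_lm h
  have h4 : ∀ a, ∀ v ∈ BB u x, vl a v + vl (ac hp z a) v + vl (ac hp z (ac hp z a)) v = 0 := fun a v hv => by
    have h5 := congrArg (vl a) (h3 _ (h.inv _ (h.inv v hv)))
    have e : ∀ w, mv (wm X z) (mv (wm X z⁻¹) w) = w := fun w => by rw [← mv_wm, mul_inv_cancel, map_one, mv_one]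
    rw [vl_add, vl_add, ← vl_ac X z a (mv _ _), ← vl_ac X z a (mv (wm X z) _), e, e, ← vl_ac X z (ac hp z a) (mv _ _), e,
      show vl a (0 : Fin l → ZMod 5) = 0 by simp only [vl, _root_.Pi.zero_apply, _root_.MulZeroClass.mul_zero, _root_.Finset.sum_const_zero]] at h5
    linear_combination h5
  have h5 : ∀ b, b ≠ 0 → b + lm m b + lm m (lm m b) = 0 := fun b hb => by
    have h6 : cl u x (rt b) + cl u x (ac hp z (rt b)) + cl u x (ac hp z (ac hp z (rt b))) = 0 :=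
      Prod.ext (h4 _ u u_mem) (h4 _ x x_mem)
    rwa [h1 (ac hp z _), h1 (rt b), T.cl_rt b hb] at h6
  obtain ⟨h6, h7, h8⟩ := gp_three m hm (h5 _ (by decide)) (h5 _ (by decide)) c hc
  rw [(h2 c hc).2, (h2 _ (h2 c hc).1).2, h8, T.neg, T.add _ _ h6, T.gram _ _ hc (h2 c hc).1, T.gram _ _ (h2 c hc).1 hc]
  exact ⟨h6, h7, rfl⟩

end Cfsg.Agent.TO.X5
end

-- part: TO/X5/FoA
section
/-!
# S4817, exceptional groups, `p = 5` : the automorphisms which preserve the plane (helper34)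
-/

set_option autoImplicit false
set_option linter.unusedSectionVars false
set_option maxHeartbeats 200000

namespace Cfsg.Agent.TO.X5

open CoxeterSystem Cfsg Cfsg.Lie Cfsg.Lie.ChevalleyDatum Matrix
open Cfsg.Agent.ChevalleyStructure Cfsg.Agent.ChevalleyStructure.Elts Cfsg.Agent.ChevalleyStructure.CoxeterGeom
  Cfsg.Agent.ChevalleyStructure.CoxeterGeomTypes
open Cfsg.Agent.Tits.Roots Cfsg.Agent.Nodes Cfsg.Agent.Nodes.RGDChev Cfsg.Agent.Nodes.Coroot Cfsg.Agent.TO.X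
open Cfsg.Agent.DL Cfsg.Agent.KZ.DatX Cfsg.Agent.BpExc.Zc

attribute [local instance] fact5

variable {C : ChevalleyDatum} {l : ℕ} {M : CoxeterMatrix (Fin l)} {hp : IsType C l M} {r : ℕ} [Fact r.Prime]
  {k : Type} [Field k] [CharP k r] [IsAlgClosed k] {Mx : Matrix (Fin l) (Fin l) ℤ} {X : XF hp r k Mx}
  (E : Tor X) (ζ : kˣ) (u x : Fin l → ZMod 5) (rt : P5 → Fin l → ℤ)

/-- the plane in the torus -/
def Bt : Set ↥(C.group k) := E.e ζ '' (BB u x : Set (Fin l → ZMod 5))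

/-- the torus of `D₄` -/
noncomputable def Td : Subgroup ↥(C.group k) := TD E.D (Del rt)

/-- a point of the coroot torus -/
noncomputable def cT (a : Fin l → ℤ) (s : kˣ) : ↥(C.group k) := ct E.D a s

/-- plus or minus a power of the characteristic -/
def Pw (r : ℕ) (n : ℤ) : Prop := ∃ j : ℕ, n = (r : ℤ) ^ j ∨ n = -(r : ℤ) ^ j

/-- the form of an automorphism -/
structure Fo (β : MulAut ↥(C.group k)) (z : M.Group) (n : ℤ) (c : ↥(C.group k)) : Prop where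
  hc : c ∈ E.S (E.Sz (Bt E ζ u x))
  eq : ∀ y, β (E.τ y) = c * E.τ (mon (n • wm X z) y) * c⁻¹
  hn : Pw r n
  hB : ∀ v ∈ BB u x, β (E.e ζ v) ∈ Bt E ζ u x

variable {E ζ u x rt}

theorem Pw.ne_zero {n : ℤ} (h : Pw r n) : n ≠ 0 := by
  obtain ⟨j, rfl | rfl⟩ := h
  · exact pow_ne_zero _ (Int.natCast_ne_zero.2 (Fact.out : r.Prime).ne_zero)
  · exact neg_ne_zero.2 (pow_ne_zero _ (Int.natCast_ne_zero.2 (Fact.out : r.Prime).ne_zero))

theorem Pw.cast_ne (h5 : 5 ≠ r) {n : ℤ} (h : Pw r n) : (n : ZMod 5) ≠ 0 := by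
  have h1 : (r : ZMod 5) ≠ 0 := fun e =>
    h5 ((Nat.prime_dvd_prime_iff_eq (by norm_num) Fact.out).1 ((ZMod.natCast_eq_zero_iff r 5).1 e))
  obtain ⟨j, rfl | rfl⟩ := h
  · simpa only [_root_.Int.cast_pow, _root_.Int.cast_natCast, _root_.ne_eq, _root_.pow_eq_zero_iff', _root_.not_and, _root_.Decidable.not_not] using fun e => absurd e h1
  · simpa only [_root_.Int.cast_neg, _root_.Int.cast_pow, _root_.Int.cast_natCast, _root_.ne_eq, _root_.neg_eq_zero, _root_.pow_eq_zero_iff', _root_.not_and, _root_.Decidable.not_not] using fun e => absurd e h1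

theorem Pw.inj {n : ℤ} (h : Pw r n) {s : kˣ} (hs : s ^ n = 1) : s = 1 := by
  have h1 : ∀ j : ℕ, s ^ ((r : ℤ) ^ j) = 1 → s = 1 := fun j e => by
    have h2 : (s : k) ^ r ^ j = 1 := by
      rw [← Units.val_pow_eq_pow_val, ← zpow_natCast, Nat.cast_pow, e, Units.val_one]
    exact Units.ext (iterateFrobenius_inj k r j (by rw [iterateFrobenius_def, h2, Units.val_one, map_one]))
  obtain ⟨j, rfl | rfl⟩ := h
  · exact h1 j hs
  · exact h1 j (by rwa [_root_.zpow_neg, inv_eq_one] at hs)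

theorem Pw.mul {n m : ℤ} (h : Pw r n) (h' : Pw r m) : Pw r (n * m) := by
  obtain ⟨i, rfl | rfl⟩ := h <;> obtain ⟨j, rfl | rfl⟩ := h' <;> refine ⟨i + j, ?_⟩ <;> simp [pow_add]

theorem Bt_le : Bt E ζ u x ⊆ E.T := by
  rintro _ ⟨v, -, rfl⟩
  exact E.e_mem ζ v

theorem wm_cor (z : M.Group) {a : Fin l → ℤ} (ha : TO.X.Rt C l a) : wm X z *ᵥ E.cor a = E.cor (ac hp z a) := by
  rw [← E.Wm_eq]
  exact (E.D.cor_act z ((E.rt_iff a).2 ha)).symm

theorem ac_wm (z : M.Group) (a : Fin l → ℤ) : ac hp z a ᵥ* wm X z = a := X.D.wt_act z a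

theorem cT_eq (a : Fin l → ℤ) (s : kˣ) : cT E a s = E.τ (coch (E.cor a) s) := rfl

theorem Tb.drt (T : Tb hp u x rt) {a : Fin l → ℤ} (ha : a ∈ Del rt) : TO.X.Rt C l a := by
  obtain ⟨c, hc, rfl⟩ := ha
  exact T.root c hc

theorem Tb.dneg (T : Tb hp u x rt) {a : Fin l → ℤ} (ha : a ∈ Del rt) : -a ∈ Del rt := by
  obtain ⟨c, hc, rfl⟩ := ha
  exact ⟨-c, neg_ne_zero.2 hc, (T.neg c).symm⟩

theorem Tb.dlg (T : Tb hp u x rt) {a : Fin l → ℤ} (ha : a ∈ Del rt) : Lg E.D a := by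
  obtain ⟨c, hc, rfl⟩ := ha
  exact ⟨(E.rt_iff _).2 (T.root c hc), fun b hb h => (T.long c hc b ((E.rt_iff _).1 hb) h :)⟩

variable (hζ : IsPrimitiveRoot ζ 5)
include hζ

theorem mem_Bt {v : Fin l → ZMod 5} : E.e ζ v ∈ Bt E ζ u x ↔ v ∈ BB u x :=
  ⟨fun ⟨_, h, e⟩ => E.e_inj hζ e ▸ h, fun h => ⟨v, h, rfl⟩⟩

theorem mem_Psi {a : Fin l → ℤ} : a ∈ E.Sz (Bt E ζ u x) ↔ TO.X.Rt C l a ∧ cl u x a = 0 := by
  refine (E.mem_Sz_e hζ).trans (and_congr Iff.rfl ⟨fun h => Prod.ext (h u u_mem) (h x x_mem), fun h v hv => ?_⟩)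
  obtain ⟨i, j, rfl⟩ := mem_BB.1 hv
  rw [vl_pv, h]
  simp

theorem psi_orth (T : Tb hp u x rt) {b : Fin l → ℤ} (hb : b ∈ E.Sz (Bt E ζ u x)) {a : Fin l → ℤ} (ha : a ∈ Del rt) :
    cp hp b a = 0 := by
  obtain ⟨c, hc, rfl⟩ := ha
  obtain ⟨h1, h2⟩ := (mem_Psi hζ).1 hb
  exact (T.psi b h1).1 h2 c hc

theorem comm_Td (T : Tb hp u x rt) {c t : ↥(C.group k)} (hc : c ∈ E.S (E.Sz (Bt E ζ u x))) (ht : t ∈ Td E rt) :
    t * c = c * t :=
  comm_TD (D := E.D) (fun _ ha => (E.rt_iff _).2 (T.drt ha)) (fun _ hb => ⟨hb.1, fun _ ha => psi_orth hζ T hb ha⟩) hc ht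

theorem comm_Del (T : Tb hp u x rt) (cz : CommZ E.D.cs E.D.h E.D.X) {c y : ↥(C.group k)}
    (hc : c ∈ E.S (E.Sz (Bt E ζ u x))) {A : Set (Fin l → ℤ)} (hA : A ⊆ Del rt) (hy : y ∈ E.S A) : y * c = c * y :=
  comm_S (D := E.D) cz (fun _ ha => T.dlg (hA ha)) (fun _ hb => hb.1) (fun _ ha _ hb => psi_orth hζ T hb (hA ha)) hy hc

namespace Fo

variable {β : MulAut ↥(C.group k)} {z : M.Group} {n : ℤ} {c : ↥(C.group k)} (h : Fo E ζ u x β z n c)
include h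

theorem e {v : Fin l → ZMod 5} (hv : v ∈ BB u x) : β (E.e ζ v) = E.e ζ ((n : ZMod 5) • mv (wm X z) v) := by
  have h1 : β (E.e ζ v) * c = c * β (E.e ζ v) := E.cen_le Bt_le (E.D.S_le_cen _ h.hc) _ (h.hB v hv)
  have h2 : β (E.e ζ v) = c * E.e ζ (mv (n • wm X z) v) * c⁻¹ := (h.eq _).trans (by rw [E.τ_mon hζ])
  rw [← smul_mv, ← mul_left_cancel_iff (a := c), ← h1, h2, inv_mul_cancel_right]

theorem pre (h5 : 5 ≠ r) : Pre X u x z := fun v hv => by
  have h1 := h.hB v hv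
  rw [h.e hζ hv, mem_Bt hζ] at h1
  simpa [h.hn.cast_ne h5] using (BB u x).smul_mem (n : ZMod 5)⁻¹ h1

theorem td (T : Tb hp u x rt) (h5 : 5 ≠ r) {y : Fin l → kˣ} (hy : E.τ y ∈ Td E rt) :
    β (E.τ y) = E.τ (mon (n • wm X z) y) ∧ β (E.τ y) ∈ Td E rt := by
  have h1 : E.τ (mon (n • wm X z) y) ∈ Td E rt := mon_mem_TD (D := E.D) hy fun a ha =>
    ⟨_, T.ac_mem (h.pre hζ h5) ha, n, by
      show (n • wm X z) *ᵥ E.cor a = n • E.cor _
      rw [smul_mulVec, wm_cor z (T.drt ha)]⟩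
  have h2 : β (E.τ y) = E.τ (mon (n • wm X z) y) := by rw [h.eq, ← comm_Td hζ T h.hc h1, mul_inv_cancel_right]
  exact ⟨h2, h2 ▸ h1⟩

theorem S (T : Tb hp u x rt) (cz : CommZ E.D.cs E.D.h E.D.X) {A A' : Set (Fin l → ℤ)} (hA : A ⊆ Del rt)
    (hA' : A' ⊆ Del rt) (h1 : ∀ a ∈ A, ac hp z a ∈ A' ∧ -ac hp z a ∈ A') {y : ↥(C.group k)} (hy : y ∈ E.S A) :
    β y ∈ E.S A' := by
  have h2 : ∀ t, (MulAut.conj c⁻¹ * β) (E.τ t) = E.τ (mon (n • wm X z) t) := fun t => by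
    rw [MulAut.mul_apply, h.eq, MulAut.conj_apply]
    group
  have h3 : ∀ a t, E.χ (ac hp z a) (E.τ (mon (n • wm X z) t)) = 1 ↔ E.χ a (E.τ t) = 1 := fun a t => by
    rw [E.χ_τ, E.χ_τ, chr_mon, vecMul_smul, ac_wm, chr_zsmul, Units.val_eq_one, Units.val_eq_one]
    exact ⟨h.hn.inj, fun e => by rw [e, _root_.one_zpow]⟩
  have h4 : (n • wm X z).det ≠ 0 := by
    rw [det_smul]
    refine mul_ne_zero (pow_ne_zero _ h.hn.ne_zero) fun e => ?_
    have h5 := congrArg det (map_mul (wm X) z z⁻¹)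
    rw [mul_inv_cancel, map_one, det_one, det_mul, e, zero_mul] at h5
    exact one_ne_zero h5
  have h5 : (MulAut.conj c⁻¹ * β) y ∈ E.S A' := by
    refine map_S (D := E.D) (fun _ => Iff.rfl) (fun a ha => (E.rt_iff _).2 (T.drt (hA ha))) (fun a ha =>
      ⟨ac hp z a, (E.rt_iff _).2 (rt_ac z (T.drt (hA ha))), (h1 a ha).1, (h1 a ha).2, Set.ext fun t => ⟨?_, ?_⟩⟩) hy
    · rintro ⟨t, ⟨h6, h7⟩, rfl⟩
      obtain ⟨t, rfl⟩ := E.mem_T.1 h6
      rw [h2]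
      exact ⟨E.τ_mem _, (h3 a t).2 h7⟩
    · rintro ⟨h6, h7⟩
      obtain ⟨t, rfl⟩ := E.mem_T.1 h6
      obtain ⟨t, rfl⟩ := mon_surj h4 t
      exact ⟨_, ⟨E.τ_mem t, (h3 a t).1 h7⟩, h2 t⟩
  have h6 : β y = c * (MulAut.conj c⁻¹ * β) y * c⁻¹ := by
    rw [MulAut.mul_apply, MulAut.conj_apply]
    group
  rwa [h6, ← comm_Del hζ T cz h.hc hA' h5, mul_inv_cancel_right]

end Fo

omit hζ in
theorem range_eq {β : MulAut ↥(C.group k)} (hB : ∀ y, β y ∈ Bt E ζ u x ↔ y ∈ Bt E ζ u x) :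
    (Set.range fun t : Bt E ζ u x => β t.1) = Bt E ζ u x := Set.ext fun y =>
  ⟨by rintro ⟨t, rfl⟩; exact (hB _).2 t.2, fun h => ⟨⟨β.symm y, (hB _).1 (by rwa [β.apply_symm_apply])⟩,
    β.apply_symm_apply y⟩⟩

omit hζ in
/-- inner automorphisms -/
theorem fo_conj {y : ↥(C.group k)} (hB : ∀ t, y * t * y⁻¹ ∈ Bt E ζ u x ↔ t ∈ Bt E ζ u x) :
    ∃ z c, Fo E ζ u x (MulAut.conj y) z 1 c := by
  obtain ⟨c, hc, m, ⟨w, hm⟩, -, e⟩ := E.D.exists_conj_form (s := fun t : Bt E ζ u x => t.1)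
    (t := fun t : Bt E ζ u x => MulAut.conj y t.1) (fun t => Bt_le t.2) (fun t => Bt_le ((hB _).2 t.2))
    (Subgroup.mem_top y) fun t => by rw [MulAut.conj_apply, inv_mul_cancel_right]
  rw [range_eq (β := MulAut.conj y) hB] at hc
  refine ⟨w, c, hc, fun t => ?_, ⟨0, .inl (pow_zero _).symm⟩, fun v hv => (hB _).2 ⟨v, hv, rfl⟩⟩
  rw [one_smul, ← E.conj_τ (v := w) hm, MulAut.conj_apply, e]
  group

omit hζ in
/-- lifted automorphisms -/
theorem fo_lift {Adm : Matrix (Fin l) (Fin l) ℤ → Prop} {d : ℕ} {S : Type} [Group S] {s : XS X Adm d S}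
    (hA : ∀ A, Adm A → ∃ n z, Pw r n ∧ A = n • wm X z) {α : MulAut S} {β : MulAut ↥(C.group k)} (L : Lift s α β)
    (hB : ∀ y, β y ∈ Bt E ζ u x ↔ y ∈ Bt E ζ u x) : ∃ z n c, Fo E ζ u x β z n c := by
  obtain ⟨c, hc, w, A, h1, h2⟩ := L.form E E (t := fun t : Bt E ζ u x => t.1) (fun t => Bt_le t.2)
    fun t => Bt_le ((hB _).2 t.2)
  obtain ⟨n, z, h3, rfl⟩ := hA A h1
  rw [range_eq hB] at hc
  exact ⟨w * z, n, c, hc, fun t => by rw [h2, map_mul, Matrix.mul_smul], h3, fun v hv => (hB _).2 ⟨v, hv, rfl⟩⟩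

end Cfsg.Agent.TO.X5
end

-- part: TO/X5/FoB
section
/-!
# S4817, exceptional groups, `p = 5` : the action on the torus of `D₄` (helper34)
-/

set_option autoImplicit false
set_option linter.unusedSectionVars false
set_option maxHeartbeats 200000

namespace Cfsg.Agent.TO.X5

open CoxeterSystem Cfsg Cfsg.Lie Cfsg.Lie.ChevalleyDatum Matrix
open Cfsg.Agent.ChevalleyStructure Cfsg.Agent.ChevalleyStructure.Elts Cfsg.Agent.ChevalleyStructure.CoxeterGeom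
  Cfsg.Agent.ChevalleyStructure.CoxeterGeomTypes
open Cfsg.Agent.Tits.Roots Cfsg.Agent.Nodes Cfsg.Agent.Nodes.RGDChev Cfsg.Agent.Nodes.Coroot Cfsg.Agent.TO.X
open Cfsg.Agent.DL Cfsg.Agent.KZ.DatX Cfsg.Agent.BpExc.Zc

attribute [local instance] fact5

variable {C : ChevalleyDatum} {l : ℕ} {M : CoxeterMatrix (Fin l)} {hp : IsType C l M} {r : ℕ} [Fact r.Prime]
  {k : Type} [Field k] [CharP k r] [IsAlgClosed k] {Mx : Matrix (Fin l) (Fin l) ℤ} {X : XF hp r k Mx}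
  {E : Tor X} {ζ : kˣ} {u x : Fin l → ZMod 5} {rt : P5 → Fin l → ℤ}


theorem exists_τ {t : ↥(C.group k)} (ht : t ∈ Td E rt) : ∃ y, E.τ y = t := E.mem_T.1 (TD_le ht)

theorem mon_Td {y : Fin l → kˣ} (hy : E.τ y ∈ Td E rt) {A : Matrix (Fin l) (Fin l) ℤ}
    (h : ∀ c, c ≠ 0 → A *ᵥ E.cor (rt c) = 0) : mon A y = 1 :=
  mon_TD (D := E.D) hy (by rintro _ ⟨c, hc, rfl⟩; exact h c hc)

theorem cor_neg' {a : Fin l → ℤ} (ha : TO.X.Rt C l a) : E.cor (-a) = -E.cor a := E.D.cor_neg ((E.rt_iff a).2 ha)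

variable (hζ : IsPrimitiveRoot ζ 5) (T : Tb hp u x rt) (h5 : 5 ≠ r)
include hζ T h5

namespace Fo

variable {β : MulAut ↥(C.group k)} {z : M.Group} {c : ↥(C.group k)} (h : Fo E ζ u x β z 1 c)
include h

omit T h5 in
theorem e1 {v : Fin l → ZMod 5} (hv : v ∈ BB u x) : β (E.e ζ v) = E.e ζ (mv (wm X z) v) := by
  rw [h.e hζ hv, Int.cast_one, one_smul]

theorem td1 {y : Fin l → kˣ} (hy : E.τ y ∈ Td E rt) : β (E.τ y) = E.τ (mon (wm X z) y) := by
  rw [(h.td hζ T h5 hy).1, one_smul]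

omit h5 in
theorem ac_eq (h1 : ∀ v ∈ BB u x, β (E.e ζ v) = E.e ζ v) {a : P5} (ha : a ≠ 0) : ac hp z (rt a) = rt a := by
  rw [T.scal (X := X) (mul_one 1) (fun v hv => E.e_inj hζ (by rw [← h.e1 hζ hv, h1 v hv, one_smul])) ha, one_smul]

theorem cent (h1 : ∀ v ∈ BB u x, β (E.e ζ v) = E.e ζ v) {t : ↥(C.group k)} (ht : t ∈ Td E rt) : β t = t := by
  obtain ⟨y, rfl⟩ := exists_τ ht
  have h2 := mon_Td ht (A := wm X z - 1) fun a ha => by
    rw [sub_mulVec, wm_cor z (T.root a ha), h.ac_eq hζ T h1 ha, one_mulVec, sub_self]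
  rw [mon_sub, mon_one, mul_inv_eq_one] at h2
  rw [h.td1 hζ T h5 ht, h2]

theorem neg (h1 : ∀ v ∈ BB u x, β (E.e ζ v) = (E.e ζ v)⁻¹) {t : ↥(C.group k)} (ht : t ∈ Td E rt) : β t = t⁻¹ := by
  obtain ⟨y, rfl⟩ := exists_τ ht
  have h2 := mon_Td ht (A := wm X z + 1) fun a ha => by
    rw [add_mulVec, wm_cor z (T.root a ha), T.scal (X := X) (s := -1) (s' := -1) (by norm_num)
      (fun v hv => E.e_inj hζ (by rw [← h.e1 hζ hv, h1 v hv, neg_one_smul, E.e_neg hζ])) ha, neg_one_smul, T.neg,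
      cor_neg' (T.root a ha), one_mulVec, neg_add_cancel]
  rw [mon_add, mon_one, mul_eq_one_iff_eq_inv] at h2
  rw [h.td1 hζ T h5 ht, h2, map_inv]

theorem three (h1 : ∀ v ∈ BB u x, E.e ζ v * β (E.e ζ v) * β (β (E.e ζ v)) = 1) {t : ↥(C.group k)} (ht : t ∈ Td E rt) :
    t * β t * β (β t) = 1 := by
  obtain ⟨y, rfl⟩ := exists_τ ht
  have h0 := h.pre hζ h5
  have h2 := mon_Td ht (A := 1 + wm X z + wm X z * wm X z) fun a ha => by
    obtain ⟨h3, h4, h6⟩ := T.three h0 (fun v hv => (E.e_eq_one hζ).1 (by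
      rw [E.e_add hζ, E.e_add hζ, ← h.e1 hζ (h0 v hv), ← h.e1 hζ hv, h1 v hv])) ha
    have h7 := T.root a ha
    have h8 : E.cor (rt a + ac hp z (rt a)) = E.cor (rt a) + E.cor (ac hp z (rt a)) :=
      cor_add (D := E.D) ((E.rt_iff _).2 h7) ((E.rt_iff _).2 (rt_ac z h7)) h3 h4
    have h9 : TO.X.Rt C l (rt a + ac hp z (rt a)) := by
      rw [← neg_neg (rt a + _), ← h6]
      exact (E.rt_iff _).1 ((E.rt_iff _).2 (rt_ac z (rt_ac z h7))).neg
    rw [add_mulVec, add_mulVec, ← mulVec_mulVec, wm_cor z h7, wm_cor z (rt_ac z h7), h6, cor_neg' h9, h8, one_mulVec,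
      add_neg_cancel]
  have h3 := h.td1 hζ T h5 ht
  have h4 := (h.td hζ T h5 ht).2
  rw [h3] at h4
  rw [h3, h.td1 hζ T h5 h4, ← map_mul, ← map_mul, ← mon_mul, ← map_one E.τ, ← h2, mon_add, mon_add, mon_one]

end Fo

/-! ### the action of `F` -/

variable {q : ℤ} {g : M.Group} (hA : E.A = q • wm X g) (hq : Pw r q) (hf : ∀ v ∈ BB u x, mv E.A v = v)
include hA hq hf

omit T h5 in
theorem fo_F : Fo E ζ u x X.F g q 1 :=
  ⟨one_mem _, fun y => by rw [E.F_τ, hA, one_mul, inv_one, mul_one], hq, fun v hv => by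
    rw [(E.fix_iff hζ).2 (hf v hv)]
    exact ⟨v, hv, rfl⟩⟩

omit hζ in
theorem ac_g {a : P5} (ha : a ≠ 0) : ac hp g (rt a) = rt ((q : ZMod 5) • a) :=
  T.scal (X := X) (mul_inv_cancel₀ (hq.cast_ne h5)) (fun v hv => by
    have h1 := hf v hv
    rw [hA, smul_mv] at h1
    rw [eq_inv_smul_iff₀ (hq.cast_ne h5), h1]) ha

omit hζ in
theorem g_rt {a : P5} (ha : a ≠ 0) : E.D.g (rt a) = rt (((|q| : ℤ) : ZMod 5) • a) := by
  have h0 := hq.cast_ne h5
  have h1 : ∀ b : Fin l → ℤ, E.D.ψ b = q • (b ᵥ* wm X g) := fun b => by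
    refine (E.D.wt_ψ b).trans ?_
    show b ᵥ* E.A = _
    rw [hA, vecMul_smul]
  have h2 := (E.rt_iff _).2 (T.root a ha)
  have h3 := (E.rt_iff _).2 (T.root _ (smul_ne_zero h0 ha))
  rcases lt_or_gt_of_ne hq.ne_zero with h | h
  · rw [abs_of_neg h, Int.cast_neg, neg_smul, T.neg]
    refine (E.D.eq_g_of_ψ h2 h3.neg (neg_pos.2 h) ((h1 (-rt ((q : ZMod 5) • a))).trans ?_)).symm
    rw [← ac_g T h5 hA hq hf ha, neg_vecMul, ac_wm, smul_neg]
    exact (neg_smul _ _).symm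
  · rw [abs_of_pos h]
    refine (E.D.eq_g_of_ψ h2 h3 h ?_).symm
    rw [h1, ← ac_g T h5 hA hq hf ha, ac_wm]
    rfl

/-- the exponent of the rational points of the torus -/
theorem pow_Td (h2 : (q : ZMod 5) * q = -1) {t : ↥(C.group k)} (ht : t ∈ Td E rt) (hF : X.F t = t) :
    t ^ (q.natAbs ^ 2 + 1) = 1 := by
  obtain ⟨y, rfl⟩ := exists_τ ht
  have h0 := hq.cast_ne h5
  have h3 := mon_Td ht (A := E.A * E.A + (q * q) • 1) fun a ha => by
    rw [add_mulVec, ← mulVec_mulVec, hA, smul_mulVec, smul_mulVec, mulVec_smul, wm_cor g (T.root a ha),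
      wm_cor g (rt_ac g (T.root a ha)), ac_g T h5 hA hq hf ha, ac_g T h5 hA hq hf (smul_ne_zero h0 ha), smul_smul,
      smul_smul, h2, neg_one_smul, T.neg, cor_neg' (T.root a ha), smul_mulVec, one_mulVec, smul_neg, neg_add_cancel]
  have h4 := E.fix_τ.1 hF
  rw [mon_add, mon_mul, h4, h4, mon_zsmul, mon_one, ← Int.natAbs_mul_self', ← Nat.cast_mul, zpow_natCast,
    ← pow_succ'] at h3
  rw [← map_pow, pow_two, h3, map_one]

end Cfsg.Agent.TO.X5
end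

-- part: TO/X5/Defs
section
/-!
# S4817, exceptional groups, `p = 5` : canonical sections, two boxes (helper34)
-/

set_option autoImplicit false
set_option maxHeartbeats 200000

namespace Cfsg.Agent.TO.X5

open CoxeterSystem Cfsg Cfsg.Lie Cfsg.Lie.ChevalleyDatum Matrix
open Cfsg.Agent.ChevalleyStructure Cfsg.Agent.ChevalleyStructure.Elts Cfsg.Agent.ChevalleyStructure.CoxeterGeom
  Cfsg.Agent.ChevalleyStructure.CoxeterGeomTypes Cfsg.Agent.ChevalleyStructure.NPerm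
open Cfsg.Agent.Tits.Roots Cfsg.Agent.Nodes Cfsg.Agent.Nodes.RGDChev Cfsg.Agent.Nodes.BNOf
open Cfsg.Agent.KFacts.RgdChevCoord Cfsg.Agent.BpExc.TowChev Cfsg.Agent.GpExc.Field Cfsg.Agent.BpExc
  Cfsg.Agent.BpExc.TorChev
open Cfsg.Agent.DL Cfsg.Agent.DL.Ex Cfsg.Agent.KZ.DatX

/-- a canonical section of the cover `σ` over the rational points of `P` whose order divides `m` -/
def Sec {G S Y : Type} [Group G] [Group S] [Group Y] (σ : G →* S) (ι : S →* Y) (F : MulAut Y) (P : Subgroup Y)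
    (m : ℕ) : Prop :=
  ∃ s : Y → G, (∀ x ∈ P, F x = x → x ^ m = 1 → ι (σ (s x)) = x) ∧
    (∀ H : Subgroup Y, (∀ x ∈ H, x ∈ P ∧ F x = x ∧ x ^ m = 1) → ∀ x ∈ H, ∀ y ∈ H, s (x * y) = s x * s y) ∧
    ∀ (α : MulAut G) (β : MulAut Y), (∀ g, ι (σ (α g)) = β (ι (σ g))) → (∀ y, β y ∈ P ↔ y ∈ P) →
      ∀ x ∈ P, F x = x → x ^ m = 1 → α (s x) = s (β x)

/-- the roots of the subsystem `D₄` of `E₇` on the nodes `2, 3, 4, 5` (indices `1, 2, 3, 4`) -/
def Del7 : Set (Fin 7 → ℤ) :=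
  {a | IsRoot CoxeterMatrix.E₇.toCoxeterSystem hpE7.isCartan a ∧ a 0 = 0 ∧ a 5 = 0 ∧ a 6 = 0}

/-- [Sec7] the covers of `E₇(q)`, `q` odd, split canonically over every `F`-stable conjugate of the Levi `D₄` -/
def Box7 : Prop := ∀ (F : Type) [Field F] [Fintype F] (r e : ℕ) [Fact r.Prime] [CharP F r]
  [CharP (AlgebraicClosure F) r], Fintype.card F = r ^ e → r ≠ 2 →
  ∀ (G : Type) [Group G] [Finite G] (σ : G →* ↥(chevE7.group F)), commutator G = ⊤ → Function.Surjective σ →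
    σ.ker = Subgroup.center G → ∀ (y : ↥(chevE7.group (AlgebraicClosure F))) (P : Subgroup _),
      P = Reps.cj y (RGD.Sup (XX chevE7 7 (AlgebraicClosure F)) Del7) → (∀ x ∈ P, frobA hpE7.inList r e x ∈ P) →
      ∀ m : ℕ, Sec σ (emb hpE7.inList (algebraMap F (AlgebraicClosure F))) (frobA hpE7.inList r e) P m

/-- [T2] the group `²E₆(2)` at `p = 5` -/
def BoxT2 : Prop := ∀ (K : Type) [Field K] [Fintype K], Fintype.card K = 4 → Row 5 ↥(twistedE6 K 2)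

end Cfsg.Agent.TO.X5
end

-- part: TO/X5/Su
section
/-!
# S4817, exceptional groups, `p = 5` : the setup and the statement of the core (helper34)
-/

set_option autoImplicit false
set_option linter.unusedSectionVars false
set_option maxHeartbeats 200000

namespace Cfsg.Agent.TO.X5

open CoxeterSystem Cfsg Cfsg.Lie Cfsg.Lie.ChevalleyDatum Matrix
open Cfsg.Agent.ChevalleyStructure Cfsg.Agent.ChevalleyStructure.Elts Cfsg.Agent.ChevalleyStructure.CoxeterGeom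
  Cfsg.Agent.ChevalleyStructure.CoxeterGeomTypes
open Cfsg.Agent.Tits.Roots Cfsg.Agent.Nodes Cfsg.Agent.Nodes.RGDChev Cfsg.Agent.Nodes.Coroot Cfsg.Agent.TO.X
open Cfsg.Agent.DL Cfsg.Agent.KZ.DatX Cfsg.Agent.BpExc.Zc

attribute [local instance] fact5

/-- the setup -/
structure Su {C : ChevalleyDatum} {l : ℕ} {M : CoxeterMatrix (Fin l)} {hp : IsType C l M} {r : ℕ} [Fact r.Prime]
    {k : Type} [Field k] [CharP k r] [IsAlgClosed k] {Mx : Matrix (Fin l) (Fin l) ℤ} {X : XF hp r k Mx}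
    {Adm : Matrix (Fin l) (Fin l) ℤ → Prop} {d : ℕ} {S : Type} [Group S] (s : XS X Adm d S) {ζ : kˣ}
    (hζ : IsPrimitiveRoot ζ 5) (Γ : Subgroup (MulAut S)) (Q : Subgroup S) (E : Tor X) (u x : Fin l → ZMod 5)
    (rt : P5 → Fin l → ℤ) (q : ℤ) (g : M.Group) : Prop where
  T : Tb hp u x rt
  P : Pure 5 S Γ Q
  hu : u ∈ vs s hζ E Q
  hx : x ∈ vs s hζ E Q
  hA : E.A = q • wm X g
  hq : Pw r q
  rk : ∀ E' : Tor X, Module.finrank (ZMod 5) (vs s hζ E' (BHZ.Nil.KK 5 Q)) ≤ 2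
  h5 : 5 ≠ r
  hd : d.Coprime 5
  cz : CommZ E.D.cs E.D.h E.D.X

/-- the core -/
def Core : Prop := ∀ {C : ChevalleyDatum} {l : ℕ} {M : CoxeterMatrix (Fin l)} {hp : IsType C l M} {r : ℕ} [Fact r.Prime]
    {k : Type} [Field k] [CharP k r] [IsAlgClosed k] {Mx : Matrix (Fin l) (Fin l) ℤ} {X : XF hp r k Mx}
    {Adm : Matrix (Fin l) (Fin l) ℤ → Prop} {d : ℕ} {S : Type} [Group S] (s : XS X Adm d S) {ζ : kˣ}
    (hζ : IsPrimitiveRoot ζ 5) {G : Type} [Group G] [Finite G] {σ : G →* S} {I : Ideal AlgInt}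
    {b : Set (IrrCharacter G)} {D : Subgroup G} (_ : Hyp 5 I b D σ) {E : Tor X} {u x : Fin l → ZMod 5}
    {rt : P5 → Fin l → ℤ} {q : ℤ} {g : M.Group} (_ : Su s hζ (Ind σ b) (D.map σ) E u x rt q g)
    {P : Subgroup ↥(C.group k)} (_ : Sec σ s.ι X.F P (4 * (q.natAbs ^ 2 + 1)))
    (_ : ((P = ⊤ ∨ P = E.S (Del rt)) ∧ ∀ A, Adm A → ∃ n z, Pw r n ∧ A = n • wm X z) ∨
      (P = ⊤ ∧ r = 2 ∧ E.T ≤ Td E rt ∧ Function.Injective σ)), False

end Cfsg.Agent.TO.X5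
end

-- part: TO/X5/TabB
section
/-!
# S4817, exceptional groups, `p = 5` : the structure `Tb` from tables (helper34)
-/

set_option autoImplicit false
set_option linter.unusedSectionVars false
set_option maxHeartbeats 200000

namespace Cfsg.Agent.TO.X5

open CoxeterSystem Cfsg Cfsg.Lie Cfsg.Lie.ChevalleyDatum Matrix
open Cfsg.Agent.ChevalleyStructure Cfsg.Agent.ChevalleyStructure.Elts Cfsg.Agent.ChevalleyStructure.CoxeterGeom
  Cfsg.Agent.ChevalleyStructure.CoxeterGeomTypes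
open Cfsg.Agent.Tits.Roots Cfsg.Agent.Nodes Cfsg.Agent.Nodes.RGDChev Cfsg.Agent.Nodes.Coroot Cfsg.Agent.TO.X

/-- a list as a vector -/
def fl (l : ℕ) (x : List ℤ) : Fin l → ℤ := fun i => x.getD i 0

theorem ofFn_fl {l : ℕ} {x : List ℤ} (h : x.length = l) : List.ofFn (fl l x) = x := by
  subst h
  refine List.ext_getElem (by simp) fun i h1 h2 => ?_
  simp [fl, h2]

theorem fl_ofFn {l : ℕ} (a : Fin l → ℤ) : fl l (List.ofFn a) = a := funext fun i => by simp [fl]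

theorem fl_inj {l : ℕ} {x y : List ℤ} (hx : x.length = l) (hy : y.length = l) (h : fl l x = fl l y) : x = y := by
  rw [← ofFn_fl hx, h, ofFn_fl hy]

theorem dt_fl {l : ℕ} {x y : List ℤ} (hx : x.length = l) (hy : y.length = l) : fl l x ⬝ᵥ fl l y = dt x y := by
  induction l generalizing x y with
  | zero => rw [List.length_eq_zero_iff.1 hx]; rfl
  | succ n ih =>
    obtain ⟨a, x, rfl⟩ := List.exists_cons_of_length_eq_add_one hx
    obtain ⟨b, y, rfl⟩ := List.exists_cons_of_length_eq_add_one hy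
    rw [dotProduct, Fin.sum_univ_succ, dt, List.zipWith_cons_cons, List.sum_cons, ← dt,
      ← ih (Nat.succ_injective hx) (Nat.succ_injective hy)]
    rfl

theorem cd_inj : ∀ a b : P5, cd a = cd b → a = b := by decide +kernel

/-- an entry of the table -/
def gt (R : List (List ℤ × List ℤ)) (n : ℕ) : List ℤ × List ℤ := R.getD n ([], [])

theorem cd_zero : ∀ a : P5, cd a = 0 ↔ a = 0 := by decide +kernel

/-- the checks -/
structure Ck (C : ChevalleyDatum) (l : ℕ) (d : Fin l → ℤ) (G : List (List ℤ)) (u x : List ℤ)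
    (T : List (List ℤ × ℕ × List ℤ)) (R : List (List ℤ × List ℤ)) : Prop where
  sym : ∀ i j, d i * cartanOf C l i j = d j * cartanOf C l j i
  ne : ∀ i, d i ≠ 0
  mat : G = List.ofFn fun i => List.ofFn fun j => d i * cartanOf C l i j
  len : u.length = l ∧ x.length = l ∧ ∀ a : P5, (gt R (cd a)).1.length = l ∧ (gt R (cd a)).2.length = l
  rts : (List.range C.nroots).map (fun r => List.ofFn (_root_.Cfsg.Agent.Nodes.RGDChev.vec C l r)) = T.map (·.1)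
  tab : ∀ e ∈ T, e.2.2.length = l ∧ e.2.1 = cd ((dt e.1 u : ℤ), (dt e.1 x : ℤ)) ∧
    (G.map fun g => 2 * dt g e.1) = e.2.2.map (dt e.1 (G.map (dt · e.1)) * ·)
  mem : ∀ a : P5, a ≠ 0 → ((gt R (cd a)).1, cd a, (gt R (cd a)).2) ∈ T
  gram : ∀ a b : P5, dt (gt R (cd a)).1 (gt R (cd b)).2 = gm a b
  neg : ∀ a : P5, (gt R (cd (-a))).1 = (gt R (cd a)).1.map (-·)
  add : ∀ a b : P5, gm a b = -1 → (gt R (cd (a + b))).1 =
    List.zipWith (· + ·) (gt R (cd a)).1 (gt R (cd b)).1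
  chr : ∀ e ∈ T, e.2.1 ≠ 0 → (e.1 = (gt R e.2.1).1 ↔ ∀ f ∈ T, f.2.1 = e.2.1 → f.1 ≠ e.1 → dt f.1 e.2.2 = -1)
  long : ∀ a : P5, ∀ f ∈ T, dt f.1 (gt R (cd a)).2 ≤ 1 ∨ f.1 = (gt R (cd a)).1
  psi : ∀ f ∈ T, (f.2.1 = 0 ↔ ∀ a : P5, a ≠ 0 → dt f.1 (gt R (cd a)).2 = 0)
  sep : ∀ a : P5, a ≠ 0 → ∃ f ∈ T, dt f.1 (gt R (cd a)).2 = 1 ∧
    dt f.1 (gt R (cd ((2 : ZMod 5) • a))).2 = 0
  par : ∀ i : Fin l, Even (fl l (gt R (cd (1, 0))).2 i + fl l (gt R (cd (2, 0))).2 i +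
    (fl l (gt R (cd (1, 1))).2 i + fl l (gt R (cd (2, 2))).2 i) +
    (fl l (gt R (cd (1, 2))).2 i + fl l (gt R (cd (2, 4))).2 i))

variable {C : ChevalleyDatum} {l : ℕ} {M : CoxeterMatrix (Fin l)} (hp : IsType C l M) {d : Fin l → ℤ}
  {G : List (List ℤ)} {u x : List ℤ} {T : List (List ℤ × ℕ × List ℤ)} {R : List (List ℤ × List ℤ)}
  (h : Ck C l d G u x T R)
include h

theorem Ck.rt {e : List ℤ × ℕ × List ℤ} (he : e ∈ T) : e.1.length = l ∧ X.Rt C l (fl l e.1) := by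
  have h1 : e.1 ∈ T.map (·.1) := List.mem_map_of_mem he
  rw [← h.rts, List.mem_map] at h1
  obtain ⟨r, hr, h2⟩ := h1
  rw [← h2, fl_ofFn]
  exact ⟨List.length_ofFn, r, List.mem_range.1 hr, rfl⟩

theorem Ck.ex {a : Fin l → ℤ} (ha : X.Rt C l a) : ∃ e ∈ T, a = fl l e.1 := by
  obtain ⟨r, hr, rfl⟩ := ha
  have h1 : List.ofFn (_root_.Cfsg.Agent.Nodes.RGDChev.vec C l r) ∈ T.map (·.1) := h.rts ▸ List.mem_map.2 ⟨r, List.mem_range.2 hr, rfl⟩
  obtain ⟨e, he, h2⟩ := List.mem_map.1 h1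
  exact ⟨e, he, by rw [h2, fl_ofFn]⟩

theorem Ck.cp_eq {e : List ℤ × ℕ × List ℤ} (he : e ∈ T) (y : Fin l → ℤ) : cp hp y (fl l e.1) = y ⬝ᵥ fl l e.2.2 := by
  obtain ⟨h1, h2⟩ := h.rt he
  obtain ⟨h3, -, h4⟩ := h.tab e he
  have h5 : ∀ i, dt (List.ofFn fun j => d i * cartanOf C l i j) e.1 =
      d i * CoxeterGeom.pairing (cartanOf C l) i (fl l e.1) := fun i => by
    rw [← dt_fl List.length_ofFn h1, fl_ofFn, CoxeterGeom.pairing, Finset.mul_sum]
    exact Finset.sum_congr rfl fun j _ => mul_assoc _ _ _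
  refine cp_form hp h.sym h.ne h2 (n := dt e.1 (G.map (dt · e.1))) ?_ (fun i => ?_) y
  · rw [← dt_fl h1 (by rw [h.mat, List.length_map, List.length_ofFn]), h.mat, List.map_ofFn, fl_ofFn]
    exact Finset.sum_congr rfl fun j _ => congrArg _ (h5 j)
  · have h6 := congrFun (congrArg (fl l) h4) i
    generalize dt e.1 (G.map (dt · e.1)) = n at h6 ⊢
    rw [h.mat, List.map_ofFn, fl_ofFn, ← ofFn_fl h3, List.map_ofFn, fl_ofFn] at h6
    rw [← h5]
    exact h6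

theorem Ck.cl_eq {e : List ℤ × ℕ × List ℤ} (he : e ∈ T) :
    cd (cl (fun i => (fl l u i : ZMod 5)) (fun i => (fl l x i : ZMod 5)) (fl l e.1)) = e.2.1 := by
  rw [(h.tab e he).2.1, ← dt_fl (h.rt he).1 h.len.1, ← dt_fl (h.rt he).1 h.len.2.1]
  simp only [cl, vl, dotProduct, Int.cast_sum, Int.cast_mul]

attribute [local irreducible] cd gt dt gm in
theorem Ck.tb : Tb hp (fun i => (fl l u i : ZMod 5)) (fun i => (fl l x i : ZMod 5))
    fun a => fl l (gt R (cd a)).1 := by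
  have L := h.len.2.2
  have h0 : ∀ {a : P5}, cd a = 0 ↔ a = 0 := fun {a} => cd_zero a
  have key : ∀ {a : P5}, a ≠ 0 → ∀ {y : List ℤ}, y.length = l →
      cp hp (fl l y) (fl l (gt R (cd a)).1) = dt y (gt R (cd a)).2 := fun {a} ha y hy => by
    rw [h.cp_eq hp (h.mem a ha), dt_fl hy (L a).2]
  refine ⟨fun a ha => (h.rt (h.mem a ha)).2, fun a ha => cd_inj _ _ ((h.cl_eq (h.mem a ha) :)),
    fun a b _ hb => (key hb (L a).1).trans (h.gram a b), fun a => ?_, fun a b hab => ?_, fun a ha h1 => ?_,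
    fun a ha b hb h1 => ?_, fun b hb => ?_, fun a ha => ?_, fun i => ?_⟩
  · rw [h.neg, ← ofFn_fl (L a).1, List.map_ofFn, fl_ofFn, fl_ofFn]
    rfl
  · rw [h.add a b hab]
    funext i
    have h1 : (i : ℕ) < (gt R (cd a)).1.length := by rw [(L a).1]; exact i.2
    have h2 : (i : ℕ) < (gt R (cd b)).1.length := by rw [(L b).1]; exact i.2
    simp only [fl, List.getElem?_zipWith, List.getElem?_eq_getElem h1, List.getElem?_eq_getElem h2, _root_.List.getD_eq_getElem?_getD, _root_.Option.getD_some, _root_.Pi.add_apply]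
  · obtain ⟨e, he, rfl⟩ := h.ex ha
    have h2 := h.cl_eq he
    have h3 := h.chr e he fun e0 => h1 (h0.1 (h2.trans e0))
    have h4 := L (cl (fun i => (fl l u i : ZMod 5)) (fun i => (fl l x i : ZMod 5)) (fl l e.1))
    rw [h2] at h4 ⊢
    refine ⟨fun e1 b hb b1 b2 => ?_, fun e1 => congrArg _ (h3.2 fun f hf f1 f2 => ?_)⟩
    · obtain ⟨f, hf, rfl⟩ := h.ex hb
      rw [h.cp_eq hp he, dt_fl (h.rt hf).1 (h.tab e he).1]
      exact h3.1 (fl_inj (h.rt he).1 h4.1 e1) f hf (by rw [← h.cl_eq hf, b2, h2]) fun e2 => b1 (congrArg _ e2)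
    · rw [← dt_fl (h.rt hf).1 (h.tab e he).1, ← h.cp_eq hp he]
      exact e1 _ (h.rt hf).2 (fun e2 => f2 (fl_inj (h.rt hf).1 (h.rt he).1 e2))
        (cd_inj _ _ (by rw [h.cl_eq hf, f1, h2]))
  · obtain ⟨f, hf, rfl⟩ := h.ex hb
    rw [key ha (h.rt hf).1]
    exact (h.long a f hf).resolve_right fun e => h1 (congrArg _ e)
  · obtain ⟨f, hf, rfl⟩ := h.ex hb
    rw [← h0, h.cl_eq hf, h.psi f hf]
    exact forall₂_congr fun a ha => by rw [key ha (h.rt hf).1]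
  · obtain ⟨f, hf, h1, h2⟩ := h.sep a ha
    exact ⟨fl l f.1, (key ha (h.rt hf).1).trans h1, (key (ln_of a ha 2 (.inl rfl)).1 (h.rt hf).1).trans h2⟩
  · have h1 : ∀ a : P5, a ≠ 0 → cp hp (sr i) (fl l (gt R (cd a)).1) = fl l (gt R (cd a)).2 i :=
      fun a ha => by rw [h.cp_eq hp (h.mem a ha), sr, single_one_dotProduct]
    rw [h1 _ (by decide), h1 _ (by decide), h1 _ (by decide), h1 _ (by decide), h1 _ (by decide), h1 _ (by decide)]
    exact h.par i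

end Cfsg.Agent.TO.X5
end

private theorem dce_3556c69de64f : _root_.True := by
  try have : _root_.True := by simp only [_root_.Cfsg.Agent.TO.X5.cl.eq_1]
  try have : _root_.True := by simp only [_root_.Cfsg.Agent.TO.X5E.Cm.eq_1]
  try have : _root_.True := by simp only [_root_.Cfsg.Agent.TO.X5.lm.eq_1]
  try have : _root_.True := by simp only [_root_.Cfsg.Agent.TO.X5.ac.eq_1]
  try have : _root_.True := by simp only [_root_.Cfsg.Agent.TO.X5E.ip.eq_1]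
  try have : _root_.True := by simp only [_root_.Cfsg.Agent.TO.X5E.st.eq_1]
  try have : _root_.True := by simp only [_root_.Cfsg.Agent.TO.X5.dt.eq_1]
  try have : _root_.True := by simp only [_root_.Cfsg.Agent.TO.X5.fl.eq_1]
  try have : _root_.True := by simp only [_root_.Cfsg.Agent.TO.X5E.Ph.eq_1]
  exact _root_.True.intro
end

-- part: TO/X5E/Glue
section
prune_inst 0x51000000000000850400001e028a000090100b080080040040048028020000060000001000000000000030010000000020824000000e0004000001000008800000a2480004840010800000400000000000000000000000000000000000000000000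
set_option linter.all false
open scoped Cfsg.Agent.FastGrp

/-- decoders of the packed data (elaboration time only) -/
private noncomputable def pk61d (b S i : Nat) : Nat := Nat.mod (Nat.shiftRight S (Nat.mul b i)) (Nat.shiftLeft (nat_lit 1) b)
private noncomputable def pk61c {α : Type} (t : Nat) (a : α) (f : Nat → α) : α := Nat.rec a (fun k _ => f k) t
private noncomputable def pk61f {α : Type} (t : Nat) (f : Nat → α) : α := Nat.rec (f Nat.zero) (fun k _ => f (Nat.succ k)) t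
private noncomputable def pk61l {α : Type} (f : Nat → α) (s e : Nat) (tl : List α) : List α :=
  pk61f e fun e => Nat.rec tl (fun k ih => List.cons (pk61f (Nat.sub e (Nat.succ k)) f) ih) (Nat.sub e s)
private noncomputable def pk61o {α : Type} (O : (n : Nat) → OfNat α n → α) (I : (n : Nat) → OfNat α n) (t : Nat) : α :=
  pk61c t (O (nat_lit 0) (I (nat_lit 0))) fun k => O (Nat.succ k) (I (Nat.succ k))
private noncomputable def pk61y (O : (n : Nat) → OfNat Int n → Int) (I : (n : Nat) → OfNat Int n) (G : Int → Int) (t : Nat) : Int := pk61f t fun t =>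
  pk61c (Nat.mod t (nat_lit 2)) (pk61o O I (Nat.div t (nat_lit 2))) fun _ => G (pk61o O I (Nat.succ (Nat.div t (nat_lit 2))))

private noncomputable def lq26c09ab375 {T : Sort _} (f :
    type_of% (@_root_.List.cons.{0}) →
    type_of% (@_root_.List.nil.{0}) →
    type_of% (@_root_.Prod.mk.{0, 0}) →
    type_of% (@_root_.Matrix.vecCons.{0}) →
    type_of% (@_root_.Matrix.vecEmpty.{0}) →
    type_of% (@_root_.List.flatten.{0}) → T) : T :=
  f (@_root_.List.cons.{0}) (@_root_.List.nil.{0}) (@_root_.Prod.mk.{0, 0}) (@_root_.Matrix.vecCons.{0}) (@_root_.Matrix.vecEmpty.{0}) (@_root_.List.flatten.{0})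

-- part: TO/X5/TabC
section
/-!
# S4817, exceptional groups, `p = 5` : the tables for `F₄`, `E₆`, `E₇` (helper34)
-/

set_option autoImplicit false
set_option maxHeartbeats 200000
set_option maxRecDepth 4000

namespace Cfsg.Agent.TO.X5

open Cfsg Cfsg.Lie Cfsg.Agent.KZ.DatX Cfsg.Agent.DL.Ex

/-- roots, classes, coroots -/
noncomputable def tF4a : List (List ℤ × ℕ × List ℤ) :=
  (by
  refine (?fq9001 : (fun (On : (n : Nat) → OfNat Nat n → Nat) (In : (n : Nat) → OfNat Nat n) (Oz : (n : Nat) → OfNat Int n → Int) (Iz : (n : Nat) → OfNat Int n) (Gz : Int → Int) => ((pk61l (fun i1 => (_root_.Prod.mk (pk61l (fun i2 => (pk61y Oz Iz Gz (pk61d (nat_lit 3) 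
    (nat_lit 0x2490592592d92e905b25b2db2eb2fb37b77b) i2))) (Nat.mul (nat_lit 4) i1) (Nat.mul (nat_lit 4) (Nat.succ i1)) List.nil) (_root_.Prod.mk (pk61o On In (pk61d (nat_lit 5) 
    (nat_lit 0x4c0e8316b6a5f0a) i1)) (pk61l (fun i2 => (pk61y Oz Iz Gz (pk61d (nat_lit 3) 
    (nat_lit 0x6118087080d000a401281051001088440200) i2))) (Nat.mul (nat_lit 4) i1) (Nat.mul (nat_lit 4) (Nat.succ i1)) List.nil)))) (nat_lit 0) (nat_lit 12) List.nil) : List (List ℤ × ℕ × List ℤ)))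
    = ?xq9001 → (List (List ℤ × ℕ × List ℤ))) ?hq9001; (case hq9001 => (set_option maxRecDepth 1000000 in conv => lhs; reduce)); intro _; exact ?xq9001 (@OfNat.ofNat Nat) instOfNatNat (@OfNat.ofNat Int) (@instOfNat) (@Neg.neg Int Int.instNegInt) : List (List ℤ × ℕ × List ℤ))

/-- roots, classes, coroots -/
noncomputable def tF4b : List (List ℤ × ℕ × List ℤ) :=
  (by
  refine (?fq9002 : (fun (On : (n : Nat) → OfNat Nat n → Nat) (In : (n : Nat) → OfNat Nat n) (Oz : (n : Nat) → OfNat Int n → Int) (Iz : (n : Nat) → OfNat Int n) (Gz : Int → Int) => ((pk61l (fun i1 => (_root_.Prod.mk (pk61l (fun i2 => (pk61y Oz Iz Gz (pk61d (nat_lit 2) 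
    (nat_lit 0x4010500414541c5c7c010515) i2))) (Nat.mul (nat_lit 4) i1) (Nat.mul (nat_lit 4) (Nat.succ i1)) List.nil) (_root_.Prod.mk (pk61o On In (pk61d (nat_lit 5) 
    (nat_lit 0x8062323c529ce32) i1)) (pk61l (fun i2 => (pk61y Oz Iz Gz (pk61d (nat_lit 3) 
    (nat_lit 0x6804d025011a8c260240a28a0420131098d1) i2))) (Nat.mul (nat_lit 4) i1) (Nat.mul (nat_lit 4) (Nat.succ i1)) List.nil)))) (nat_lit 0) (nat_lit 12) List.nil) : List (List ℤ × ℕ × List ℤ)))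
    = ?xq9002 → (List (List ℤ × ℕ × List ℤ))) ?hq9002; (case hq9002 => (set_option maxRecDepth 1000000 in conv => lhs; reduce)); intro _; exact ?xq9002 (@OfNat.ofNat Nat) instOfNatNat (@OfNat.ofNat Int) (@instOfNat) (@Neg.neg Int Int.instNegInt) : List (List ℤ × ℕ × List ℤ))

/-- roots, classes, coroots -/
noncomputable def tF4c : List (List ℤ × ℕ × List ℤ) :=
  (by
  refine (?fq9003 : (fun (On : (n : Nat) → OfNat Nat n → Nat) (In : (n : Nat) → OfNat Nat n) (Oz : (n : Nat) → OfNat Int n → Int) (Iz : (n : Nat) → OfNat Int n) (Gz : Int → Int) => ((pk61l (fun i1 => (_root_.Prod.mk (pk61l (fun i2 => (pk61y Oz Iz Gz (pk61d (nat_lit 3) 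
    (nat_lit 0x920120025204a00a0490090010480080400) i2))) (Nat.mul (nat_lit 4) i1) (Nat.mul (nat_lit 4) (Nat.succ i1)) List.nil) (_root_.Prod.mk (pk61o On In (pk61d (nat_lit 4) 
    (nat_lit 0xcdbbc3a12d4e) i1)) (pk61l (fun i2 => (pk61y Oz Iz Gz (pk61d (nat_lit 3) 
    (nat_lit 0x70a0d200c0814512118017010e1488308840) i2))) (Nat.mul (nat_lit 4) i1) (Nat.mul (nat_lit 4) (Nat.succ i1)) List.nil)))) (nat_lit 0) (nat_lit 12) List.nil) : List (List ℤ × ℕ × List ℤ)))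
    = ?xq9003 → (List (List ℤ × ℕ × List ℤ))) ?hq9003; (case hq9003 => (set_option maxRecDepth 1000000 in conv => lhs; reduce)); intro _; exact ?xq9003 (@OfNat.ofNat Nat) instOfNatNat (@OfNat.ofNat Int) (@instOfNat) (@Neg.neg Int Int.instNegInt) : List (List ℤ × ℕ × List ℤ))

/-- roots, classes, coroots -/
noncomputable def tF4d : List (List ℤ × ℕ × List ℤ) :=
  (by
  refine (?fq9004 : (fun (On : (n : Nat) → OfNat Nat n → Nat) (In : (n : Nat) → OfNat Nat n) (Oz : (n : Nat) → OfNat Int n → Int) (Iz : (n : Nat) → OfNat Int n) (Gz : Int → Int) => ((pk61l (fun i1 => (_root_.Prod.mk (pk61l (fun i2 => (pk61y Oz Iz Gz (pk61d (nat_lit 4) 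
    (nat_lit 0x468426842484246424442244024424622442224202422222) i2))) (Nat.mul (nat_lit 4) i1) (Nat.mul (nat_lit 4) (Nat.succ i1)) List.nil) (_root_.Prod.mk (pk61o On In (pk61d (nat_lit 5) 
    (nat_lit 0x798e542698b5dd5) i1)) (pk61l (fun i2 => (pk61y Oz Iz Gz (pk61d (nat_lit 3) 
    (nat_lit 0x40028005000208a4422020111088d061080a) i2))) (Nat.mul (nat_lit 4) i1) (Nat.mul (nat_lit 4) (Nat.succ i1)) List.nil)))) (nat_lit 0) (nat_lit 12) List.nil) : List (List ℤ × ℕ × List ℤ)))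
    = ?xq9004 → (List (List ℤ × ℕ × List ℤ))) ?hq9004; (case hq9004 => (set_option maxRecDepth 1000000 in conv => lhs; reduce)); intro _; exact ?xq9004 (@OfNat.ofNat Nat) instOfNatNat (@OfNat.ofNat Int) (@instOfNat) (@Neg.neg Int Int.instNegInt) : List (List ℤ × ℕ × List ℤ))

/-- roots, classes, coroots -/
noncomputable def tF4 : List (List ℤ × ℕ × List ℤ) :=
  List.flatten [tF4a, tF4b, tF4c, tF4d]

/-- the roots and coroots of `D₄` -/
noncomputable def rF4a : List (List ℤ × List ℤ) :=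
  (by
  refine (?fq9005 : (fun (Oz : (n : Nat) → OfNat Int n → Int) (Iz : (n : Nat) → OfNat Int n) (Gz : Int → Int) => ((pk61l (fun i1 => (_root_.Prod.mk (pk61l (fun i2 => (pk61y Oz Iz Gz (pk61d (nat_lit 4) 
    (nat_lit 0x244035732244244424842684013302000240013001000000) i2))) (Nat.mul (nat_lit 4) i1) (Nat.mul (nat_lit 4) (Nat.succ i1)) List.nil) (pk61l (fun i2 => (pk61y Oz Iz Gz (pk61d (nat_lit 3) 
    (nat_lit 0x8120044208a05028040130821140a4d0000) i2))) (Nat.mul (nat_lit 4) i1) (Nat.mul (nat_lit 4) (Nat.succ i1)) List.nil))) (nat_lit 0) (nat_lit 12) List.nil) : List (List ℤ × List ℤ)))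
    = ?xq9005 → (List (List ℤ × List ℤ))) ?hq9005; (case hq9005 => (set_option maxRecDepth 1000000 in conv => lhs; reduce)); intro _; exact ?xq9005 (@OfNat.ofNat Int) (@instOfNat) (@Neg.neg Int Int.instNegInt) : List (List ℤ × List ℤ))

/-- the roots and coroots of `D₄` -/
noncomputable def rF4b : List (List ℤ × List ℤ) :=
  (by
  refine (?fq9006 : (fun (Oz : (n : Nat) → OfNat Int n → Int) (Iz : (n : Nat) → OfNat Int n) (Gz : Int → Int) => ((pk61l (fun i1 => (_root_.Prod.mk (pk61l (fun i2 => (pk61y Oz Iz Gz (pk61d (nat_lit 4) 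
    (nat_lit 0x1573137313331133024413301130110010004684200022002240) i2))) (Nat.mul (nat_lit 4) i1) (Nat.mul (nat_lit 4) (Nat.succ i1)) List.nil) (pk61l (fun i2 => (pk61y Oz Iz Gz (pk61d (nat_lit 3) 
    (nat_lit 0x44008805128120204228a250680400840488451) i2))) (Nat.mul (nat_lit 4) i1) (Nat.mul (nat_lit 4) (Nat.succ i1)) List.nil))) (nat_lit 0) (nat_lit 13) List.nil) : List (List ℤ × List ℤ)))
    = ?xq9006 → (List (List ℤ × List ℤ))) ?hq9006; (case hq9006 => (set_option maxRecDepth 1000000 in conv => lhs; reduce)); intro _; exact ?xq9006 (@OfNat.ofNat Int) (@instOfNat) (@Neg.neg Int Int.instNegInt) : List (List ℤ × List ℤ))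

private noncomputable def _root_.Cfsg.Agent.LsF.f00529d_0 : {f // @Cfsg.Agent.TO.X5.dt = f} := ⟨_, by first | (delta Cfsg.Agent.TO.X5.dt; rewrite [Cfsg.Agent.LsF.imul_pat, Cfsg.Agent.LsF.zipWith_eq, Cfsg.Agent.LsF.sum_eq, Cfsg.Agent.LsF.instIAdd_eq]; exact rfl) | exact rfl⟩
private noncomputable def _root_.Cfsg.Agent.LsF.f00529d_1 : {f // @Cfsg.Agent.TO.X5.gt = f} := ⟨_, by first | (delta Cfsg.Agent.TO.X5.gt; rewrite [Cfsg.Agent.LsF.getD_eq]; exact rfl) | exact rfl⟩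
private noncomputable def _root_.Cfsg.Agent.LsF.f00529d_2 : {f // @Cfsg.Agent.TO.X5.cd = f} := ⟨_, by first | (delta Cfsg.Agent.TO.X5.cd; rewrite [Cfsg.Agent.LsF.nadd_pat, Cfsg.Agent.LsF.nmul_pat, Cfsg.Agent.LsF.zval_eq]; exact rfl) | exact rfl⟩
private noncomputable def _root_.Cfsg.Agent.LsF.f00529d_3 : {f // @Cfsg.Agent.TO.X5.r0 = f} := ⟨_, by first | (delta Cfsg.Agent.TO.X5.r0; rewrite [Cfsg.Agent.LsF.f00529d_2.2, Cfsg.Agent.LsF.ineg_pat, Cfsg.Agent.LsF.getD_eq]; exact rfl) | exact rfl⟩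
private noncomputable def _root_.Cfsg.Agent.LsF.f00529d_4 : {f // @Cfsg.Agent.TO.X5.gm = f} := ⟨_, by first | (delta Cfsg.Agent.TO.X5.gm; rewrite [Cfsg.Agent.LsF.f00529d_0.2, Cfsg.Agent.LsF.f00529d_3.2]; exact rfl) | exact rfl⟩
private noncomputable def _root_.Cfsg.Agent.LsF.f00529d_5 : {f // @Cfsg.Agent.TO.X5.tF4 = f} := ⟨_, by first | (delta Cfsg.Agent.TO.X5.tF4; rewrite [Cfsg.Agent.LsF.flatten_eq]; exact rfl) | exact rfl⟩
theorem ckF4 : Ck chevF4 4 ![1, 1, 2, 2] (beta% delta% lq26c09ab375 fun a b _ _ _ _ =>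
 (a (a 2<|a (-1)<|a 0<|a 0<|b)<|a (a (-1)<|a 2<|a (-2)<|a 0<|b)<|a (a 0<|a (-2)<|a 4<|a (-2)<|b)<|a (a 0<|a 0<|a (-2)<|a 4<|b)<|b))
    [2, 0, 0, 2] [1, 2, 4, 4] tF4 (rF4a ++ rF4b) where
  sym := by decide +kernel
  ne := by decide +kernel
  mat := by decide +kernel
  len := by decide +kernel
  rts := by decide +kernel
  tab := by decide +kernel
  mem := by decide +kernel
  gram := by (refine of_decide_eq_true ?_; (try (rewrite [Cfsg.Agent.LsF.f00529d_0.2, Cfsg.Agent.LsF.f00529d_1.2, Cfsg.Agent.LsF.f00529d_2.2, Cfsg.Agent.LsF.f00529d_4.2, Cfsg.Agent.LsF.lappend_pat, Cfsg.Agent.LsF.zFintype_eq, Cfsg.Agent.LsF.prodFintype_eq, Cfsg.Agent.LsF.dForall_eq, Cfsg.Agent.LsF.instIDecEq_eq, Cfsg.Agent.LsF.decide_eq])); decide +kernel)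
  neg := by decide +kernel
  add := by (refine of_decide_eq_true ?_; (try (rewrite [Cfsg.Agent.LsF.f00529d_4.2, Cfsg.Agent.LsF.f00529d_1.2, Cfsg.Agent.LsF.f00529d_2.2, Cfsg.Agent.LsF.iadd_pat, Cfsg.Agent.LsF.ineg_pat, Cfsg.Agent.LsF.lappend_pat, Cfsg.Agent.LsF.zFintype_eq, Cfsg.Agent.LsF.prodFintype_eq, Cfsg.Agent.LsF.dForall_eq, Cfsg.Agent.LsF.instZAdd_pat, Cfsg.Agent.LsF.zipWith_eq, Cfsg.Agent.LsF.instIDecEq_eq, Cfsg.Agent.LsF.dListEq_eq, Cfsg.Agent.LsF.dAllP_eq, Cfsg.Agent.LsF.decide_eq])); decide +kernel)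
  chr := by decide +kernel
  long := by (refine of_decide_eq_true ?_; (try (rewrite [Cfsg.Agent.LsF.f00529d_5.2, Cfsg.Agent.LsF.f00529d_0.2, Cfsg.Agent.LsF.f00529d_1.2, Cfsg.Agent.LsF.f00529d_2.2, Cfsg.Agent.LsF.lappend_pat, Cfsg.Agent.LsF.zFintype_eq, Cfsg.Agent.LsF.prodFintype_eq, Cfsg.Agent.LsF.dForall_eq, Cfsg.Agent.LsF.instIDecEq_eq, Cfsg.Agent.LsF.idecLe_eq, Cfsg.Agent.LsF.dOr_eq, Cfsg.Agent.LsF.dBAll_eq, Cfsg.Agent.LsF.dListEq_eq, Cfsg.Agent.LsF.decide_eq])); decide +kernel)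
  psi := by decide +kernel
  sep := by decide +kernel
  par := by decide +kernel

/-- the roots of `D₄` -/
noncomputable def rtF4 (a : P5) : Fin 4 → ℤ := fl 4 (gt (rF4a ++ rF4b) (cd a)).1

theorem tbF4 : Tb hpF4 ![2, 0, 0, 2] ![1, 2, 4, 4] rtF4 := by
  have h := ckF4.tb hpF4
  rwa [show (fun i => (fl 4 [2, 0, 0, 2] i : ZMod 5)) = ![2, 0, 0, 2] by decide +kernel,
    show (fun i => (fl 4 [1, 2, 4, 4] i : ZMod 5)) = ![1, 2, 4, 4] by decide +kernel] at h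

/-- roots, classes, coroots -/
noncomputable def tE6a : List (List ℤ × ℕ × List ℤ) :=
  (by
  refine (?fq9007 : (fun (On : (n : Nat) → OfNat Nat n → Nat) (In : (n : Nat) → OfNat Nat n) (Oz : (n : Nat) → OfNat Int n → Int) (Iz : (n : Nat) → OfNat Int n) (Gz : Int → Int) => ((pk61l (fun i1 => (_root_.Prod.mk (pk61l (fun i2 => (pk61y Oz Iz Gz (pk61d (nat_lit 3) 
    (nat_lit 0x2490402490492492490592496492d92416c925b24b6c92eb24bad9) i2))) (Nat.mul (nat_lit 6) i1) (Nat.mul (nat_lit 6) (Nat.succ i1)) List.nil) (_root_.Prod.mk (pk61o On In (pk61d (nat_lit 5) 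
    (nat_lit 0xc0c957b1b48c926) i1)) (pk61l (fun i2 => (pk61y Oz Iz Gz (pk61d (nat_lit 2) 
    (nat_lit 0x409205985485861661121810610190048004) i2))) (Nat.mul (nat_lit 6) i1) (Nat.mul (nat_lit 6) (Nat.succ i1)) List.nil)))) (nat_lit 0) (nat_lit 12) List.nil) : List (List ℤ × ℕ × List ℤ)))
    = ?xq9007 → (List (List ℤ × ℕ × List ℤ))) ?hq9007; (case hq9007 => (set_option maxRecDepth 1000000 in conv => lhs; reduce)); intro _; exact ?xq9007 (@OfNat.ofNat Nat) instOfNatNat (@OfNat.ofNat Int) (@instOfNat) (@Neg.neg Int Int.instNegInt) : List (List ℤ × ℕ × List ℤ))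

/-- roots, classes, coroots -/
noncomputable def tE6b : List (List ℤ × ℕ × List ℤ) :=
  (by
  refine (?fq9008 : (fun (On : (n : Nat) → OfNat Nat n → Nat) (In : (n : Nat) → OfNat Nat n) (Oz : (n : Nat) → OfNat Int n → Int) (Iz : (n : Nat) → OfNat Int n) (Gz : Int → Int) => ((pk61l (fun i1 => (_root_.Prod.mk (pk61l (fun i2 => (pk61y Oz Iz Gz (pk61d (nat_lit 2) 
    (nat_lit 0x1445440541545541d45d47d4001011051151) i2))) (Nat.mul (nat_lit 6) i1) (Nat.mul (nat_lit 6) (Nat.succ i1)) List.nil) (_root_.Prod.mk (pk61o On In (pk61d (nat_lit 5) 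
    (nat_lit 0x9aef8828e82a822) i1)) (pk61l (fun i2 => (pk61y Oz Iz Gz (pk61d (nat_lit 2) 
    (nat_lit 0x924424216996496842642102023091249909) i2))) (Nat.mul (nat_lit 6) i1) (Nat.mul (nat_lit 6) (Nat.succ i1)) List.nil)))) (nat_lit 0) (nat_lit 12) List.nil) : List (List ℤ × ℕ × List ℤ)))
    = ?xq9008 → (List (List ℤ × ℕ × List ℤ))) ?hq9008; (case hq9008 => (set_option maxRecDepth 1000000 in conv => lhs; reduce)); intro _; exact ?xq9008 (@OfNat.ofNat Nat) instOfNatNat (@OfNat.ofNat Int) (@instOfNat) (@Neg.neg Int Int.instNegInt) : List (List ℤ × ℕ × List ℤ))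

/-- roots, classes, coroots -/
noncomputable def tE6c : List (List ℤ × ℕ × List ℤ) :=
  (by
  refine (?fq9009 : (fun (On : (n : Nat) → OfNat Nat n → Nat) (In : (n : Nat) → OfNat Nat n) (Oz : (n : Nat) → OfNat Int n → Int) (Iz : (n : Nat) → OfNat Int n) (Gz : Int → Int) => ((pk61l (fun i1 => (_root_.Prod.mk (pk61l (fun i2 => (pk61y Oz Iz Gz (pk61d (nat_lit 1) 
    (nat_lit 0x810c0863810c73c08a) i2))) (Nat.mul (nat_lit 6) i1) (Nat.mul (nat_lit 6) (Nat.succ i1)) List.nil) (_root_.Prod.mk (pk61o On In (pk61d (nat_lit 5) 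
    (nat_lit 0xb06f08b8b5b4c52) i1)) (pk61l (fun i2 => (pk61y Oz Iz Gz (pk61d (nat_lit 2) 
    (nat_lit 0xe00b805802e89684680b225a91a41a08c264) i2))) (Nat.mul (nat_lit 6) i1) (Nat.mul (nat_lit 6) (Nat.succ i1)) List.nil)))) (nat_lit 0) (nat_lit 12) List.nil) : List (List ℤ × ℕ × List ℤ)))
    = ?xq9009 → (List (List ℤ × ℕ × List ℤ))) ?hq9009; (case hq9009 => (set_option maxRecDepth 1000000 in conv => lhs; reduce)); intro _; exact ?xq9009 (@OfNat.ofNat Nat) instOfNatNat (@OfNat.ofNat Int) (@instOfNat) (@Neg.neg Int Int.instNegInt) : List (List ℤ × ℕ × List ℤ))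

/-- roots, classes, coroots -/
noncomputable def tE6d : List (List ℤ × ℕ × List ℤ) :=
  (by
  refine (?fq9010 : (fun (On : (n : Nat) → OfNat Nat n → Nat) (In : (n : Nat) → OfNat Nat n) (Oz : (n : Nat) → OfNat Int n → Int) (Iz : (n : Nat) → OfNat Int n) (Gz : Int → Int) => ((pk61l (fun i1 => (_root_.Prod.mk (pk61l (fun i2 => (pk61y Oz Iz Gz (pk61d (nat_lit 2) 
    (nat_lit 0x88008aa02a00a0020a80280080a00200800) i2))) (Nat.mul (nat_lit 6) i1) (Nat.mul (nat_lit 6) (Nat.succ i1)) List.nil) (_root_.Prod.mk (pk61o On In (pk61d (nat_lit 5) 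
    (nat_lit 0x60d684d20d71c88) i1)) (pk61l (fun i2 => (pk61y Oz Iz Gz (pk61d (nat_lit 3) 
    (nat_lit 0x5140022040224a08905224030141120a448061212200308021000) i2))) (Nat.mul (nat_lit 6) i1) (Nat.mul (nat_lit 6) (Nat.succ i1)) List.nil)))) (nat_lit 0) (nat_lit 12) List.nil) : List (List ℤ × ℕ × List ℤ)))
    = ?xq9010 → (List (List ℤ × ℕ × List ℤ))) ?hq9010; (case hq9010 => (set_option maxRecDepth 1000000 in conv => lhs; reduce)); intro _; exact ?xq9010 (@OfNat.ofNat Nat) instOfNatNat (@OfNat.ofNat Int) (@instOfNat) (@Neg.neg Int Int.instNegInt) : List (List ℤ × ℕ × List ℤ))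

/-- roots, classes, coroots -/
noncomputable def tE6e : List (List ℤ × ℕ × List ℤ) :=
  (by
  refine (?fq9011 : (fun (On : (n : Nat) → OfNat Nat n → Nat) (In : (n : Nat) → OfNat Nat n) (Oz : (n : Nat) → OfNat Int n → Int) (Iz : (n : Nat) → OfNat Int n) (Gz : Int → Int) => ((pk61l (fun i1 => (_root_.Prod.mk (pk61l (fun i2 => (pk61y Oz Iz Gz (pk61d (nat_lit 3) 
    (nat_lit 0x920804820020800025224128900a2412490092400490490402410) i2))) (Nat.mul (nat_lit 6) i1) (Nat.mul (nat_lit 6) (Nat.succ i1)) List.nil) (_root_.Prod.mk (pk61o On In (pk61d (nat_lit 5) 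
    (nat_lit 0x191f4b5dee31e6b) i1)) (pk61l (fun i2 => (pk61y Oz Iz Gz (pk61d (nat_lit 3) 
    (nat_lit 0x28028140a00a08004408005140121005029128a44109140140a050) i2))) (Nat.mul (nat_lit 6) i1) (Nat.mul (nat_lit 6) (Nat.succ i1)) List.nil)))) (nat_lit 0) (nat_lit 12) List.nil) : List (List ℤ × ℕ × List ℤ)))
    = ?xq9011 → (List (List ℤ × ℕ × List ℤ))) ?hq9011; (case hq9011 => (set_option maxRecDepth 1000000 in conv => lhs; reduce)); intro _; exact ?xq9011 (@OfNat.ofNat Nat) instOfNatNat (@OfNat.ofNat Int) (@instOfNat) (@Neg.neg Int Int.instNegInt) : List (List ℤ × ℕ × List ℤ))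

/-- roots, classes, coroots -/
noncomputable def tE6f : List (List ℤ × ℕ × List ℤ) :=
  (by
  refine (?fq9012 : (fun (On : (n : Nat) → OfNat Nat n → Nat) (In : (n : Nat) → OfNat Nat n) (Oz : (n : Nat) → OfNat Int n → Int) (Iz : (n : Nat) → OfNat Int n) (Gz : Int → Int) => ((pk61l (fun i1 => (_root_.Prod.mk (pk61l (fun i2 => (pk61y Oz Iz Gz (pk61d (nat_lit 3) 
    (nat_lit 0x534894d125244929120a44948924a2482892492482492012492482) i2))) (Nat.mul (nat_lit 6) i1) (Nat.mul (nat_lit 6) (Nat.succ i1)) List.nil) (_root_.Prod.mk (pk61o On In (pk61d (nat_lit 5) 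
    (nat_lit 0xc558d2c64a48446) i1)) (pk61l (fun i2 => (pk61y Oz Iz Gz (pk61d (nat_lit 2) 
    (nat_lit 0x808426092042021299249284a64a10a806) i2))) (Nat.mul (nat_lit 6) i1) (Nat.mul (nat_lit 6) (Nat.succ i1)) List.nil)))) (nat_lit 0) (nat_lit 12) List.nil) : List (List ℤ × ℕ × List ℤ)))
    = ?xq9012 → (List (List ℤ × ℕ × List ℤ))) ?hq9012; (case hq9012 => (set_option maxRecDepth 1000000 in conv => lhs; reduce)); intro _; exact ?xq9012 (@OfNat.ofNat Nat) instOfNatNat (@OfNat.ofNat Int) (@instOfNat) (@Neg.neg Int Int.instNegInt) : List (List ℤ × ℕ × List ℤ))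

/-- roots, classes, coroots -/
noncomputable def tE6 : List (List ℤ × ℕ × List ℤ) :=
  List.flatten [tE6a, tE6b, tE6c, tE6d, tE6e, tE6f]

/-- the roots and coroots of `D₄` -/
noncomputable def rE6a : List (List ℤ × List ℤ) :=
  (by
  refine (?fq9013 : (fun (Oz : (n : Nat) → OfNat Int n → Int) (Iz : (n : Nat) → OfNat Int n) (Gz : Int → Int) => ((pk61l (fun i1 => (_root_.Prod.mk (pk61l (fun i2 => (pk61y Oz Iz Gz (pk61d (nat_lit 2) 
    (nat_lit 0x2881d40a02a00a82a8010200008004100000) i2))) (Nat.mul (nat_lit 6) i1) (Nat.mul (nat_lit 6) (Nat.succ i1)) List.nil) (pk61l (fun i2 => (pk61y Oz Iz Gz (pk61d (nat_lit 3) 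
    (nat_lit 0x28141020205224a08904244a29101308c2000088004184d0000000) i2))) (Nat.mul (nat_lit 6) i1) (Nat.mul (nat_lit 6) (Nat.succ i1)) List.nil))) (nat_lit 0) (nat_lit 12) List.nil) : List (List ℤ × List ℤ)))
    = ?xq9013 → (List (List ℤ × List ℤ))) ?hq9013; (case hq9013 => (set_option maxRecDepth 1000000 in conv => lhs; reduce)); intro _; exact ?xq9013 (@OfNat.ofNat Int) (@instOfNat) (@Neg.neg Int Int.instNegInt) : List (List ℤ × List ℤ))

/-- the roots and coroots of `D₄` -/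
noncomputable def rE6b : List (List ℤ × List ℤ) :=
  (by
  refine (?fq9014 : (fun (Oz : (n : Nat) → OfNat Int n → Int) (Iz : (n : Nat) → OfNat Int n) (Gz : Int → Int) => ((pk61l (fun i1 => (_root_.Prod.mk (pk61l (fun i2 => (pk61y Oz Iz Gz (pk61d (nat_lit 3) 
    (nat_lit 0x12480092012400090000800482002080480002000a2400400090000410) i2))) (Nat.mul (nat_lit 6) i1) (Nat.mul (nat_lit 6) (Nat.succ i1)) List.nil) (pk61l (fun i2 => (pk61y Oz Iz Gz (pk61d (nat_lit 3) 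
    (nat_lit 0x1144a08129105208948030144220228844a402690210041848291201450) i2))) (Nat.mul (nat_lit 6) i1) (Nat.mul (nat_lit 6) (Nat.succ i1)) List.nil))) (nat_lit 0) (nat_lit 13) List.nil) : List (List ℤ × List ℤ)))
    = ?xq9014 → (List (List ℤ × List ℤ))) ?hq9014; (case hq9014 => (set_option maxRecDepth 1000000 in conv => lhs; reduce)); intro _; exact ?xq9014 (@OfNat.ofNat Int) (@instOfNat) (@Neg.neg Int Int.instNegInt) : List (List ℤ × List ℤ))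

private noncomputable def _root_.Cfsg.Agent.LsF.f00529d_6 : {f // @Cfsg.Agent.TO.X5.tE6 = f} := ⟨_, by first | (delta Cfsg.Agent.TO.X5.tE6; rewrite [Cfsg.Agent.LsF.flatten_eq]; exact rfl) | exact rfl⟩
theorem ckE6 : Ck chevE6 6 ![1, 1, 1, 1, 1, 1] (beta% delta% lq26c09ab375 fun a b _ _ _ _ =>
 (a (a 2<|a 0<|a (-1)<|a 0<|a 0<|a 0<|b)<|a (a 0<|a 2<|a 0<|a (-1)<|a 0<|a 0<|b)<|a (a (-1)<|a 0<|a 2<|a (-1)<|a 0<|a 0<|b)<|a (a 0<|a (-1)<|a (-1)<|a 2<|a (-1)<|a 0<|b)<|a (a 0<|a 0<|a 0<|a (-1)<|a 2<|a (-1)<|b)<|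
 a (a 0<|a 0<|a 0<|a 0<|a (-1)<|a 2<|b)<|b))
    [4, 0, 4, 2, 0, 1] [0, 3, 0, 4, 4, 3] tE6 (rE6a ++ rE6b) where
  sym := by decide +kernel
  ne := by decide +kernel
  mat := by decide +kernel
  len := by decide +kernel
  rts := by decide +kernel
  tab := by (refine of_decide_eq_true ?_; (try (rewrite [Cfsg.Agent.LsF.f00529d_6.2, Cfsg.Agent.LsF.f00529d_2.2, Cfsg.Agent.LsF.f00529d_0.2, Cfsg.Agent.LsF.imul_pat, Cfsg.Agent.LsF.ineg_pat, Cfsg.Agent.LsF.instDecEq_eq, Cfsg.Agent.LsF.map_eq, Cfsg.Agent.LsF.instIDecEq_eq, Cfsg.Agent.LsF.dAnd_eq, Cfsg.Agent.LsF.dBAll_eq, Cfsg.Agent.LsF.dListEq_eq, Cfsg.Agent.LsF.length_eq, Cfsg.Agent.LsF.decide_eq])); decide +kernel)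
  mem := by decide +kernel
  gram := by (refine of_decide_eq_true ?_; (try (rewrite [Cfsg.Agent.LsF.f00529d_0.2, Cfsg.Agent.LsF.f00529d_1.2, Cfsg.Agent.LsF.f00529d_2.2, Cfsg.Agent.LsF.f00529d_4.2, Cfsg.Agent.LsF.lappend_pat, Cfsg.Agent.LsF.zFintype_eq, Cfsg.Agent.LsF.prodFintype_eq, Cfsg.Agent.LsF.dForall_eq, Cfsg.Agent.LsF.instIDecEq_eq, Cfsg.Agent.LsF.decide_eq])); decide +kernel)
  neg := by decide +kernel
  add := by (refine of_decide_eq_true ?_; (try (rewrite [Cfsg.Agent.LsF.f00529d_4.2, Cfsg.Agent.LsF.f00529d_1.2, Cfsg.Agent.LsF.f00529d_2.2, Cfsg.Agent.LsF.iadd_pat, Cfsg.Agent.LsF.ineg_pat, Cfsg.Agent.LsF.lappend_pat, Cfsg.Agent.LsF.zFintype_eq, Cfsg.Agent.LsF.prodFintype_eq, Cfsg.Agent.LsF.dForall_eq, Cfsg.Agent.LsF.instZAdd_pat, Cfsg.Agent.LsF.zipWith_eq, Cfsg.Agent.LsF.instIDecEq_eq, Cfsg.Agent.LsF.dListEq_eq, Cfsg.Agent.LsF.dAllP_eq, Cfsg.Agent.LsF.decide_eq])); decide +kernel)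
  chr := by (refine of_decide_eq_true ?_; (try (rewrite [Cfsg.Agent.LsF.f00529d_6.2, Cfsg.Agent.LsF.f00529d_1.2, Cfsg.Agent.LsF.f00529d_0.2, Cfsg.Agent.LsF.ineg_pat, Cfsg.Agent.LsF.lappend_pat, Cfsg.Agent.LsF.instDecEq_eq, Cfsg.Agent.LsF.instIDecEq_eq, Cfsg.Agent.LsF.dNot_eq, Cfsg.Agent.LsF.dBAll_eq, Cfsg.Agent.LsF.dListEq_eq, Cfsg.Agent.LsF.dAllP_eq, Cfsg.Agent.LsF.dIffI_eq, Cfsg.Agent.LsF.decide_eq])); decide +kernel)
  long := by (refine of_decide_eq_true ?_; (try (rewrite [Cfsg.Agent.LsF.f00529d_6.2, Cfsg.Agent.LsF.f00529d_0.2, Cfsg.Agent.LsF.f00529d_1.2, Cfsg.Agent.LsF.f00529d_2.2, Cfsg.Agent.LsF.lappend_pat, Cfsg.Agent.LsF.zFintype_eq, Cfsg.Agent.LsF.prodFintype_eq, Cfsg.Agent.LsF.dForall_eq, Cfsg.Agent.LsF.instIDecEq_eq, Cfsg.Agent.LsF.idecLe_eq, Cfsg.Agent.LsF.dOr_eq, Cfsg.Agent.LsF.dBAll_eq, Cfsg.Agent.LsF.dListEq_eq, Cfsg.Agent.LsF.decide_eq])); decide +kernel)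
  psi := by decide +kernel
  sep := by decide +kernel
  par := by decide +kernel

/-- the roots of `D₄` -/
noncomputable def rtE6 (a : P5) : Fin 6 → ℤ := fl 6 (gt (rE6a ++ rE6b) (cd a)).1

theorem tbE6 : Tb hpE6 ![4, 0, 4, 2, 0, 1] ![0, 3, 0, 4, 4, 3] rtE6 := by
  have h := ckE6.tb hpE6
  rwa [show (fun i => (fl 6 [4, 0, 4, 2, 0, 1] i : ZMod 5)) = ![4, 0, 4, 2, 0, 1] by decide +kernel,
    show (fun i => (fl 6 [0, 3, 0, 4, 4, 3] i : ZMod 5)) = ![0, 3, 0, 4, 4, 3] by decide +kernel] at h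

/-- roots, classes, coroots -/
noncomputable def tE7a : List (List ℤ × ℕ × List ℤ) :=
  (by
  refine (?fq9015 : (fun (On : (n : Nat) → OfNat Nat n → Nat) (In : (n : Nat) → OfNat Nat n) (Oz : (n : Nat) → OfNat Int n → Int) (Iz : (n : Nat) → OfNat Int n) (Gz : Int → Int) => ((pk61l (fun i1 => (_root_.Prod.mk (pk61l (fun i2 => (pk61y Oz Iz Gz (pk61d (nat_lit 3) 
    (nat_lit 0x2db6482eb24975925bac92ed6482eb64975b25bad92ed6c977b64bbeb25df5b) i2))) (Nat.mul (nat_lit 7) i1) (Nat.mul (nat_lit 7) (Nat.succ i1)) List.nil) (_root_.Prod.mk (pk61o On In (pk61d (nat_lit 5) 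
    (nat_lit 0x52521118c323e80) i1)) (pk61l (fun i2 => (pk61y Oz Iz Gz (pk61d (nat_lit 2) 
    (nat_lit 0x124204861206480422004601060406100600048001) i2))) (Nat.mul (nat_lit 7) i1) (Nat.mul (nat_lit 7) (Nat.succ i1)) List.nil)))) (nat_lit 0) (nat_lit 12) List.nil) : List (List ℤ × ℕ × List ℤ)))
    = ?xq9015 → (List (List ℤ × ℕ × List ℤ))) ?hq9015; (case hq9015 => (set_option maxRecDepth 1000000 in conv => lhs; reduce)); intro _; exact ?xq9015 (@OfNat.ofNat Nat) instOfNatNat (@OfNat.ofNat Int) (@instOfNat) (@Neg.neg Int Int.instNegInt) : List (List ℤ × ℕ × List ℤ))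

/-- roots, classes, coroots -/
noncomputable def tE7b : List (List ℤ × ℕ × List ℤ) :=
  (by
  refine (?fq9016 : (fun (On : (n : Nat) → OfNat Nat n → Nat) (In : (n : Nat) → OfNat Nat n) (Oz : (n : Nat) → OfNat Int n → Int) (Iz : (n : Nat) → OfNat Int n) (Gz : Int → Int) => ((pk61l (fun i1 => (_root_.Prod.mk (pk61l (fun i2 => (pk61y Oz Iz Gz (pk61d (nat_lit 2) 
    (nat_lit 0x55541d517555d51f557d57f541f517d55f51fd57f5) i2))) (Nat.mul (nat_lit 7) i1) (Nat.mul (nat_lit 7) (Nat.succ i1)) List.nil) (_root_.Prod.mk (pk61o On In (pk61d (nat_lit 5) 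
    (nat_lit 0xabd8c6b4b48c652) i1)) (pk61l (fun i2 => (pk61y Oz Iz Gz (pk61d (nat_lit 2) 
    (nat_lit 0x421486199852618485921108481098412108641990) i2))) (Nat.mul (nat_lit 7) i1) (Nat.mul (nat_lit 7) (Nat.succ i1)) List.nil)))) (nat_lit 0) (nat_lit 12) List.nil) : List (List ℤ × ℕ × List ℤ)))
    = ?xq9016 → (List (List ℤ × ℕ × List ℤ))) ?hq9016; (case hq9016 => (set_option maxRecDepth 1000000 in conv => lhs; reduce)); intro _; exact ?xq9016 (@OfNat.ofNat Nat) instOfNatNat (@OfNat.ofNat Int) (@instOfNat) (@Neg.neg Int Int.instNegInt) : List (List ℤ × ℕ × List ℤ))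

/-- roots, classes, coroots -/
noncomputable def tE7c : List (List ℤ × ℕ × List ℤ) :=
  (by
  refine (?fq9017 : (fun (On : (n : Nat) → OfNat Nat n → Nat) (In : (n : Nat) → OfNat Nat n) (Oz : (n : Nat) → OfNat Int n → Int) (Iz : (n : Nat) → OfNat Int n) (Gz : Int → Int) => ((pk61l (fun i1 => (_root_.Prod.mk (pk61l (fun i2 => (pk61y Oz Iz Gz (pk61d (nat_lit 2) 
    (nat_lit 0x1f517d47f500010044051054455155440550554555) i2))) (Nat.mul (nat_lit 7) i1) (Nat.mul (nat_lit 7) (Nat.succ i1)) List.nil) (_root_.Prod.mk (pk61o On In (pk61d (nat_lit 5) 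
    (nat_lit 0x4200550458c0c95) i1)) (pk61l (fun i2 => (pk61y Oz Iz Gz (pk61d (nat_lit 2) 
    (nat_lit 0x840990210080230244249242640940242052616485) i2))) (Nat.mul (nat_lit 7) i1) (Nat.mul (nat_lit 7) (Nat.succ i1)) List.nil)))) (nat_lit 0) (nat_lit 12) List.nil) : List (List ℤ × ℕ × List ℤ)))
    = ?xq9017 → (List (List ℤ × ℕ × List ℤ))) ?hq9017; (case hq9017 => (set_option maxRecDepth 1000000 in conv => lhs; reduce)); intro _; exact ?xq9017 (@OfNat.ofNat Nat) instOfNatNat (@OfNat.ofNat Int) (@instOfNat) (@Neg.neg Int Int.instNegInt) : List (List ℤ × ℕ × List ℤ))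

/-- roots, classes, coroots -/
noncomputable def tE7d : List (List ℤ × ℕ × List ℤ) :=
  (by
  refine (?fq9018 : (fun (On : (n : Nat) → OfNat Nat n → Nat) (In : (n : Nat) → OfNat Nat n) (Oz : (n : Nat) → OfNat Int n → Int) (Iz : (n : Nat) → OfNat Int n) (Gz : Int → Int) => ((pk61l (fun i1 => (_root_.Prod.mk (pk61l (fun i2 => (pk61y Oz Iz Gz (pk61d (nat_lit 2) 
    (nat_lit 0x1004405105445510054055055455501d417515d4) i2))) (Nat.mul (nat_lit 7) i1) (Nat.mul (nat_lit 7) (Nat.succ i1)) List.nil) (_root_.Prod.mk (pk61o On In (pk61d (nat_lit 5) 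
    (nat_lit 0x14a6b5df10828e7) i1)) (pk61l (fun i2 => (pk61y Oz Iz Gz (pk61d (nat_lit 2) 
    (nat_lit 0x23026424924244090216265a49642588429909242) i2))) (Nat.mul (nat_lit 7) i1) (Nat.mul (nat_lit 7) (Nat.succ i1)) List.nil)))) (nat_lit 0) (nat_lit 12) List.nil) : List (List ℤ × ℕ × List ℤ)))
    = ?xq9018 → (List (List ℤ × ℕ × List ℤ))) ?hq9018; (case hq9018 => (set_option maxRecDepth 1000000 in conv => lhs; reduce)); intro _; exact ?xq9018 (@OfNat.ofNat Nat) instOfNatNat (@OfNat.ofNat Int) (@instOfNat) (@Neg.neg Int Int.instNegInt) : List (List ℤ × ℕ × List ℤ))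

/-- roots, classes, coroots -/
noncomputable def tE7e : List (List ℤ × ℕ × List ℤ) :=
  (by
  refine (?fq9019 : (fun (On : (n : Nat) → OfNat Nat n → Nat) (In : (n : Nat) → OfNat Nat n) (Oz : (n : Nat) → OfNat Int n → Int) (Iz : (n : Nat) → OfNat Int n) (Gz : Int → Int) => ((pk61l (fun i1 => (_root_.Prod.mk (pk61l (fun i2 => (pk61y Oz Iz Gz (pk61d (nat_lit 1) 
    (nat_lit 0x20c380830e3c041871e7c) i2))) (Nat.mul (nat_lit 7) i1) (Nat.mul (nat_lit 7) (Nat.succ i1)) List.nil) (_root_.Prod.mk (pk61o On In (pk61d (nat_lit 5) 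
    (nat_lit 0xdef08b9c5ada73) i1)) (pk61l (fun i2 => (pk61y Oz Iz Gz (pk61d (nat_lit 2) 
    (nat_lit 0x2e0258046002e825a246841a00b2096891a906901a) i2))) (Nat.mul (nat_lit 7) i1) (Nat.mul (nat_lit 7) (Nat.succ i1)) List.nil)))) (nat_lit 0) (nat_lit 12) List.nil) : List (List ℤ × ℕ × List ℤ)))
    = ?xq9019 → (List (List ℤ × ℕ × List ℤ))) ?hq9019; (case hq9019 => (set_option maxRecDepth 1000000 in conv => lhs; reduce)); intro _; exact ?xq9019 (@OfNat.ofNat Nat) instOfNatNat (@OfNat.ofNat Int) (@instOfNat) (@Neg.neg Int Int.instNegInt) : List (List ℤ × ℕ × List ℤ))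

/-- roots, classes, coroots -/
noncomputable def tE7f : List (List ℤ × ℕ × List ℤ) :=
  (by
  refine (?fq9020 : (fun (On : (n : Nat) → OfNat Nat n → Nat) (In : (n : Nat) → OfNat Nat n) (Oz : (n : Nat) → OfNat Int n → Int) (Iz : (n : Nat) → OfNat Int n) (Gz : Int → Int) => ((pk61l (fun i1 => (_root_.Prod.mk (pk61l (fun i2 => (pk61y Oz Iz Gz (pk61d (nat_lit 2) 
    (nat_lit 0x2a002800202a002800200a00080080010001001400) i2))) (Nat.mul (nat_lit 7) i1) (Nat.mul (nat_lit 7) (Nat.succ i1)) List.nil) (_root_.Prod.mk (pk61o On In (pk61d (nat_lit 5) 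
    (nat_lit 0x835c739108002d6) i1)) (pk61l (fun i2 => (pk61y Oz Iz Gz (pk61d (nat_lit 3) 
    (nat_lit 0x28224029120030908220029100030801220006100084000340001340004a000) i2))) (Nat.mul (nat_lit 7) i1) (Nat.mul (nat_lit 7) (Nat.succ i1)) List.nil)))) (nat_lit 0) (nat_lit 12) List.nil) : List (List ℤ × ℕ × List ℤ)))
    = ?xq9020 → (List (List ℤ × ℕ × List ℤ))) ?hq9020; (case hq9020 => (set_option maxRecDepth 1000000 in conv => lhs; reduce)); intro _; exact ?xq9020 (@OfNat.ofNat Nat) instOfNatNat (@OfNat.ofNat Int) (@instOfNat) (@Neg.neg Int Int.instNegInt) : List (List ℤ × ℕ × List ℤ))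

/-- roots, classes, coroots -/
noncomputable def tE7g : List (List ℤ × ℕ × List ℤ) :=
  (by
  refine (?fq9021 : (fun (On : (n : Nat) → OfNat Nat n → Nat) (In : (n : Nat) → OfNat Nat n) (Oz : (n : Nat) → OfNat Int n → Int) (Iz : (n : Nat) → OfNat Int n) (Gz : Int → Int) => ((pk61l (fun i1 => (_root_.Prod.mk (pk61l (fun i2 => (pk61y Oz Iz Gz (pk61d (nat_lit 2) 
    (nat_lit 0x2a2a882a202880220008aa80aa00a800a00082a80) i2))) (Nat.mul (nat_lit 7) i1) (Nat.mul (nat_lit 7) (Nat.succ i1)) List.nil) (_root_.Prod.mk (pk61o On In (pk61d (nat_lit 5) 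
    (nat_lit 0x3ce6b60d6b42690) i1)) (pk61l (fun i2 => (pk61y Oz Iz Gz (pk61d (nat_lit 3) 
    (nat_lit 0x848a00140a00a00a05000a280008810011250089050448052240060280448) i2))) (Nat.mul (nat_lit 7) i1) (Nat.mul (nat_lit 7) (Nat.succ i1)) List.nil)))) (nat_lit 0) (nat_lit 12) List.nil) : List (List ℤ × ℕ × List ℤ)))
    = ?xq9021 → (List (List ℤ × ℕ × List ℤ))) ?hq9021; (case hq9021 => (set_option maxRecDepth 1000000 in conv => lhs; reduce)); intro _; exact ?xq9021 (@OfNat.ofNat Nat) instOfNatNat (@OfNat.ofNat Int) (@instOfNat) (@Neg.neg Int Int.instNegInt) : List (List ℤ × ℕ × List ℤ))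

/-- roots, classes, coroots -/
noncomputable def tE7h : List (List ℤ × ℕ × List ℤ) :=
  (by
  refine (?fq9022 : (fun (On : (n : Nat) → OfNat Nat n → Nat) (In : (n : Nat) → OfNat Nat n) (Oz : (n : Nat) → OfNat Int n → Int) (Iz : (n : Nat) → OfNat Int n) (Gz : Int → Int) => ((pk61l (fun i1 => (_root_.Prod.mk (pk61l (fun i2 => (pk61y Oz Iz Gz (pk61d (nat_lit 3) 
    (nat_lit 0x24100020800004a48904a4480522412512012890014482492402492002490) i2))) (Nat.mul (nat_lit 7) i1) (Nat.mul (nat_lit 7) (Nat.succ i1)) List.nil) (_root_.Prod.mk (pk61o On In (pk61d (nat_lit 5) 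
    (nat_lit 0x23e80b5af77b9c6) i1)) (pk61l (fun i2 => (pk61y Oz Iz Gz (pk61d (nat_lit 3) 
    (nat_lit 0xa05000a08000881000145000908005028025140104200a00a44a05220a291) i2))) (Nat.mul (nat_lit 7) i1) (Nat.mul (nat_lit 7) (Nat.succ i1)) List.nil)))) (nat_lit 0) (nat_lit 12) List.nil) : List (List ℤ × ℕ × List ℤ)))
    = ?xq9022 → (List (List ℤ × ℕ × List ℤ))) ?hq9022; (case hq9022 => (set_option maxRecDepth 1000000 in conv => lhs; reduce)); intro _; exact ?xq9022 (@OfNat.ofNat Nat) instOfNatNat (@OfNat.ofNat Int) (@instOfNat) (@Neg.neg Int Int.instNegInt) : List (List ℤ × ℕ × List ℤ))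

/-- roots, classes, coroots -/
noncomputable def tE7i : List (List ℤ × ℕ × List ℤ) :=
  (by
  refine (?fq9023 : (fun (On : (n : Nat) → OfNat Nat n → Nat) (In : (n : Nat) → OfNat Nat n) (Oz : (n : Nat) → OfNat Int n → Int) (Iz : (n : Nat) → OfNat Int n) (Gz : Int → Int) => ((pk61l (fun i1 => (_root_.Prod.mk (pk61l (fun i2 => (pk61y Oz Iz Gz (pk61d (nat_lit 3) 
    (nat_lit 0x4a4490522492512412892014492492482492402492002492492082490402482) i2))) (Nat.mul (nat_lit 7) i1) (Nat.mul (nat_lit 7) (Nat.succ i1)) List.nil) (_root_.Prod.mk (pk61o On In (pk61d (nat_lit 5) 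
    (nat_lit 0x8c65252521118c3) i1)) (pk61l (fun i2 => (pk61y Oz Iz Gz (pk61d (nat_lit 2) 
    (nat_lit 0x98492128649992124a04a612864a042a0066018606) i2))) (Nat.mul (nat_lit 7) i1) (Nat.mul (nat_lit 7) (Nat.succ i1)) List.nil)))) (nat_lit 0) (nat_lit 12) List.nil) : List (List ℤ × ℕ × List ℤ)))
    = ?xq9023 → (List (List ℤ × ℕ × List ℤ))) ?hq9023; (case hq9023 => (set_option maxRecDepth 1000000 in conv => lhs; reduce)); intro _; exact ?xq9023 (@OfNat.ofNat Nat) instOfNatNat (@OfNat.ofNat Int) (@instOfNat) (@Neg.neg Int Int.instNegInt) : List (List ℤ × ℕ × List ℤ))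

/-- roots, classes, coroots -/
noncomputable def tE7j : List (List ℤ × ℕ × List ℤ) :=
  (by
  refine (?fq9024 : (fun (On : (n : Nat) → OfNat Nat n → Nat) (In : (n : Nat) → OfNat Nat n) (Oz : (n : Nat) → OfNat Int n → Int) (Iz : (n : Nat) → OfNat Int n) (Gz : Int → Int) => ((pk61l (fun i1 => (_root_.Prod.mk (pk61l (fun i2 => (pk61y Oz Iz Gz (pk61d (nat_lit 3) 
    (nat_lit 0xa69129b44949a2494d120a68929244929224149124948904a44805224a4892) i2))) (Nat.mul (nat_lit 7) i1) (Nat.mul (nat_lit 7) (Nat.succ i1)) List.nil) (_root_.Prod.mk (pk61o On In (pk61d (nat_lit 5) 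
    (nat_lit 0xc0c95abd8c6b4b4) i1)) (pk61l (fun i2 => (pk61y Oz Iz Gz (pk61d (nat_lit 2) 
    (nat_lit 0x402020426124844210860998126084819201080812) i2))) (Nat.mul (nat_lit 7) i1) (Nat.mul (nat_lit 7) (Nat.succ i1)) List.nil)))) (nat_lit 0) (nat_lit 12) List.nil) : List (List ℤ × ℕ × List ℤ)))
    = ?xq9024 → (List (List ℤ × ℕ × List ℤ))) ?hq9024; (case hq9024 => (set_option maxRecDepth 1000000 in conv => lhs; reduce)); intro _; exact ?xq9024 (@OfNat.ofNat Nat) instOfNatNat (@OfNat.ofNat Int) (@instOfNat) (@Neg.neg Int Int.instNegInt) : List (List ℤ × ℕ × List ℤ))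

/-- roots, classes, coroots -/
noncomputable def tE7k : List (List ℤ × ℕ × List ℤ) :=
  (by
  refine (?fq9025 : (fun (On : (n : Nat) → OfNat Nat n → Nat) (In : (n : Nat) → OfNat Nat n) (Oz : (n : Nat) → OfNat Int n → Int) (Iz : (n : Nat) → OfNat Int n) (Gz : Int → Int) => ((pk61l (fun i1 => (_root_.Prod.mk (pk61l (fun i2 => (pk61y Oz Iz Gz (pk61d (nat_lit 4) 
    (nat_lit 0x246864424686422468442246644224464422246442) i2))) (Nat.mul (nat_lit 7) i1) (Nat.mul (nat_lit 7) (Nat.succ i1)) List.nil) (_root_.Prod.mk (pk61o On In (pk61d (nat_lit 5) 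
    (nat_lit 0x550458) i1)) (pk61l (fun i2 => (pk61y Oz Iz Gz (pk61d (nat_lit 2) 
    (nat_lit 0x802102402482422408) i2))) (Nat.mul (nat_lit 7) i1) (Nat.mul (nat_lit 7) (Nat.succ i1)) List.nil)))) (nat_lit 0) (nat_lit 6) List.nil) : List (List ℤ × ℕ × List ℤ)))
    = ?xq9025 → (List (List ℤ × ℕ × List ℤ))) ?hq9025; (case hq9025 => (set_option maxRecDepth 1000000 in conv => lhs; reduce)); intro _; exact ?xq9025 (@OfNat.ofNat Nat) instOfNatNat (@OfNat.ofNat Int) (@instOfNat) (@Neg.neg Int Int.instNegInt) : List (List ℤ × ℕ × List ℤ))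

/-- roots, classes, coroots -/
noncomputable def tE7 : List (List ℤ × ℕ × List ℤ) :=
  List.flatten [tE7a, tE7b, tE7c, tE7d, tE7e, tE7f, tE7g, tE7h, tE7i, tE7j, tE7k]

/-- the roots and coroots of `D₄` -/
noncomputable def rE7a : List (List ℤ × List ℤ) :=
  (by
  refine (?fq9026 : (fun (Oz : (n : Nat) → OfNat Int n → Int) (Iz : (n : Nat) → OfNat Int n) (Gz : Int → Int) => ((pk61l (fun i1 => (_root_.Prod.mk (pk61l (fun i2 => (pk61y Oz Iz Gz (pk61d (nat_lit 2) 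
    (nat_lit 0xa201d402802a002a02a8004020000200040400000) i2))) (Nat.mul (nat_lit 7) i1) (Nat.mul (nat_lit 7) (Nat.succ i1)) List.nil) (pk61l (fun i2 => (pk61y Oz Iz Gz (pk61d (nat_lit 3) 
    (nat_lit 0x5028040808029120a08900848828a44009840c200001100010602680000000) i2))) (Nat.mul (nat_lit 7) i1) (Nat.mul (nat_lit 7) (Nat.succ i1)) List.nil))) (nat_lit 0) (nat_lit 12) List.nil) : List (List ℤ × List ℤ)))
    = ?xq9026 → (List (List ℤ × List ℤ))) ?hq9026; (case hq9026 => (set_option maxRecDepth 1000000 in conv => lhs; reduce)); intro _; exact ?xq9026 (@OfNat.ofNat Int) (@instOfNat) (@Neg.neg Int Int.instNegInt) : List (List ℤ × List ℤ))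

/-- the roots and coroots of `D₄` -/
noncomputable def rE7b : List (List ℤ × List ℤ) :=
  (by
  refine (?fq9027 : (fun (Oz : (n : Nat) → OfNat Int n → Int) (Iz : (n : Nat) → OfNat Int n) (Gz : Int → Int) => ((pk61l (fun i1 => (_root_.Prod.mk (pk61l (fun i2 => (pk61y Oz Iz Gz (pk61d (nat_lit 3) 
    (nat_lit 0x1248001240049000048000080009040008200240000200014480010000480000410) i2))) (Nat.mul (nat_lit 7) i1) (Nat.mul (nat_lit 7) (Nat.succ i1)) List.nil) (pk61l (fun i2 => (pk61y Oz Iz Gz (pk61d (nat_lit 3) 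
    (nat_lit 0x1144a01025044148044a40030108844008a202252002690042008061201489001450) i2))) (Nat.mul (nat_lit 7) i1) (Nat.mul (nat_lit 7) (Nat.succ i1)) List.nil))) (nat_lit 0) (nat_lit 13) List.nil) : List (List ℤ × List ℤ)))
    = ?xq9027 → (List (List ℤ × List ℤ))) ?hq9027; (case hq9027 => (set_option maxRecDepth 1000000 in conv => lhs; reduce)); intro _; exact ?xq9027 (@OfNat.ofNat Int) (@instOfNat) (@Neg.neg Int Int.instNegInt) : List (List ℤ × List ℤ))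

private noncomputable def _root_.Cfsg.Agent.LsF.f00529d_7 : {f // @Cfsg.Lie.ChevalleyDatum.cartan = f} := ⟨_, by first | (delta Cfsg.Lie.ChevalleyDatum.cartan; rewrite [Cfsg.Agent.LsF.agetD_eq]; exact rfl) | exact rfl⟩
private noncomputable def _root_.Cfsg.Agent.LsF.f00529d_8 : {f // @Cfsg.Lie.ChevalleyDatum.simple = f} := ⟨_, by first | (delta Cfsg.Lie.ChevalleyDatum.simple; rewrite [Cfsg.Agent.LsF.agetD_eq]; exact rfl) | exact rfl⟩
private noncomputable def _root_.Cfsg.Agent.LsF.f00529d_9 : {f // @Cfsg.Agent.ChevalleyStructure.CoxeterGeomTypes.cartanOf = f} := ⟨_, by first | (delta Cfsg.Agent.ChevalleyStructure.CoxeterGeomTypes.cartanOf; rewrite [Cfsg.Agent.LsF.f00529d_7.2, Cfsg.Agent.LsF.f00529d_8.2]; exact rfl) | exact rfl⟩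
private noncomputable def _root_.Cfsg.Agent.LsF.f00529d_10 : {f // @Cfsg.Agent.ChevalleyStructure.RootVecTab.dig = f} := ⟨_, by first | (delta Cfsg.Agent.ChevalleyStructure.RootVecTab.dig; rewrite [Cfsg.Agent.LsF.nmul_pat]; exact rfl) | exact rfl⟩
private noncomputable def _root_.Cfsg.Agent.LsF.f00529d_11 : {f // @Cfsg.Agent.ChevalleyStructure.RootVecTab.packTab = f} := ⟨_, by first | (delta Cfsg.Agent.ChevalleyStructure.RootVecTab.packTab; rewrite [Cfsg.Agent.LsF.instDecEq_eq, Cfsg.Agent.LsF.ite_eq]; exact rfl) | exact rfl⟩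
private noncomputable def _root_.Cfsg.Agent.LsF.f00529d_12 : {f // @Cfsg.Agent.ChevalleyStructure.RootVecTab.code = f} := ⟨_, by first | (delta Cfsg.Agent.ChevalleyStructure.RootVecTab.code; rewrite [Cfsg.Agent.LsF.f00529d_11.2, Cfsg.Agent.LsF.nmul_pat, Cfsg.Agent.LsF.npow_pat]; exact rfl) | exact rfl⟩
private noncomputable def _root_.Cfsg.Agent.LsF.f00529d_13 : {f // @Cfsg.Agent.ChevalleyStructure.RootVec.rt = f} := ⟨_, by first | (delta Cfsg.Agent.ChevalleyStructure.RootVec.rt; rewrite [Cfsg.Agent.LsF.f00529d_10.2, Cfsg.Agent.LsF.f00529d_12.2, Cfsg.Agent.LsF.nsub_pat, Cfsg.Agent.LsF.isub_pat, Cfsg.Agent.LsF.icast_pat, Cfsg.Agent.LsF.decLt_eq, Cfsg.Agent.LsF.dAnd_eq, Cfsg.Agent.LsF.ite_eq]; exact rfl) | exact rfl⟩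
private noncomputable def _root_.Cfsg.Agent.LsF.f00529d_14 : {f // @Cfsg.Agent.Nodes.RGDChev.vec = f} := ⟨_, by first | (delta Cfsg.Agent.Nodes.RGDChev.vec; rewrite [Cfsg.Agent.LsF.f00529d_13.2]; exact rfl) | exact rfl⟩
private noncomputable def _root_.Cfsg.Agent.LsF.f00529d_15 : {f // @Cfsg.Agent.TO.X5.tE7 = f} := ⟨_, by first | (delta Cfsg.Agent.TO.X5.tE7; rewrite [Cfsg.Agent.LsF.flatten_eq]; exact rfl) | exact rfl⟩
theorem ckE7 : Ck chevE7 7 ![1, 1, 1, 1, 1, 1, 1] (beta% delta% lq26c09ab375 fun a b _ _ _ _ =>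
 (a (a 2<|a 0<|a (-1)<|a 0<|a 0<|a 0<|a 0<|b)<|a (a 0<|a 2<|a 0<|a (-1)<|a 0<|a 0<|a 0<|b)<|a (a (-1)<|a 0<|a 2<|a (-1)<|a 0<|a 0<|a 0<|b)<|a (a 0<|a (-1)<|a (-1)<|a 2<|a (-1)<|a 0<|a 0<|b)<|
 a (a 0<|a 0<|a 0<|a (-1)<|a 2<|a (-1)<|a 0<|b)<|a (a 0<|a 0<|a 0<|a 0<|a (-1)<|a 2<|a (-1)<|b)<|a (a 0<|a 0<|a 0<|a 0<|a 0<|a (-1)<|a 2<|b)<|b))
    [4, 0, 4, 2, 0, 1, 0] [0, 3, 0, 4, 4, 3, 0] tE7 (rE7a ++ rE7b) where
  sym := by (refine of_decide_eq_true ?_; (try (rewrite [Cfsg.Agent.LsF.f00529d_9.2, Cfsg.Agent.LsF.imul_pat, Cfsg.Agent.LsF.vecCons_eq, Cfsg.Agent.LsF.instIDecEq_eq, Cfsg.Agent.LsF.dForallFin_eq, Cfsg.Agent.LsF.decide_eq])); decide +kernel)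
  ne := by decide +kernel
  mat := by (refine of_decide_eq_true ?_; (try (rewrite [Cfsg.Agent.LsF.f00529d_9.2, Cfsg.Agent.LsF.imul_pat, Cfsg.Agent.LsF.ineg_pat, Cfsg.Agent.LsF.vecCons_eq, Cfsg.Agent.LsF.instIDecEq_eq, Cfsg.Agent.LsF.dListEq_eq, Cfsg.Agent.LsF.ofFn_eq, Cfsg.Agent.LsF.decide_eq])); decide +kernel)
  len := by decide +kernel
  rts := by (refine of_decide_eq_true ?_; (try (rewrite [Cfsg.Agent.LsF.f00529d_14.2, Cfsg.Agent.LsF.f00529d_15.2, Cfsg.Agent.LsF.map_eq, Cfsg.Agent.LsF.range_eq, Cfsg.Agent.LsF.instIDecEq_eq, Cfsg.Agent.LsF.dListEq_eq, Cfsg.Agent.LsF.ofFn_eq, Cfsg.Agent.LsF.decide_eq])); decide +kernel)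
  tab := by (refine of_decide_eq_true ?_; (try (rewrite [Cfsg.Agent.LsF.f00529d_15.2, Cfsg.Agent.LsF.f00529d_2.2, Cfsg.Agent.LsF.f00529d_0.2, Cfsg.Agent.LsF.imul_pat, Cfsg.Agent.LsF.ineg_pat, Cfsg.Agent.LsF.instDecEq_eq, Cfsg.Agent.LsF.map_eq, Cfsg.Agent.LsF.instIDecEq_eq, Cfsg.Agent.LsF.dAnd_eq, Cfsg.Agent.LsF.dBAll_eq, Cfsg.Agent.LsF.dListEq_eq, Cfsg.Agent.LsF.length_eq, Cfsg.Agent.LsF.decide_eq])); decide +kernel)
  mem := by (refine of_decide_eq_true ?_; (try (rewrite [Cfsg.Agent.LsF.f00529d_15.2, Cfsg.Agent.LsF.f00529d_1.2, Cfsg.Agent.LsF.f00529d_2.2, Cfsg.Agent.LsF.lappend_pat, Cfsg.Agent.LsF.zdecEq_eq, Cfsg.Agent.LsF.dProdEq_eq, Cfsg.Agent.LsF.zFintype_eq, Cfsg.Agent.LsF.prodFintype_eq, Cfsg.Agent.LsF.dForall_eq, Cfsg.Agent.LsF.dNot_eq, Cfsg.Agent.LsF.dMem_eq, Cfsg.Agent.LsF.dAllP_eq, Cfsg.Agent.LsF.decide_eq])); decide +kernel)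
  gram := by (refine of_decide_eq_true ?_; (try (rewrite [Cfsg.Agent.LsF.f00529d_0.2, Cfsg.Agent.LsF.f00529d_1.2, Cfsg.Agent.LsF.f00529d_2.2, Cfsg.Agent.LsF.f00529d_4.2, Cfsg.Agent.LsF.lappend_pat, Cfsg.Agent.LsF.zFintype_eq, Cfsg.Agent.LsF.prodFintype_eq, Cfsg.Agent.LsF.dForall_eq, Cfsg.Agent.LsF.instIDecEq_eq, Cfsg.Agent.LsF.decide_eq])); decide +kernel)
  neg := by decide +kernel
  add := by (refine of_decide_eq_true ?_; (try (rewrite [Cfsg.Agent.LsF.f00529d_4.2, Cfsg.Agent.LsF.f00529d_1.2, Cfsg.Agent.LsF.f00529d_2.2, Cfsg.Agent.LsF.iadd_pat, Cfsg.Agent.LsF.ineg_pat, Cfsg.Agent.LsF.lappend_pat, Cfsg.Agent.LsF.zFintype_eq, Cfsg.Agent.LsF.prodFintype_eq, Cfsg.Agent.LsF.dForall_eq, Cfsg.Agent.LsF.instZAdd_pat, Cfsg.Agent.LsF.zipWith_eq, Cfsg.Agent.LsF.instIDecEq_eq, Cfsg.Agent.LsF.dListEq_eq, Cfsg.Agent.LsF.dAllP_eq, Cfsg.Agent.LsF.decide_eq])); decide +kernel)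
  chr := by (refine of_decide_eq_true ?_; (try (rewrite [Cfsg.Agent.LsF.f00529d_15.2, Cfsg.Agent.LsF.f00529d_1.2, Cfsg.Agent.LsF.f00529d_0.2, Cfsg.Agent.LsF.ineg_pat, Cfsg.Agent.LsF.lappend_pat, Cfsg.Agent.LsF.instDecEq_eq, Cfsg.Agent.LsF.instIDecEq_eq, Cfsg.Agent.LsF.dNot_eq, Cfsg.Agent.LsF.dBAll_eq, Cfsg.Agent.LsF.dListEq_eq, Cfsg.Agent.LsF.dAllP_eq, Cfsg.Agent.LsF.dIffI_eq, Cfsg.Agent.LsF.decide_eq])); decide +kernel)
  long := by (refine of_decide_eq_true ?_; (try (rewrite [Cfsg.Agent.LsF.f00529d_15.2, Cfsg.Agent.LsF.f00529d_0.2, Cfsg.Agent.LsF.f00529d_1.2, Cfsg.Agent.LsF.f00529d_2.2, Cfsg.Agent.LsF.lappend_pat, Cfsg.Agent.LsF.zFintype_eq, Cfsg.Agent.LsF.prodFintype_eq, Cfsg.Agent.LsF.dForall_eq, Cfsg.Agent.LsF.instIDecEq_eq, Cfsg.Agent.LsF.idecLe_eq, Cfsg.Agent.LsF.dOr_eq, Cfsg.Agent.LsF.dBAll_eq, Cfsg.Agent.LsF.dListEq_eq, Cfsg.Agent.LsF.decide_eq])); decide +kernel)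
  psi := by (refine of_decide_eq_true ?_; (try (rewrite [Cfsg.Agent.LsF.f00529d_15.2, Cfsg.Agent.LsF.f00529d_0.2, Cfsg.Agent.LsF.f00529d_1.2, Cfsg.Agent.LsF.f00529d_2.2, Cfsg.Agent.LsF.lappend_pat, Cfsg.Agent.LsF.zdecEq_eq, Cfsg.Agent.LsF.dProdEq_eq, Cfsg.Agent.LsF.zFintype_eq, Cfsg.Agent.LsF.prodFintype_eq, Cfsg.Agent.LsF.dForall_eq, Cfsg.Agent.LsF.instDecEq_eq, Cfsg.Agent.LsF.instIDecEq_eq, Cfsg.Agent.LsF.dNot_eq, Cfsg.Agent.LsF.dBAll_eq, Cfsg.Agent.LsF.dAllP_eq, Cfsg.Agent.LsF.dIffI_eq, Cfsg.Agent.LsF.decide_eq])); decide +kernel)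
  sep := by decide +kernel
  par := by decide +kernel

/-- the roots of `D₄` -/
noncomputable def rtE7 (a : P5) : Fin 7 → ℤ := fl 7 (gt (rE7a ++ rE7b) (cd a)).1

theorem tbE7 : Tb hpE7 ![4, 0, 4, 2, 0, 1, 0] ![0, 3, 0, 4, 4, 3, 0] rtE7 := by
  have h := ckE7.tb hpE7
  rwa [show (fun i => (fl 7 [4, 0, 4, 2, 0, 1, 0] i : ZMod 5)) = ![4, 0, 4, 2, 0, 1, 0] by decide +kernel,
    show (fun i => (fl 7 [0, 3, 0, 4, 4, 3, 0] i : ZMod 5)) = ![0, 3, 0, 4, 4, 3, 0] by decide +kernel] at h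

end Cfsg.Agent.TO.X5
end

-- part: TO/X5/TabD
section
/-!
# S4817, exceptional groups, `p = 5` : the tables for `E₈` (helper34)
-/

set_option autoImplicit false
set_option maxHeartbeats 200000
set_option maxRecDepth 4000

namespace Cfsg.Agent.TO.X5

open Cfsg Cfsg.Lie Cfsg.Agent.KZ.DatX Cfsg.Agent.DL.Ex

/-- roots, classes, coroots -/
noncomputable def tE8a : List (List ℤ × ℕ × List ℤ) :=
  (by
  refine (?fq9028 : (fun (On : (n : Nat) → OfNat Nat n → Nat) (In : (n : Nat) → OfNat Nat n) (Oz : (n : Nat) → OfNat Int n → Int) (Iz : (n : Nat) → OfNat Int n) (Gz : Int → Int) => ((pk61l (fun i1 => (_root_.Prod.mk (pk61l (fun i2 => (pk61y Oz Iz Gz (pk61d (nat_lit 4) 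
    (nat_lit 0x133575331355753313577533135795331357973313579553135797531357b7531359b7531379b7531579b7533579b753) i2))) (Nat.mul (nat_lit 8) i1) (Nat.mul (nat_lit 8) (Nat.succ i1)) List.nil) (_root_.Prod.mk (pk61o On In (pk61d (nat_lit 5) 
    (nat_lit 0x5aee9ae0740000) i1)) (pk61l (fun i2 => (pk61y Oz Iz Gz (pk61d (nat_lit 2) 
    (nat_lit 0x180106010181006900180025009402400900240090004000) i2))) (Nat.mul (nat_lit 8) i1) (Nat.mul (nat_lit 8) (Nat.succ i1)) List.nil)))) (nat_lit 0) (nat_lit 12) List.nil) : List (List ℤ × ℕ × List ℤ)))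
    = ?xq9028 → (List (List ℤ × ℕ × List ℤ))) ?hq9028; (case hq9028 => (set_option maxRecDepth 1000000 in conv => lhs; reduce)); intro _; exact ?xq9028 (@OfNat.ofNat Nat) instOfNatNat (@OfNat.ofNat Int) (@instOfNat) (@Neg.neg Int Int.instNegInt) : List (List ℤ × ℕ × List ℤ))

/-- roots, classes, coroots -/
noncomputable def tE8b : List (List ℤ × ℕ × List ℤ) :=
  (by
  refine (?fq9029 : (fun (On : (n : Nat) → OfNat Nat n → Nat) (In : (n : Nat) → OfNat Nat n) (Oz : (n : Nat) → OfNat Int n → Int) (Iz : (n : Nat) → OfNat Int n) (Gz : Int → Int) => ((pk61l (fun i1 => (_root_.Prod.mk (pk61l (fun i2 => (pk61y Oz Iz Gz (pk61d (nat_lit 4) 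
    (nat_lit 0x133573311355733113577331013575311135753113357531135575311357753113579531135795510135753311357533) i2))) (Nat.mul (nat_lit 8) i1) (Nat.mul (nat_lit 8) (Nat.succ i1)) List.nil) (_root_.Prod.mk (pk61o On In (pk61d (nat_lit 5) 
    (nat_lit 0x7b1b4a523249800) i1)) (pk61l (fun i2 => (pk61y Oz Iz Gz (pk61d (nat_lit 2) 
    (nat_lit 0x18600660012080126012181206120192004a000680016001) i2))) (Nat.mul (nat_lit 8) i1) (Nat.mul (nat_lit 8) (Nat.succ i1)) List.nil)))) (nat_lit 0) (nat_lit 12) List.nil) : List (List ℤ × ℕ × List ℤ)))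
    = ?xq9029 → (List (List ℤ × ℕ × List ℤ))) ?hq9029; (case hq9029 => (set_option maxRecDepth 1000000 in conv => lhs; reduce)); intro _; exact ?xq9029 (@OfNat.ofNat Nat) instOfNatNat (@OfNat.ofNat Int) (@instOfNat) (@Neg.neg Int Int.instNegInt) : List (List ℤ × ℕ × List ℤ))

/-- roots, classes, coroots -/
noncomputable def tE8c : List (List ℤ × ℕ × List ℤ) :=
  (by
  refine (?fq9030 : (fun (On : (n : Nat) → OfNat Nat n → Nat) (In : (n : Nat) → OfNat Nat n) (Oz : (n : Nat) → OfNat Int n → Int) (Iz : (n : Nat) → OfNat Int n) (Gz : Int → Int) => ((pk61l (fun i1 => (_root_.Prod.mk (pk61l (fun i2 => (pk61y Oz Iz Gz (pk61d (nat_lit 3) 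
    (nat_lit 0xbad904bad924bad905bad925bad92dbad905dad925dad92ddad92edad905ded925ded9) i2))) (Nat.mul (nat_lit 8) i1) (Nat.mul (nat_lit 8) (Nat.succ i1)) List.nil) (_root_.Prod.mk (pk61o On In (pk61d (nat_lit 5) 
    (nat_lit 0x318c318c84255ef) i1)) (pk61l (fun i2 => (pk61y Oz Iz Gz (pk61d (nat_lit 2) 
    (nat_lit 0x200498044804860466041204818461841984048480606060) i2))) (Nat.mul (nat_lit 8) i1) (Nat.mul (nat_lit 8) (Nat.succ i1)) List.nil)))) (nat_lit 0) (nat_lit 12) List.nil) : List (List ℤ × ℕ × List ℤ)))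
    = ?xq9030 → (List (List ℤ × ℕ × List ℤ))) ?hq9030; (case hq9030 => (set_option maxRecDepth 1000000 in conv => lhs; reduce)); intro _; exact ?xq9030 (@OfNat.ofNat Nat) instOfNatNat (@OfNat.ofNat Int) (@instOfNat) (@Neg.neg Int Int.instNegInt) : List (List ℤ × ℕ × List ℤ))

/-- roots, classes, coroots -/
noncomputable def tE8d : List (List ℤ × ℕ × List ℤ) :=
  (by
  refine (?fq9031 : (fun (On : (n : Nat) → OfNat Nat n → Nat) (In : (n : Nat) → OfNat Nat n) (Oz : (n : Nat) → OfNat Int n → Int) (Iz : (n : Nat) → OfNat Int n) (Gz : Int → Int) => ((pk61l (fun i1 => (_root_.Prod.mk (pk61l (fun i2 => (pk61y Oz Iz Gz (pk61d (nat_lit 3) 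
    (nat_lit 0x25b6c92db6c900bac904bac924bac905bac925bac92dbac905dac925dac92ddac92edac9) i2))) (Nat.mul (nat_lit 8) i1) (Nat.mul (nat_lit 8) (Nat.succ i1)) List.nil) (_root_.Prod.mk (pk61o On In (pk61d (nat_lit 5) 
    (nat_lit 0x529294842110858) i1)) (pk61l (fun i2 => (pk61y Oz Iz Gz (pk61d (nat_lit 2) 
    (nat_lit 0x649010902048984848488648664812488108610819080408) i2))) (Nat.mul (nat_lit 8) i1) (Nat.mul (nat_lit 8) (Nat.succ i1)) List.nil)))) (nat_lit 0) (nat_lit 12) List.nil) : List (List ℤ × ℕ × List ℤ)))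
    = ?xq9031 → (List (List ℤ × ℕ × List ℤ))) ?hq9031; (case hq9031 => (set_option maxRecDepth 1000000 in conv => lhs; reduce)); intro _; exact ?xq9031 (@OfNat.ofNat Nat) instOfNatNat (@OfNat.ofNat Int) (@instOfNat) (@Neg.neg Int Int.instNegInt) : List (List ℤ × ℕ × List ℤ))

/-- roots, classes, coroots -/
noncomputable def tE8e : List (List ℤ × ℕ × List ℤ) :=
  (by
  refine (?fq9032 : (fun (On : (n : Nat) → OfNat Nat n → Nat) (In : (n : Nat) → OfNat Nat n) (Oz : (n : Nat) → OfNat Int n → Int) (Iz : (n : Nat) → OfNat Int n) (Gz : Int → Int) => ((pk61l (fun i1 => (_root_.Prod.mk (pk61l (fun i2 => (pk61y Oz Iz Gz (pk61d (nat_lit 2) 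
    (nat_lit 0x57d51fd55fd57fd501f505f515f555f507f517f557f51ff5) i2))) (Nat.mul (nat_lit 8) i1) (Nat.mul (nat_lit 8) (Nat.succ i1)) List.nil) (_root_.Prod.mk (pk61o On In (pk61d (nat_lit 5) 
    (nat_lit 0x694a5a463194a4a) i1)) (pk61l (fun i2 => (pk61y Oz Iz Gz (pk61d (nat_lit 2) 
    (nat_lit 0x492184216421102108102610921042102190999049908490) i2))) (Nat.mul (nat_lit 8) i1) (Nat.mul (nat_lit 8) (Nat.succ i1)) List.nil)))) (nat_lit 0) (nat_lit 12) List.nil) : List (List ℤ × ℕ × List ℤ)))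
    = ?xq9032 → (List (List ℤ × ℕ × List ℤ))) ?hq9032; (case hq9032 => (set_option maxRecDepth 1000000 in conv => lhs; reduce)); intro _; exact ?xq9032 (@OfNat.ofNat Nat) instOfNatNat (@OfNat.ofNat Int) (@instOfNat) (@Neg.neg Int Int.instNegInt) : List (List ℤ × ℕ × List ℤ))

/-- roots, classes, coroots -/
noncomputable def tE8f : List (List ℤ × ℕ × List ℤ) :=
  (by
  refine (?fq9033 : (fun (On : (n : Nat) → OfNat Nat n → Nat) (In : (n : Nat) → OfNat Nat n) (Oz : (n : Nat) → OfNat Int n → Int) (Iz : (n : Nat) → OfNat Int n) (Gz : Int → Int) => ((pk61l (fun i1 => (_root_.Prod.mk (pk61l (fun i2 => (pk61y Oz Iz Gz (pk61d (nat_lit 2) 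
    (nat_lit 0x55510055015505551555555501d505d515d555d507d517d5) i2))) (Nat.mul (nat_lit 8) i1) (Nat.mul (nat_lit 8) (Nat.succ i1)) List.nil) (_root_.Prod.mk (pk61o On In (pk61d (nat_lit 5) 
    (nat_lit 0xc0c95ad5ec631ad) i1)) (pk61l (fun i2 => (pk61y Oz Iz Gz (pk61d (nat_lit 2) 
    (nat_lit 0x400902050985248590854085086126619261426121219921) i2))) (Nat.mul (nat_lit 8) i1) (Nat.mul (nat_lit 8) (Nat.succ i1)) List.nil)))) (nat_lit 0) (nat_lit 12) List.nil) : List (List ℤ × ℕ × List ℤ)))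
    = ?xq9033 → (List (List ℤ × ℕ × List ℤ))) ?hq9033; (case hq9033 => (set_option maxRecDepth 1000000 in conv => lhs; reduce)); intro _; exact ?xq9033 (@OfNat.ofNat Nat) instOfNatNat (@OfNat.ofNat Int) (@instOfNat) (@Neg.neg Int Int.instNegInt) : List (List ℤ × ℕ × List ℤ))

/-- roots, classes, coroots -/
noncomputable def tE8g : List (List ℤ × ℕ × List ℤ) :=
  (by
  refine (?fq9034 : (fun (On : (n : Nat) → OfNat Nat n → Nat) (In : (n : Nat) → OfNat Nat n) (Oz : (n : Nat) → OfNat Int n → Int) (Iz : (n : Nat) → OfNat Int n) (Gz : Int → Int) => ((pk61l (fun i1 => (_root_.Prod.mk (pk61l (fun i2 => (pk61y Oz Iz Gz (pk61d (nat_lit 2) 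
    (nat_lit 0x7d417d457d41fd45fd47fd4000100110051015105511551) i2))) (Nat.mul (nat_lit 8) i1) (Nat.mul (nat_lit 8) (Nat.succ i1)) List.nil) (_root_.Prod.mk (pk61o On In (pk61d (nat_lit 5) 
    (nat_lit 0x42100000aa08b18) i1)) (pk61l (fun i2 => (pk61y Oz Iz Gz (pk61d (nat_lit 2) 
    (nat_lit 0x210299024902840264021002002300910249090924099009) i2))) (Nat.mul (nat_lit 8) i1) (Nat.mul (nat_lit 8) (Nat.succ i1)) List.nil)))) (nat_lit 0) (nat_lit 12) List.nil) : List (List ℤ × ℕ × List ℤ)))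
    = ?xq9034 → (List (List ℤ × ℕ × List ℤ))) ?hq9034; (case hq9034 => (set_option maxRecDepth 1000000 in conv => lhs; reduce)); intro _; exact ?xq9034 (@OfNat.ofNat Nat) instOfNatNat (@OfNat.ofNat Int) (@instOfNat) (@Neg.neg Int Int.instNegInt) : List (List ℤ × ℕ × List ℤ))

/-- roots, classes, coroots -/
noncomputable def tE8h : List (List ℤ × ℕ × List ℤ) :=
  (by
  refine (?fq9035 : (fun (On : (n : Nat) → OfNat Nat n → Nat) (In : (n : Nat) → OfNat Nat n) (Oz : (n : Nat) → OfNat Int n → Int) (Iz : (n : Nat) → OfNat Int n) (Gz : Int → Int) => ((pk61l (fun i1 => (_root_.Prod.mk (pk61l (fun i2 => (pk61y Oz Iz Gz (pk61d (nat_lit 2) 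
    (nat_lit 0x544154455440054015405541554555401d405d415d455d4) i2))) (Nat.mul (nat_lit 8) i1) (Nat.mul (nat_lit 8) (Nat.succ i1)) List.nil) (_root_.Prod.mk (pk61o On In (pk61d (nat_lit 5) 
    (nat_lit 0x5ad77c421051ce7) i1)) (pk61l (fun i2 => (pk61y Oz Iz Gz (pk61d (nat_lit 2) 
    (nat_lit 0x242490244024021609962496909640960842264292424242) i2))) (Nat.mul (nat_lit 8) i1) (Nat.mul (nat_lit 8) (Nat.succ i1)) List.nil)))) (nat_lit 0) (nat_lit 12) List.nil) : List (List ℤ × ℕ × List ℤ)))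
    = ?xq9035 → (List (List ℤ × ℕ × List ℤ))) ?hq9035; (case hq9035 => (set_option maxRecDepth 1000000 in conv => lhs; reduce)); intro _; exact ?xq9035 (@OfNat.ofNat Nat) instOfNatNat (@OfNat.ofNat Int) (@instOfNat) (@Neg.neg Int Int.instNegInt) : List (List ℤ × ℕ × List ℤ))

/-- roots, classes, coroots -/
noncomputable def tE8i : List (List ℤ × ℕ × List ℤ) :=
  (by
  refine (?fq9036 : (fun (On : (n : Nat) → OfNat Nat n → Nat) (In : (n : Nat) → OfNat Nat n) (Oz : (n : Nat) → OfNat Int n → Int) (Iz : (n : Nat) → OfNat Int n) (Gz : Int → Int) => ((pk61l (fun i1 => (_root_.Prod.mk (pk61l (fun i2 => (pk61y Oz Iz Gz (pk61d (nat_lit 1) 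
    (nat_lit 0x3878f8040c1c3c7cfc020a1a) i2))) (Nat.mul (nat_lit 8) i1) (Nat.mul (nat_lit 8) (Nat.succ i1)) List.nil) (_root_.Prod.mk (pk61o On In (pk61d (nat_lit 5) 
    (nat_lit 0x739c5ada7398a53) i1)) (pk61l (fun i2 => (pk61y Oz Iz Gz (pk61d (nat_lit 2) 
    (nat_lit 0x24689068406800b2025a091a241a901a401a008c02640924) i2))) (Nat.mul (nat_lit 8) i1) (Nat.mul (nat_lit 8) (Nat.succ i1)) List.nil)))) (nat_lit 0) (nat_lit 12) List.nil) : List (List ℤ × ℕ × List ℤ)))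
    = ?xq9036 → (List (List ℤ × ℕ × List ℤ))) ?hq9036; (case hq9036 => (set_option maxRecDepth 1000000 in conv => lhs; reduce)); intro _; exact ?xq9036 (@OfNat.ofNat Nat) instOfNatNat (@OfNat.ofNat Int) (@instOfNat) (@Neg.neg Int Int.instNegInt) : List (List ℤ × ℕ × List ℤ))

/-- roots, classes, coroots -/
noncomputable def tE8j : List (List ℤ × ℕ × List ℤ) :=
  (by
  refine (?fq9037 : (fun (On : (n : Nat) → OfNat Nat n → Nat) (In : (n : Nat) → OfNat Nat n) (Oz : (n : Nat) → OfNat Int n → Int) (Iz : (n : Nat) → OfNat Int n) (Gz : Int → Int) => ((pk61l (fun i1 => (_root_.Prod.mk (pk61l (fun i2 => (pk61y Oz Iz Gz (pk61d (nat_lit 1) 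
    (nat_lit 0x8040c02060e0103070f00818) i2))) (Nat.mul (nat_lit 8) i1) (Nat.mul (nat_lit 8) (Nat.succ i1)) List.nil) (_root_.Prod.mk (pk61o On In (pk61d (nat_lit 5) 
    (nat_lit 0x16b5837bde11) i1)) (pk61l (fun i2 => (pk61y Oz Iz Gz (pk61d (nat_lit 2) 
    (nat_lit 0xe000b80058002e00960046000b8025809180418002e80968) i2))) (Nat.mul (nat_lit 8) i1) (Nat.mul (nat_lit 8) (Nat.succ i1)) List.nil)))) (nat_lit 0) (nat_lit 12) List.nil) : List (List ℤ × ℕ × List ℤ)))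
    = ?xq9037 → (List (List ℤ × ℕ × List ℤ))) ?hq9037; (case hq9037 => (set_option maxRecDepth 1000000 in conv => lhs; reduce)); intro _; exact ?xq9037 (@OfNat.ofNat Nat) instOfNatNat (@OfNat.ofNat Int) (@instOfNat) (@Neg.neg Int Int.instNegInt) : List (List ℤ × ℕ × List ℤ))

/-- roots, classes, coroots -/
noncomputable def tE8k : List (List ℤ × ℕ × List ℤ) :=
  (by
  refine (?fq9038 : (fun (On : (n : Nat) → OfNat Nat n → Nat) (In : (n : Nat) → OfNat Nat n) (Oz : (n : Nat) → OfNat Int n → Int) (Iz : (n : Nat) → OfNat Int n) (Gz : Int → Int) => ((pk61l (fun i1 => (_root_.Prod.mk (pk61l (fun i2 => (pk61y Oz Iz Gz (pk61d (nat_lit 2) 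
    (nat_lit 0x2800080aa002a000a000200a80028000800a00020008000) i2))) (Nat.mul (nat_lit 8) i1) (Nat.mul (nat_lit 8) (Nat.succ i1)) List.nil) (_root_.Prod.mk (pk61o On In (pk61d (nat_lit 4) 
    (nat_lit 0xde7774888000) i1)) (pk61l (fun i2 => (pk61y Oz Iz Gz (pk61d (nat_lit 3) 
    (nat_lit 0xa44800184840220028220005220000c200411000291000061000488000308000840000) i2))) (Nat.mul (nat_lit 8) i1) (Nat.mul (nat_lit 8) (Nat.succ i1)) List.nil)))) (nat_lit 0) (nat_lit 12) List.nil) : List (List ℤ × ℕ × List ℤ)))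
    = ?xq9038 → (List (List ℤ × ℕ × List ℤ))) ?hq9038; (case hq9038 => (set_option maxRecDepth 1000000 in conv => lhs; reduce)); intro _; exact ?xq9038 (@OfNat.ofNat Nat) instOfNatNat (@OfNat.ofNat Int) (@instOfNat) (@Neg.neg Int Int.instNegInt) : List (List ℤ × ℕ × List ℤ))

/-- roots, classes, coroots -/
noncomputable def tE8l : List (List ℤ × ℕ × List ℤ) :=
  (by
  refine (?fq9039 : (fun (On : (n : Nat) → OfNat Nat n → Nat) (In : (n : Nat) → OfNat Nat n) (Oz : (n : Nat) → OfNat Int n → Int) (Iz : (n : Nat) → OfNat Int n) (Gz : Int → Int) => ((pk61l (fun i1 => (_root_.Prod.mk (pk61l (fun i2 => (pk61y Oz Iz Gz (pk61d (nat_lit 2) 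
    (nat_lit 0x28800880008aaa02aa00aa002a000a00020aa802a800a80) i2))) (Nat.mul (nat_lit 8) i1) (Nat.mul (nat_lit 8) (Nat.succ i1)) List.nil) (_root_.Prod.mk (pk61o On In (pk61d (nat_lit 5) 
    (nat_lit 0x5b06b5ad09a4210) i1)) (pk61l (fun i2 => (pk61y Oz Iz Gz (pk61d (nat_lit 3) 
    (nat_lit 0xa05000145000022040008928008905008900a089001489000301400448280448050448) i2))) (Nat.mul (nat_lit 8) i1) (Nat.mul (nat_lit 8) (Nat.succ i1)) List.nil)))) (nat_lit 0) (nat_lit 12) List.nil) : List (List ℤ × ℕ × List ℤ)))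
    = ?xq9039 → (List (List ℤ × ℕ × List ℤ))) ?hq9039; (case hq9039 => (set_option maxRecDepth 1000000 in conv => lhs; reduce)); intro _; exact ?xq9039 (@OfNat.ofNat Nat) instOfNatNat (@OfNat.ofNat Int) (@instOfNat) (@Neg.neg Int Int.instNegInt) : List (List ℤ × ℕ × List ℤ))

/-- roots, classes, coroots -/
noncomputable def tE8m : List (List ℤ × ℕ × List ℤ) :=
  (by
  refine (?fq9040 : (fun (On : (n : Nat) → OfNat Nat n → Nat) (In : (n : Nat) → OfNat Nat n) (Oz : (n : Nat) → OfNat Int n → Int) (Iz : (n : Nat) → OfNat Int n) (Gz : Int → Int) => ((pk61l (fun i1 => (_root_.Prod.mk (pk61l (fun i2 => (pk61y Oz Iz Gz (pk61d (nat_lit 3) 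
    (nat_lit 0x492890092890012890002890492490092490012490002490000490492410092410012410) i2))) (Nat.mul (nat_lit 8) i1) (Nat.mul (nat_lit 8) (Nat.succ i1)) List.nil) (_root_.Prod.mk (pk61o On In (pk61d (nat_lit 5) 
    (nat_lit 0xbdeef739c63ce73) i1)) (pk61l (fun i2 => (pk61y Oz Iz Gz (pk61d (nat_lit 2) 
    (nat_lit 0x818161811981048180696069186906690129801860181818) i2))) (Nat.mul (nat_lit 8) i1) (Nat.mul (nat_lit 8) (Nat.succ i1)) List.nil)))) (nat_lit 0) (nat_lit 12) List.nil) : List (List ℤ × ℕ × List ℤ)))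
    = ?xq9040 → (List (List ℤ × ℕ × List ℤ))) ?hq9040; (case hq9040 => (set_option maxRecDepth 1000000 in conv => lhs; reduce)); intro _; exact ?xq9040 (@OfNat.ofNat Nat) instOfNatNat (@OfNat.ofNat Int) (@instOfNat) (@Neg.neg Int Int.instNegInt) : List (List ℤ × ℕ × List ℤ))

/-- roots, classes, coroots -/
noncomputable def tE8n : List (List ℤ × ℕ × List ℤ) :=
  (by
  refine (?fq9041 : (fun (On : (n : Nat) → OfNat Nat n → Nat) (In : (n : Nat) → OfNat Nat n) (Oz : (n : Nat) → OfNat Int n → Int) (Iz : (n : Nat) → OfNat Int n) (Gz : Int → Int) => ((pk61l (fun i1 => (_root_.Prod.mk (pk61l (fun i2 => (pk61y Oz Iz Gz (pk61d (nat_lit 3) 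
    (nat_lit 0x924820124820024820004820000820000025248904a48900a4890494890094890014890) i2))) (Nat.mul (nat_lit 8) i1) (Nat.mul (nat_lit 8) (Nat.succ i1)) List.nil) (_root_.Prod.mk (pk61o On In (pk61d (nat_lit 5) 
    (nat_lit 0x318647d00005ad6) i1)) (pk61l (fun i2 => (pk61y Oz Iz Gz (pk61d (nat_lit 3) 
    (nat_lit 0x28000a05000a00a00a00140a00028200004408000145000121000140a00128a001042001) i2))) (Nat.mul (nat_lit 8) i1) (Nat.mul (nat_lit 8) (Nat.succ i1)) List.nil)))) (nat_lit 0) (nat_lit 12) List.nil) : List (List ℤ × ℕ × List ℤ)))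
    = ?xq9041 → (List (List ℤ × ℕ × List ℤ))) ?hq9041; (case hq9041 => (set_option maxRecDepth 1000000 in conv => lhs; reduce)); intro _; exact ?xq9041 (@OfNat.ofNat Nat) instOfNatNat (@OfNat.ofNat Int) (@instOfNat) (@Neg.neg Int Int.instNegInt) : List (List ℤ × ℕ × List ℤ))

/-- roots, classes, coroots -/
noncomputable def tE8o : List (List ℤ × ℕ × List ℤ) :=
  (by
  refine (?fq9042 : (fun (On : (n : Nat) → OfNat Nat n → Nat) (In : (n : Nat) → OfNat Nat n) (Oz : (n : Nat) → OfNat Int n → Int) (Iz : (n : Nat) → OfNat Int n) (Gz : Int → Int) => ((pk61l (fun i1 => (_root_.Prod.mk (pk61l (fun i2 => (pk61y Oz Iz Gz (pk61d (nat_lit 3) 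
    (nat_lit 0x94892014892492892092892012892002892492492092492012492002492000492492482) i2))) (Nat.mul (nat_lit 8) i1) (Nat.mul (nat_lit 8) (Nat.succ i1)) List.nil) (_root_.Prod.mk (pk61o On In (pk61d (nat_lit 5) 
    (nat_lit 0x8c6529292948446) i1)) (pk61l (fun i2 => (pk61y Oz Iz Gz (pk61d (nat_lit 2) 
    (nat_lit 0x661212128192619219920492804a604a184a064a010a8006) i2))) (Nat.mul (nat_lit 8) i1) (Nat.mul (nat_lit 8) (Nat.succ i1)) List.nil)))) (nat_lit 0) (nat_lit 12) List.nil) : List (List ℤ × ℕ × List ℤ)))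
    = ?xq9042 → (List (List ℤ × ℕ × List ℤ))) ?hq9042; (case hq9042 => (set_option maxRecDepth 1000000 in conv => lhs; reduce)); intro _; exact ?xq9042 (@OfNat.ofNat Nat) instOfNatNat (@OfNat.ofNat Int) (@instOfNat) (@Neg.neg Int Int.instNegInt) : List (List ℤ × ℕ × List ℤ))

/-- roots, classes, coroots -/
noncomputable def tE8p : List (List ℤ × ℕ × List ℤ) :=
  (by
  refine (?fq9043 : (fun (On : (n : Nat) → OfNat Nat n → Nat) (In : (n : Nat) → OfNat Nat n) (Oz : (n : Nat) → OfNat Int n → Int) (Iz : (n : Nat) → OfNat Int n) (Gz : Int → Int) => ((pk61l (fun i1 => (_root_.Prod.mk (pk61l (fun i2 => (pk61y Oz Iz Gz (pk61d (nat_lit 3) 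
    (nat_lit 0xa49124949120949120149124929120929120129120029125248924a48920a4892494892) i2))) (Nat.mul (nat_lit 8) i1) (Nat.mul (nat_lit 8) (Nat.succ i1)) List.nil) (_root_.Prod.mk (pk61o On In (pk61d (nat_lit 5) 
    (nat_lit 0x7b18c6b5a5a5291) i1)) (pk61l (fun i2 => (pk61y Oz Iz Gz (pk61d (nat_lit 2) 
    (nat_lit 0x486086606660126081206120192004202012981248128612) i2))) (Nat.mul (nat_lit 8) i1) (Nat.mul (nat_lit 8) (Nat.succ i1)) List.nil)))) (nat_lit 0) (nat_lit 12) List.nil) : List (List ℤ × ℕ × List ℤ)))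
    = ?xq9043 → (List (List ℤ × ℕ × List ℤ))) ?hq9043; (case hq9043 => (set_option maxRecDepth 1000000 in conv => lhs; reduce)); intro _; exact ?xq9043 (@OfNat.ofNat Nat) instOfNatNat (@OfNat.ofNat Int) (@instOfNat) (@Neg.neg Int Int.instNegInt) : List (List ℤ × ℕ × List ℤ))

/-- roots, classes, coroots -/
noncomputable def tE8q : List (List ℤ × ℕ × List ℤ) :=
  (by
  refine (?fq9044 : (fun (On : (n : Nat) → OfNat Nat n → Nat) (In : (n : Nat) → OfNat Nat n) (Oz : (n : Nat) → OfNat Int n → Int) (Iz : (n : Nat) → OfNat Int n) (Gz : Int → Int) => ((pk61l (fun i1 => (_root_.Prod.mk (pk61l (fun i2 => (pk61y Oz Iz Gz (pk61d (nat_lit 3) 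
    (nat_lit 0x536d12526d124a6d120a6d12524d124a4d120a4d12494d12094d12014d125249124a4912) i2))) (Nat.mul (nat_lit 8) i1) (Nat.mul (nat_lit 8) (Nat.succ i1)) List.nil) (_root_.Prod.mk (pk61o On In (pk61d (nat_lit 5) 
    (nat_lit 0x30c6321095ad5ef) i1)) (pk61l (fun i2 => (pk61y Oz Iz Gz (pk61d (nat_lit 2) 
    (nat_lit 0x80426049204420421849984498484846484108420609860) i2))) (Nat.mul (nat_lit 8) i1) (Nat.mul (nat_lit 8) (Nat.succ i1)) List.nil)))) (nat_lit 0) (nat_lit 12) List.nil) : List (List ℤ × ℕ × List ℤ)))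
    = ?xq9044 → (List (List ℤ × ℕ × List ℤ))) ?hq9044; (case hq9044 => (set_option maxRecDepth 1000000 in conv => lhs; reduce)); intro _; exact ?xq9044 (@OfNat.ofNat Nat) instOfNatNat (@OfNat.ofNat Int) (@instOfNat) (@Neg.neg Int Int.instNegInt) : List (List ℤ × ℕ × List ℤ))

/-- roots, classes, coroots -/
noncomputable def tE8r : List (List ℤ × ℕ × List ℤ) :=
  (by
  refine (?fq9045 : (fun (On : (n : Nat) → OfNat Nat n → Nat) (In : (n : Nat) → OfNat Nat n) (Oz : (n : Nat) → OfNat Int n → Int) (Iz : (n : Nat) → OfNat Int n) (Gz : Int → Int) => ((pk61l (fun i1 => (_root_.Prod.mk (pk61l (fun i2 => (pk61y Oz Iz Gz (pk61d (nat_lit 4) 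
    (nat_lit 0x224684420246844224666442244664422246644202466442244464422244644202446442222464420224644200246442) i2))) (Nat.mul (nat_lit 8) i1) (Nat.mul (nat_lit 8) (Nat.succ i1)) List.nil) (_root_.Prod.mk (pk61o On In (pk61d (nat_lit 5) 
    (nat_lit 0x529210844216318) i1)) (pk61l (fun i2 => (pk61y Oz Iz Gz (pk61d (nat_lit 2) 
    (nat_lit 0x909040900848264892484248210899084908840864081008) i2))) (Nat.mul (nat_lit 8) i1) (Nat.mul (nat_lit 8) (Nat.succ i1)) List.nil)))) (nat_lit 0) (nat_lit 12) List.nil) : List (List ℤ × ℕ × List ℤ)))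
    = ?xq9045 → (List (List ℤ × ℕ × List ℤ))) ?hq9045; (case hq9045 => (set_option maxRecDepth 1000000 in conv => lhs; reduce)); intro _; exact ?xq9045 (@OfNat.ofNat Nat) instOfNatNat (@OfNat.ofNat Int) (@instOfNat) (@Neg.neg Int Int.instNegInt) : List (List ℤ × ℕ × List ℤ))

/-- roots, classes, coroots -/
noncomputable def tE8s : List (List ℤ × ℕ × List ℤ) :=
  (by
  refine (?fq9046 : (fun (On : (n : Nat) → OfNat Nat n → Nat) (In : (n : Nat) → OfNat Nat n) (Oz : (n : Nat) → OfNat Int n → Int) (Iz : (n : Nat) → OfNat Int n) (Gz : Int → Int) => ((pk61l (fun i1 => (_root_.Prod.mk (pk61l (fun i2 => (pk61y Oz Iz Gz (pk61d (nat_lit 4) 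
    (nat_lit 0x22468644024686442468a6622468a6422468864224668642244686422246864202468642246884422466844224468442) i2))) (Nat.mul (nat_lit 8) i1) (Nat.mul (nat_lit 8) (Nat.succ i1)) List.nil) (_root_.Prod.mk (pk61o On In (pk61d (nat_lit 5) 
    (nat_lit 0x315634a52c64a) i1)) (pk61l (fun i2 => (pk61y Oz Iz Gz (pk61d (nat_lit 2) 
    (nat_lit 0x900240020009008502610921242190214021021009902490) i2))) (Nat.mul (nat_lit 8) i1) (Nat.mul (nat_lit 8) (Nat.succ i1)) List.nil)))) (nat_lit 0) (nat_lit 12) List.nil) : List (List ℤ × ℕ × List ℤ)))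
    = ?xq9046 → (List (List ℤ × ℕ × List ℤ))) ?hq9046; (case hq9046 => (set_option maxRecDepth 1000000 in conv => lhs; reduce)); intro _; exact ?xq9046 (@OfNat.ofNat Nat) instOfNatNat (@OfNat.ofNat Int) (@instOfNat) (@Neg.neg Int Int.instNegInt) : List (List ℤ × ℕ × List ℤ))

/-- roots, classes, coroots -/
noncomputable def tE8t : List (List ℤ × ℕ × List ℤ) :=
  (by
  refine (?fq9047 : (fun (On : (n : Nat) → OfNat Nat n → Nat) (In : (n : Nat) → OfNat Nat n) (Oz : (n : Nat) → OfNat Int n → Int) (Iz : (n : Nat) → OfNat Int n) (Gz : Int → Int) => ((pk61l (fun i1 => (_root_.Prod.mk (pk61l (fun i2 => (pk61y Oz Iz Gz (pk61d (nat_lit 4) 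
    (nat_lit 0x468ac864268ac864248ac864246ac8642468c8642468a8642468a6642468a8442468a644246886442466864424468644) i2))) (Nat.mul (nat_lit 8) i1) (Nat.mul (nat_lit 8) (Nat.succ i1)) List.nil) (_root_.Prod.mk (pk61o On In (pk61d (nat_lit 5) 
    (nat_lit 0x16bba6b81d00) i1)) (pk61l (fun i2 => (pk61y Oz Iz Gz (pk61d (nat_lit 2) 
    (nat_lit 0x800060001800060001800068001a00240096024209022402) i2))) (Nat.mul (nat_lit 8) i1) (Nat.mul (nat_lit 8) (Nat.succ i1)) List.nil)))) (nat_lit 0) (nat_lit 12) List.nil) : List (List ℤ × ℕ × List ℤ)))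
    = ?xq9047 → (List (List ℤ × ℕ × List ℤ))) ?hq9047; (case hq9047 => (set_option maxRecDepth 1000000 in conv => lhs; reduce)); intro _; exact ?xq9047 (@OfNat.ofNat Nat) instOfNatNat (@OfNat.ofNat Int) (@instOfNat) (@Neg.neg Int Int.instNegInt) : List (List ℤ × ℕ × List ℤ))

/-- roots, classes, coroots -/
noncomputable def tE8 : List (List ℤ × ℕ × List ℤ) :=
  (beta% delta% lq26c09ab375 fun a b _ _ _ f =>
 f (a tE8a<|a tE8b<|a tE8c<|a tE8d<|a tE8e<|a tE8f<|a tE8g<|a tE8h<|a tE8i<|a tE8j<|a tE8k<|a tE8l<|a tE8m<|a tE8n<|a tE8o<|a tE8p<|a tE8q<|a tE8r<|a tE8s<|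
 a tE8t<|b))

/-- the roots and coroots of `D₄` -/
noncomputable def rE8a : List (List ℤ × List ℤ) :=
  (by
  refine (?fq9048 : (fun (Oz : (n : Nat) → OfNat Int n → Int) (Iz : (n : Nat) → OfNat Int n) (Gz : Int → Int) => ((pk61l (fun i1 => (_root_.Prod.mk (pk61l (fun i2 => (pk61y Oz Iz Gz (pk61d (nat_lit 2) 
    (nat_lit 0x28801d400a002a000a802a8001002000008000401000000) i2))) (Nat.mul (nat_lit 8) i1) (Nat.mul (nat_lit 8) (Nat.succ i1)) List.nil) (pk61l (fun i2 => (pk61y Oz Iz Gz (pk61d (nat_lit 3) 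
    (nat_lit 0xa05001020200148900a08900109100a2910004c200c200000220000418013400000000) i2))) (Nat.mul (nat_lit 8) i1) (Nat.mul (nat_lit 8) (Nat.succ i1)) List.nil))) (nat_lit 0) (nat_lit 12) List.nil) : List (List ℤ × List ℤ)))
    = ?xq9048 → (List (List ℤ × List ℤ))) ?hq9048; (case hq9048 => (set_option maxRecDepth 1000000 in conv => lhs; reduce)); intro _; exact ?xq9048 (@OfNat.ofNat Int) (@instOfNat) (@Neg.neg Int Int.instNegInt) : List (List ℤ × List ℤ))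

/-- the roots and coroots of `D₄` -/
noncomputable def rE8b : List (List ℤ × List ℤ) :=
  (by
  refine (?fq9049 : (fun (Oz : (n : Nat) → OfNat Int n → Int) (Iz : (n : Nat) → OfNat Int n) (Gz : Int → Int) => ((pk61l (fun i1 => (_root_.Prod.mk (pk61l (fun i2 => (pk61y Oz Iz Gz (pk61d (nat_lit 3) 
    (nat_lit 0x1248000248001240000240000080001208000208001200000200002890000400002400000410) i2))) (Nat.mul (nat_lit 8) i1) (Nat.mul (nat_lit 8) (Nat.succ i1)) List.nil) (pk61l (fun i2 => (pk61y Oz Iz Gz (pk61d (nat_lit 3) 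
    (nat_lit 0x1144a00204a01105200225200030101108800228801129000269000840100184800a448001450) i2))) (Nat.mul (nat_lit 8) i1) (Nat.mul (nat_lit 8) (Nat.succ i1)) List.nil))) (nat_lit 0) (nat_lit 13) List.nil) : List (List ℤ × List ℤ)))
    = ?xq9049 → (List (List ℤ × List ℤ))) ?hq9049; (case hq9049 => (set_option maxRecDepth 1000000 in conv => lhs; reduce)); intro _; exact ?xq9049 (@OfNat.ofNat Int) (@instOfNat) (@Neg.neg Int Int.instNegInt) : List (List ℤ × List ℤ))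

private noncomputable def _root_.Cfsg.Agent.LsF.f00529d_16 : {f // @Cfsg.Agent.TO.X5.tE8 = f} := ⟨_, by first | (delta Cfsg.Agent.TO.X5.tE8; rewrite [Cfsg.Agent.LsF.flatten_eq]; exact rfl) | exact rfl⟩
theorem ckE8 : Ck chevE8 8 ![1, 1, 1, 1, 1, 1, 1, 1] (beta% delta% lq26c09ab375 fun a b _ _ _ _ =>
 (a (a 2<|a 0<|a (-1)<|a 0<|a 0<|a 0<|a 0<|a 0<|b)<|a (a 0<|a 2<|a 0<|a (-1)<|a 0<|a 0<|a 0<|a 0<|b)<|a (a (-1)<|a 0<|a 2<|a (-1)<|a 0<|a 0<|a 0<|a 0<|b)<|a (a 0<|a (-1)<|a (-1)<|a 2<|a (-1)<|a 0<|a 0<|a 0<|b)<|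
 a (a 0<|a 0<|a 0<|a (-1)<|a 2<|a (-1)<|a 0<|a 0<|b)<|a (a 0<|a 0<|a 0<|a 0<|a (-1)<|a 2<|a (-1)<|a 0<|b)<|a (a 0<|a 0<|a 0<|a 0<|a 0<|a (-1)<|a 2<|a (-1)<|b)<|a (a 0<|a 0<|a 0<|a 0<|a 0<|a 0<|a (-1)<|a 2<|b)<|b))
    [4, 0, 4, 2, 0, 1, 0, 0] [0, 3, 0, 4, 4, 3, 0, 0] tE8 (rE8a ++ rE8b) where
  sym := by (refine of_decide_eq_true ?_; (try (rewrite [Cfsg.Agent.LsF.f00529d_9.2, Cfsg.Agent.LsF.imul_pat, Cfsg.Agent.LsF.vecCons_eq, Cfsg.Agent.LsF.instIDecEq_eq, Cfsg.Agent.LsF.dForallFin_eq, Cfsg.Agent.LsF.decide_eq])); decide +kernel)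
  ne := by decide +kernel
  mat := by (refine of_decide_eq_true ?_; (try (rewrite [Cfsg.Agent.LsF.f00529d_9.2, Cfsg.Agent.LsF.imul_pat, Cfsg.Agent.LsF.ineg_pat, Cfsg.Agent.LsF.vecCons_eq, Cfsg.Agent.LsF.instIDecEq_eq, Cfsg.Agent.LsF.dListEq_eq, Cfsg.Agent.LsF.ofFn_eq, Cfsg.Agent.LsF.decide_eq])); decide +kernel)
  len := by decide +kernel
  rts := by (refine of_decide_eq_true ?_; (try (rewrite [Cfsg.Agent.LsF.f00529d_14.2, Cfsg.Agent.LsF.f00529d_16.2, Cfsg.Agent.LsF.map_eq, Cfsg.Agent.LsF.range_eq, Cfsg.Agent.LsF.instIDecEq_eq, Cfsg.Agent.LsF.dListEq_eq, Cfsg.Agent.LsF.ofFn_eq, Cfsg.Agent.LsF.decide_eq])); decide +kernel)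
  tab := by (refine of_decide_eq_true ?_; (try (rewrite [Cfsg.Agent.LsF.f00529d_16.2, Cfsg.Agent.LsF.f00529d_2.2, Cfsg.Agent.LsF.f00529d_0.2, Cfsg.Agent.LsF.imul_pat, Cfsg.Agent.LsF.ineg_pat, Cfsg.Agent.LsF.instDecEq_eq, Cfsg.Agent.LsF.map_eq, Cfsg.Agent.LsF.instIDecEq_eq, Cfsg.Agent.LsF.dAnd_eq, Cfsg.Agent.LsF.dBAll_eq, Cfsg.Agent.LsF.dListEq_eq, Cfsg.Agent.LsF.length_eq, Cfsg.Agent.LsF.decide_eq])); decide +kernel)
  mem := by (refine of_decide_eq_true ?_; (try (rewrite [Cfsg.Agent.LsF.f00529d_16.2, Cfsg.Agent.LsF.f00529d_1.2, Cfsg.Agent.LsF.f00529d_2.2, Cfsg.Agent.LsF.lappend_pat, Cfsg.Agent.LsF.zdecEq_eq, Cfsg.Agent.LsF.dProdEq_eq, Cfsg.Agent.LsF.zFintype_eq, Cfsg.Agent.LsF.prodFintype_eq, Cfsg.Agent.LsF.dForall_eq, Cfsg.Agent.LsF.dNot_eq, Cfsg.Agent.LsF.dMem_eq, Cfsg.Agent.LsF.dAllP_eq, Cfsg.Agent.LsF.decide_eq])); decide +kernel)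
  gram := by (refine of_decide_eq_true ?_; (try (rewrite [Cfsg.Agent.LsF.f00529d_0.2, Cfsg.Agent.LsF.f00529d_1.2, Cfsg.Agent.LsF.f00529d_2.2, Cfsg.Agent.LsF.f00529d_4.2, Cfsg.Agent.LsF.lappend_pat, Cfsg.Agent.LsF.zFintype_eq, Cfsg.Agent.LsF.prodFintype_eq, Cfsg.Agent.LsF.dForall_eq, Cfsg.Agent.LsF.instIDecEq_eq, Cfsg.Agent.LsF.decide_eq])); decide +kernel)
  neg := by decide +kernel
  add := by (refine of_decide_eq_true ?_; (try (rewrite [Cfsg.Agent.LsF.f00529d_4.2, Cfsg.Agent.LsF.f00529d_1.2, Cfsg.Agent.LsF.f00529d_2.2, Cfsg.Agent.LsF.iadd_pat, Cfsg.Agent.LsF.ineg_pat, Cfsg.Agent.LsF.lappend_pat, Cfsg.Agent.LsF.zFintype_eq, Cfsg.Agent.LsF.prodFintype_eq, Cfsg.Agent.LsF.dForall_eq, Cfsg.Agent.LsF.instZAdd_pat, Cfsg.Agent.LsF.zipWith_eq, Cfsg.Agent.LsF.instIDecEq_eq, Cfsg.Agent.LsF.dListEq_eq, Cfsg.Agent.LsF.dAllP_eq, Cfsg.Agent.LsF.decide_eq])); decide +kernel)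
  chr := by (refine of_decide_eq_true ?_; (try (rewrite [Cfsg.Agent.LsF.f00529d_16.2, Cfsg.Agent.LsF.f00529d_1.2, Cfsg.Agent.LsF.f00529d_0.2, Cfsg.Agent.LsF.ineg_pat, Cfsg.Agent.LsF.lappend_pat, Cfsg.Agent.LsF.instDecEq_eq, Cfsg.Agent.LsF.instIDecEq_eq, Cfsg.Agent.LsF.dNot_eq, Cfsg.Agent.LsF.dBAll_eq, Cfsg.Agent.LsF.dListEq_eq, Cfsg.Agent.LsF.dAllP_eq, Cfsg.Agent.LsF.dIffI_eq, Cfsg.Agent.LsF.decide_eq])); decide +kernel)
  long := by (refine of_decide_eq_true ?_; (try (rewrite [Cfsg.Agent.LsF.f00529d_16.2, Cfsg.Agent.LsF.f00529d_0.2, Cfsg.Agent.LsF.f00529d_1.2, Cfsg.Agent.LsF.f00529d_2.2, Cfsg.Agent.LsF.lappend_pat, Cfsg.Agent.LsF.zFintype_eq, Cfsg.Agent.LsF.prodFintype_eq, Cfsg.Agent.LsF.dForall_eq, Cfsg.Agent.LsF.instIDecEq_eq, Cfsg.Agent.LsF.idecLe_eq, Cfsg.Agent.LsF.dOr_eq, Cfsg.Agent.LsF.dBAll_eq, Cfsg.Agent.LsF.dListEq_eq, Cfsg.Agent.LsF.decide_eq])); decide +kernel)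
  psi := by (refine of_decide_eq_true ?_; (try (rewrite [Cfsg.Agent.LsF.f00529d_16.2, Cfsg.Agent.LsF.f00529d_0.2, Cfsg.Agent.LsF.f00529d_1.2, Cfsg.Agent.LsF.f00529d_2.2, Cfsg.Agent.LsF.lappend_pat, Cfsg.Agent.LsF.zdecEq_eq, Cfsg.Agent.LsF.dProdEq_eq, Cfsg.Agent.LsF.zFintype_eq, Cfsg.Agent.LsF.prodFintype_eq, Cfsg.Agent.LsF.dForall_eq, Cfsg.Agent.LsF.instDecEq_eq, Cfsg.Agent.LsF.instIDecEq_eq, Cfsg.Agent.LsF.dNot_eq, Cfsg.Agent.LsF.dBAll_eq, Cfsg.Agent.LsF.dAllP_eq, Cfsg.Agent.LsF.dIffI_eq, Cfsg.Agent.LsF.decide_eq])); decide +kernel)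
  sep := by decide +kernel
  par := by decide +kernel

/-- the roots of `D₄` -/
noncomputable def rtE8 (a : P5) : Fin 8 → ℤ := fl 8 (gt (rE8a ++ rE8b) (cd a)).1

theorem tbE8 : Tb hpE8 ![4, 0, 4, 2, 0, 1, 0, 0] ![0, 3, 0, 4, 4, 3, 0, 0] rtE8 := by
  have h := ckE8.tb hpE8
  rwa [show (fun i => (fl 8 [4, 0, 4, 2, 0, 1, 0, 0] i : ZMod 5)) = ![4, 0, 4, 2, 0, 1, 0, 0] by decide +kernel,
    show (fun i => (fl 8 [0, 3, 0, 4, 4, 3, 0, 0] i : ZMod 5)) = ![0, 3, 0, 4, 4, 3, 0, 0] by decide +kernel] at h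

end Cfsg.Agent.TO.X5
end

-- part: TO/X5S/Abs
section
/-!
# Canonical sections : the abstract argument (helper97)

`θ : L →* Y` has central kernel of exponent `2`, `r` is odd, `D = ⟨X⟩` is generated by elements of order dividing `r` and
meets the kernel trivially.  Then `θ D` has a canonical section.
-/

set_option autoImplicit false

namespace Cfsg.Agent.TO.X5S

open Subgroup

/-- central kernel of exponent `2` -/
structure K2 {L Y : Type} [Group L] [Group Y] (θ : L →* Y) : Prop where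
  cen : ∀ z, θ z = 1 → ∀ g, g * z = z * g
  sq : ∀ z, θ z = 1 → z ^ 2 = 1

theorem eq_one_of_odd {L : Type} [Group L] {r : ℕ} (hr : Odd r) {z : L} (h2 : z ^ 2 = 1) (h : z ^ r = 1) : z = 1 := by
  obtain ⟨n, rfl⟩ := hr
  rw [pow_succ, pow_mul, h2, one_pow, one_mul] at h
  exact h

namespace K2

variable {L Y : Type} [Group L] [Group Y] {θ : L →* Y} (h : K2 θ) {r : ℕ} (hr : Odd r)

include h in
theorem pow_eq {a b : L} (hab : θ a = θ b) (n : ℕ) : b ^ n = a ^ n * (a⁻¹ * b) ^ n := by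
  have h1 : θ (a⁻¹ * b) = 1 := by rw [map_mul, map_inv, hab, inv_mul_cancel]
  have h2 : Commute a (a⁻¹ * b) := h.cen _ h1 a
  rw [← h2.mul_pow, mul_inv_cancel_left]

include h hr in
/-- uniqueness of the lifts -/
theorem lift_eq {a b : L} (ha : a ^ r = 1) (hb : b ^ r = 1) (hab : θ a = θ b) : a = b := by
  have h1 : θ (a⁻¹ * b) = 1 := by rw [map_mul, map_inv, hab, inv_mul_cancel]
  have h2 := h.pow_eq hab r
  rw [ha, hb, one_mul] at h2
  exact inv_mul_eq_one.1 (eq_one_of_odd hr (h.sq _ h1) h2.symm)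

include h hr in
/-- existence of the lifts -/
theorem lift_ex (w : L) (hw : θ w ^ r = 1) : ∃ a, a ^ r = 1 ∧ θ a = θ w := by
  refine ⟨w ^ (r + 1), ?_, by rw [map_pow, pow_succ, hw, one_mul]⟩
  obtain ⟨n, hn⟩ := hr
  have h1 : (w ^ r) ^ 2 = 1 := h.sq _ (by rw [map_pow, hw])
  have h2 : (r + 1) * r = r * 2 * (n + 1) := by rw [hn]; ring
  rw [← pow_mul, h2, pow_mul, pow_mul, h1, one_pow]

include h hr in
theorem mem_D {D : Subgroup L} (hD : ∀ z ∈ D, θ z = 1 → z = 1) {a : L} (ha : a ^ r = 1) (hP : θ a ∈ D.map θ) :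
    a ∈ D := by
  obtain ⟨d, hd, e⟩ := hP
  have h1 : θ (d⁻¹ * a) = 1 := by rw [map_mul, map_inv, e, inv_mul_cancel]
  have h2 := h.pow_eq e r
  rw [ha] at h2
  have h3 : (d⁻¹ * a) ^ r = (d ^ r)⁻¹ := eq_inv_of_mul_eq_one_right h2.symm
  have h4 : (d⁻¹ * a) ^ r = 1 := hD _ (by rw [h3]; exact inv_mem (pow_mem hd r)) (by rw [map_pow, h1, one_pow])
  have h5 := inv_mul_eq_one.1 (eq_one_of_odd hr (h.sq _ h1) h4)
  rw [← h5]
  exact hd

include h hr in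
theorem map_D {X : Set L} (hX : ∀ x ∈ X, x ^ r = 1) (hD : ∀ z ∈ _root_.Subgroup.closure X, θ z = 1 → z = 1) (b : L →* L) (β : Y → Y)
    (hb : ∀ l, θ (b l) = β (θ l)) (hβ : ∀ y ∈ (closure X).map θ, β y ∈ (closure X).map θ) {l : L}
    (hl : l ∈ closure X) : b l ∈ closure X := by
  have h1 : closure X ≤ (closure X).comap b := by
    refine (closure_le _).2 fun x hx => ?_
    refine h.mem_D hr hD (by rw [← map_pow, hX x hx, map_one]) ?_
    rw [hb]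
    exact hβ _ ⟨x, _root_.Subgroup.subset_closure hx, rfl⟩
  exact h1 hl

end K2

/-- **the canonical section** -/
theorem sec_abs {G S Y L LF : Type} [Group G] [Group S] [Group Y] [Group L] [Group LF] (σ : G →* S) (ι : S →* Y)
    (F : MulAut Y) (θ : L →* Y) (j : LF →* L) (pG : LF →* G) (Fh : L →* L) {r : ℕ} (hr : Odd r)
    (hθ : K2 θ) (hι : Function.Injective ι) (hj : Function.Injective j) (hjθ : ∀ g, θ (j g) = ι (σ (pG g)))
    (hps : Function.Surjective pG) (hσs : Function.Surjective σ) (hσc : σ.ker ≤ center G)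
    (hker : ∀ z, θ z = 1 → z ∈ j.range) {XF : Set LF} (hXF : ∀ x ∈ XF, x ^ r = 1) (hgen : closure XF = ⊤)
    {X : Set L} (hX : ∀ x ∈ X, x ^ r = 1) (hD : ∀ z ∈ _root_.Subgroup.closure X, θ z = 1 → z = 1)
    (hFh : ∀ l, θ (Fh l) = F (θ l)) (hfix : ∀ l, Fh l = l → θ l ∈ ι.range)
    (hlift : ∀ β : MulAut Y, ∃ b : L →* L, ∀ l, θ (b l) = β (θ l))
    {P : Subgroup Y} (hP : P = (closure X).map θ) (hF : ∀ x ∈ P, F x ∈ P) (m : ℕ) : X5.Sec σ ι F P m := by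
  classical
  subst hP
  have hθF : K2 (σ.comp pG) := by
    have h0 : ∀ z, (σ.comp pG) z = 1 → θ (j z) = 1 := fun z hz => by
      rw [hjθ, show σ (pG z) = 1 from hz, map_one]
    refine ⟨fun z hz g => hj ?_, fun z hz => hj ?_⟩
    · rw [map_mul, map_mul]
      exact hθ.cen _ (h0 z hz) _
    · rw [map_pow, map_one]
      exact hθ.sq _ (h0 z hz)
  have hσ : K2 σ := by
    refine ⟨fun z hz g => mem_center_iff.1 (hσc hz) g, fun z hz => ?_⟩
    obtain ⟨w, rfl⟩ := hps z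
    rw [← map_pow, hθF.sq w hz, map_one]
  have huniq : ∀ a ∈ _root_.Subgroup.closure X, ∀ b ∈ closure X, θ a = θ b → a = b := fun a ha b hb e =>
    inv_mul_eq_one.1 (hD _ (mul_mem (inv_mem ha) hb) (by rw [map_mul, map_inv, e, inv_mul_cancel]))
  have hex : ∀ x ∈ (closure X).map θ, F x = x → ∃ g, j g ∈ closure X ∧ θ (j g) = x := by
    rintro _ ⟨l, hl, rfl⟩ hx
    have h1 : Fh l = l := huniq _ (hθ.map_D hr hX hD Fh F hFh hF hl) _ hl (by rw [hFh, hx])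
    obtain ⟨u, hu⟩ := hfix l h1
    obtain ⟨v, rfl⟩ := hσs u
    obtain ⟨w, rfl⟩ := hps v
    obtain ⟨z, hz⟩ := hker ((j w)⁻¹ * l) (by rw [map_mul, map_inv, hjθ, hu, inv_mul_cancel])
    have h2 : j (w * z) = l := by rw [map_mul, hz, mul_inv_cancel_left]
    exact ⟨w * z, by rw [h2]; exact hl, by rw [h2]⟩
  let s : Y → G := fun x => if h : ∃ g, j g ∈ _root_.Subgroup.closure X ∧ θ (j g) = x then pG h.choose else 1
  have hs : ∀ g, j g ∈ closure X → s (θ (j g)) = pG g := by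
    intro g hg
    have h : ∃ g', j g' ∈ closure X ∧ θ (j g') = θ (j g) := ⟨g, hg, rfl⟩
    show (if h : ∃ g', j g' ∈ closure X ∧ θ (j g') = θ (j g) then pG h.choose else 1) = pG g
    rw [dif_pos h, hj (huniq _ h.choose_spec.1 _ hg h.choose_spec.2)]
  refine ⟨s, fun x hx hFx _ => ?_, fun H hH x hx y hy => ?_, fun α β hαβ hβ x hx hFx _ => ?_⟩
  · obtain ⟨g, hg, rfl⟩ := hex x hx hFx
    rw [hs g hg, hjθ]
  · obtain ⟨g, hg, rfl⟩ := hex x (hH x hx).1 (hH x hx).2.1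
    obtain ⟨g', hg', rfl⟩ := hex y (hH y hy).1 (hH y hy).2.1
    rw [← map_mul, ← map_mul, hs g hg, hs g' hg', hs (g * g') (by rw [map_mul]; exact mul_mem hg hg'), map_mul]
  · obtain ⟨b, hb⟩ := hlift β
    have key : ∀ g : LF, ∃ g', j g' = b (j g) ∧ pG g' = α (pG g) := by
      intro g
      have hg : g ∈ _root_.Subgroup.closure XF := by rw [hgen]; exact mem_top g
      induction hg using closure_induction with
      | mem x hx =>
        obtain ⟨w, hw⟩ := hps (α (pG x))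
        have h1 : α (pG x) ^ r = 1 := by rw [← map_pow, ← map_pow, hXF x hx, map_one, map_one]
        obtain ⟨a, ha, ha'⟩ := hθF.lift_ex hr w (by
          rw [MonoidHom.comp_apply, hw, ← map_pow, h1, map_one])
        have ha2 : σ (pG a) = σ (α (pG x)) := by rw [← hw]; exact ha'
        refine ⟨a, hθ.lift_eq hr (by rw [← map_pow, ha, map_one])
          (by rw [← map_pow, ← map_pow, hXF x hx, map_one, map_one]) ?_,
          hσ.lift_eq hr (by rw [← map_pow, ha, map_one]) h1 ha2⟩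
        rw [hb, hjθ, hjθ, ha2, hαβ]
      | one => exact ⟨1, by simp, by simp⟩
      | mul x y _ _ ihx ihy =>
        obtain ⟨a, ha, ha'⟩ := ihx
        obtain ⟨c, hc, hc'⟩ := ihy
        exact ⟨a * c, by simp only [map_mul, ha, hc], by simp only [map_mul, ha', hc']⟩
      | inv x _ ih =>
        obtain ⟨a, ha, ha'⟩ := ih
        exact ⟨a⁻¹, by simp only [map_inv, ha], by simp only [map_inv, ha']⟩
    obtain ⟨g, hg, rfl⟩ := hex x hx hFx
    obtain ⟨g', h1, h2⟩ := key g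
    have h3 : j g' ∈ _root_.Subgroup.closure X := by
      rw [h1]
      exact hθ.map_D hr hX hD b β hb (fun y hy => (hβ y).2 hy) hg
    rw [hs g hg, ← hb, ← h1, hs g' h3, h2]

end Cfsg.Agent.TO.X5S
end

-- part: TO/X5S/St
section
/-!
# The Steinberg group of type `E₇` : centre, the subgroup `D₄`, lifts of automorphisms (helper97)
-/

set_option autoImplicit false
set_option linter.unusedSectionVars false

namespace Cfsg.Agent.TO.X5S

open Subgroup Cfsg Cfsg.Lie Cfsg.Lie.ChevalleyDatum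
open Cfsg.Agent.ChevalleyStructure Cfsg.Agent.ChevalleyStructure.Elts Cfsg.Agent.ChevalleyStructure.StBasic
  Cfsg.Agent.ChevalleyStructure.StEmbed
open Cfsg.Agent.ChevalleyStructure.StTheta (theta thetaGL coe_theta thetaGL_stGen theta_surjective)
open Cfsg.Agent.ChevalleyStructure.RootVec (rt)
open Cfsg.Agent.H129.StCover Cfsg.Agent.Nodes.RGDChev
open Cfsg.Agent.GpExc.Field (emb emb_injective)
open Cfsg.Agent.BpExc.TowChev (LocFin)

/-! ### general facts -/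

section General

variable {D : ChevalleyDatum}

theorem stGen_pow {K : Type} [Field K] (r : ℕ) (t : K) (n : ℕ) : D.stGen K r t ^ n = D.stGen K r ((n : K) * t) := by
  induction n with
  | zero => rw [pow_zero, Nat.cast_zero, zero_mul, stGen_zero]
  | succ n ih => rw [pow_succ, ih, stGen_mul, Nat.cast_succ, add_mul, one_mul]

theorem stGen_pow_char {K : Type} [Field K] (p : ℕ) [CharP K p] (r : ℕ) (t : K) : D.stGen K r t ^ p = 1 := by
  rw [stGen_pow, CharP.cast_eq_zero, zero_mul, stGen_zero]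

/-- homomorphisms over the finite subfields are glued -/
theorem exists_glue {k : Type} [Field k] (hk : LocFin k) {H : Type} [Group H] (ψ : ℕ → k → H)
    (hE : ∀ E : Subfield k, Finite E → ∃ φ : D.SteinbergGroup E →* H, ∀ r t, φ (D.stGen E r t) = ψ r (E.subtype t)) :
    ∃ b : D.SteinbergGroup k →* H, ∀ r t, b (D.stGen k r t) = ψ r t := by
  have key : ∀ a b : k, ∃ (E : Subfield k) (φ : D.SteinbergGroup E →* H) (a' b' : E),
      (∀ r t, φ (D.stGen E r t) = ψ r (E.subtype t)) ∧ E.subtype a' = a ∧ E.subtype b' = b := by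
    intro a b
    obtain ⟨E, hE1, hE2⟩ := hk {a, b} (Set.toFinite _)
    obtain ⟨φ, hφ⟩ := hE E hE1
    exact ⟨E, φ, ⟨a, hE2 (by simp)⟩, ⟨b, hE2 (by simp)⟩, hφ, rfl, rfl⟩
  have hw : ∀ (E : Subfield k) (φ : D.SteinbergGroup E →* H), (∀ r t, φ (D.stGen E r t) = ψ r (E.subtype t)) →
      ∀ w : List (ℕ × E), ((w.map fun p => (p.1, E.subtype p.2)).map fun p => ψ p.1 p.2).prod = φ (wd D w) := by
    intro E φ hφ w
    rw [map_wd, List.map_map]
    congr 1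
    exact List.map_congr_left fun p _ => (hφ p.1 p.2).symm
  refine ⟨lift D ψ ?_ ?_ ?_ ?_, fun r t => lift_stGen D _ _ _ _ _ r t⟩
  · intro r t h
    obtain ⟨E, φ, a, -, hφ, rfl, -⟩ := key t t
    rw [← hφ, stGen_of_not_lt D h, map_one]
  · intro r t₁ t₂ _
    obtain ⟨E, φ, a, b, hφ, rfl, rfl⟩ := key t₁ t₂
    rw [← map_add, ← hφ, ← hφ, ← hφ, ← map_mul, stGen_mul]
  · intro r s t u hr hs hne hneg
    obtain ⟨E, φ, a, b, hφ, rfl, rfl⟩ := key t u
    rw [commWord_map, hw E φ hφ, ← stGen_comm D hr hs hne hneg, ← hφ, ← hφ]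
    simp only [map_mul, map_inv]
  · intro r t₁ t₂ hr h₁ h₂
    obtain ⟨E, φ, a, b, hφ, rfl, rfl⟩ := key t₁ t₂
    rw [← map_mul, hWord_map, hWord_map, hWord_map, hw E φ hφ, hw E φ hφ, hw E φ hφ, ← map_mul]
    exact congrArg φ (sth_mul D hr (fun h => h₁ (by rw [h, map_zero])) (fun h => h₂ (by rw [h, map_zero])))

theorem stMap_phi' {F K : Type} [Field F] [Field K] (f : F →+* K) {Φ : (Fin D.rank → Fˣ) →* D.SteinbergGroup F}
    (hΦ : IsPhi Φ) {Φ' : (Fin D.rank → Kˣ) →* D.SteinbergGroup K} (hΦ' : IsPhi Φ') (c : Fin D.rank → Fˣ) :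
    stMap D f (Φ c) = Φ' (fun i => Units.map (f : F →* K) (c i)) := by
  let S : (Fin D.rank → Fˣ) →* (Fin D.rank → Kˣ) :=
    { toFun := fun c i => Units.map (f : F →* K) (c i)
      map_one' := by funext i; simp
      map_mul' := fun a b => by funext i; simp }
  have h : (stMap D f).comp Φ = Φ'.comp S := by
    apply MonoidHom.pi_ext
    intro j x
    show stMap D f (Φ (Pi.mulSingle j x)) = Φ' (S (Pi.mulSingle j x))
    have e : S (Pi.mulSingle j x) = Pi.mulSingle j (Units.map (f : F →* K) x) := by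
      funext m
      show Units.map (f : F →* K) ((Pi.mulSingle j x : Fin D.rank → Fˣ) m) = _
      by_cases hm : m = j
      · subst hm; rw [Pi.mulSingle_eq_same, Pi.mulSingle_eq_same]
      · rw [Pi.mulSingle_eq_of_ne hm, Pi.mulSingle_eq_of_ne hm, map_one]
    rw [hΦ.single, stMap_sth, e, hΦ'.single]
    rfl
  exact DFunLike.congr_fun h c

theorem stMap_inj (hD : InList D) {F K : Type} [Field F] [Field K] (f : F →+* K)
    {Φ : (Fin D.rank → Fˣ) →* D.SteinbergGroup F}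
    (hΦ : IsPhi Φ) {Φ' : (Fin D.rank → Kˣ) →* D.SteinbergGroup K} (hΦ' : IsPhi Φ') :
    Function.Injective (stMap D f) := by
  rw [injective_iff_map_eq_one]
  intro g hg
  have h1 : theta hD F g = 1 := emb_injective hD f (by rw [← theta_stMap, hg, map_one, map_one])
  have h2 : g ∈ center (D.SteinbergGroup F) := by rw [← ker_theta hD]; exact h1
  obtain ⟨c, rfl⟩ := hΦ.center_le h2
  rw [stMap_phi' f hΦ hΦ', ← map_one Φ'] at hg
  have h3 := hΦ'.inj hg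
  have h4 : c = 1 := by
    funext i
    apply Units.ext
    apply f.injective
    have h5 := congrArg Units.val (congrFun h3 i)
    rw [Pi.one_apply, Units.val_one, map_one]
    exact h5
  rw [h4, map_one]

end General

/-! ### the centre -/

/-- coefficients of the elements `ω_m + n_m ω_7` of the root lattice -/
def cV : List (List ℤ) := (beta% delta% lq26c09ab375 fun a b _ _ _ _ =>
 (a (a 2<|a 2<|a 3<|a 4<|a 3<|a 2<|a 1<|b)<|a (a 3<|a 5<|a 6<|a 9<|a 7<|a 5<|a 3<|b)<|a (a 3<|a 4<|a 6<|a 8<|a 6<|a 4<|a 2<|b)<|a (a 4<|a 6<|a 8<|a 12<|a 9<|a 6<|a 3<|b)<|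
 a (a 4<|a 6<|a 8<|a 12<|a 10<|a 7<|a 4<|b)<|a (a 2<|a 3<|a 4<|a 6<|a 5<|a 4<|a 2<|b)<|a (a 2<|a 3<|a 4<|a 6<|a 5<|a 4<|a 3<|b)<|b))

/-- the numbers `n_m` -/
def cN : List ℤ := [0, 1, 0, 0, 1, 0, 1]

/-- the last node -/
def i6 : Fin chevE7.rank := ⟨6, by decide⟩

theorem cV_spec : ∀ m i : Fin chevE7.rank, ∑ j : Fin chevE7.rank, chevE7.cartan i (chevE7.simple j) * (cV.getD m []).getD j 0 =
    (if i = m then 1 else 0) + (if i = i6 then cN.getD m 0 else 0) := by (refine of_decide_eq_true ?_; (try (rewrite [Cfsg.Agent.LsF.sumF_pat, Cfsg.Agent.LsF.f00529d_7.2, Cfsg.Agent.LsF.f00529d_8.2, Cfsg.Agent.LsF.iadd_pat, Cfsg.Agent.LsF.imul_pat, Cfsg.Agent.LsF.iACM_eq, Cfsg.Agent.LsF.getD_eq, Cfsg.Agent.LsF.instIDecEq_eq, Cfsg.Agent.LsF.dFinEq_eq, Cfsg.Agent.LsF.dForallFin_eq, Cfsg.Agent.LsF.ite_eq, Cfsg.Agent.LsF.decide_eq])); decide +kernel)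

theorem simple7_lt : ∀ j : Fin chevE7.rank, chevE7.simple j < chevE7.nroots := by decide +kernel

section Centre

variable {K : Type} [Field K]

theorem cen_rel {c : Fin chevE7.rank → Kˣ} (hc : ∀ s < chevE7.nroots, ∏ i, c i ^ chevE7.cartan i s = 1)
    (m : Fin chevE7.rank) : c m * c i6 ^ cN.getD m 0 = 1 := by
  have h1 : ∏ j : Fin chevE7.rank, (∏ i, c i ^ chevE7.cartan i (chevE7.simple j)) ^ (cV.getD m []).getD j 0 = 1 :=
    Finset.prod_eq_one fun j _ => by rw [hc _ (simple7_lt j), one_zpow]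
  have h2 : ∀ j : Fin chevE7.rank, (∏ i, c i ^ chevE7.cartan i (chevE7.simple j)) ^ (cV.getD m []).getD j 0 =
      ∏ i, c i ^ (chevE7.cartan i (chevE7.simple j) * (cV.getD m []).getD j 0) := fun j => by
    rw [← Finset.prod_zpow]
    exact Finset.prod_congr rfl fun i _ => by rw [← zpow_mul]
  rw [Finset.prod_congr rfl fun j _ => h2 j, Finset.prod_comm] at h1
  have h3 : ∀ i : Fin chevE7.rank,
      ∏ j : Fin chevE7.rank, c i ^ (chevE7.cartan i (chevE7.simple j) * (cV.getD m []).getD j 0) =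
      (if i = m then c i else 1) * (if i = i6 then c i ^ cN.getD m 0 else 1) := fun i => by
    rw [prod_zpow_sum, cV_spec, zpow_add]
    split_ifs <;> simp
  rw [Finset.prod_congr rfl fun i _ => h3 i, Finset.prod_mul_distrib, Finset.prod_ite_eq', Finset.prod_ite_eq',
    if_pos (Finset.mem_univ _), if_pos (Finset.mem_univ _)] at h1
  exact h1

theorem cen_sq {c : Fin chevE7.rank → Kˣ} (hc : ∀ s < chevE7.nroots, ∏ i, c i ^ chevE7.cartan i s = 1)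
    (m : Fin chevE7.rank) : c m ^ 2 = 1 := by
  have h1 := cen_rel hc i6
  rw [show cN.getD i6 0 = 1 from rfl, zpow_one, ← pow_two] at h1
  have h2 := eq_inv_of_mul_eq_one_left (cen_rel hc m)
  rw [h2, inv_pow, ← zpow_natCast, ← zpow_mul, mul_comm, zpow_mul, zpow_natCast, h1, one_zpow, inv_one]

theorem cen_one {c : Fin chevE7.rank → Kˣ} (hc : ∀ s < chevE7.nroots, ∏ i, c i ^ chevE7.cartan i s = 1)
    (h : c i6 = 1) : c = 1 := by
  funext m
  have h1 := cen_rel hc m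
  rw [h, one_zpow, mul_one] at h1
  exact h1

variable (hD : InList chevE7)

theorem k2_theta : K2 (theta hD K) := by
  obtain ⟨Φ, hΦ⟩ := H129.PhiE.isPhi_E7 K
  have h0 : ∀ z, theta hD K z = 1 → z ∈ center (chevE7.SteinbergGroup K) := fun z hz => by
    rw [← ker_theta hD]; exact hz
  refine ⟨fun z hz g => mem_center_iff.1 (h0 z hz) g, fun z hz => ?_⟩
  obtain ⟨c, rfl⟩ := hΦ.center_le (h0 z hz)
  have h1 : c ^ 2 = 1 := funext fun m => cen_sq ((hΦ.mem_iff c).1 (h0 _ hz)) m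
  rw [← map_pow, h1, map_one]

theorem ker_le_range {F : Type} [Field F] (f : F →+* K) (z : chevE7.SteinbergGroup K) (hz : theta hD K z = 1) :
    z ∈ (stMap chevE7 f).range := by
  obtain ⟨Φ, hΦ⟩ := H129.PhiE.isPhi_E7 K
  have h0 : z ∈ center (chevE7.SteinbergGroup K) := by rw [← ker_theta hD]; exact hz
  obtain ⟨c, rfl⟩ := hΦ.center_le h0
  have h : c ∈ (stMap chevE7 f).range.comap Φ := by
    rw [← Finset.univ_prod_mulSingle c]
    refine Subgroup.prod_mem _ fun i _ => ?_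
    rw [mem_comap, hΦ.single]
    have h1 : ((c i : Kˣ) : K) ^ 2 = 1 := by
      rw [← Units.val_pow_eq_pow_val, cen_sq ((hΦ.mem_iff c).1 h0) i, Units.val_one]
    rcases sq_eq_one_iff.1 h1 with h2 | h2
    · exact ⟨sth chevE7 _ 1, by rw [stMap_sth, map_one, h2]⟩
    · exact ⟨sth chevE7 _ (-1), by rw [stMap_sth, map_neg, map_one, h2]⟩
  exact h

end Centre

/-! ### the subgroup `D₄` -/

/-- the root elements of the subsystem `D₄` -/
def X0 (K : Type) [Field K] : Set (chevE7.SteinbergGroup K) :=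
  {g | ∃ a < chevE7.nroots, rt chevE7 a 0 = 0 ∧ rt chevE7 a 5 = 0 ∧ rt chevE7 a 6 = 0 ∧ ∃ t, g = chevE7.stGen K a t}

private noncomputable def _root_.Cfsg.Agent.LsF.f00529d_17 : {f // @Cfsg.Agent.ChevalleyStructure.StEmbed.ι78 = f} := ⟨_, by first | (delta Cfsg.Agent.ChevalleyStructure.StEmbed.ι78; rewrite [Cfsg.Agent.LsF.getD_eq]; exact rfl) | exact rfl⟩
private noncomputable def _root_.Cfsg.Agent.LsF.f00529d_18 : {f // @Cfsg.Lie.ChevalleyDatum.neg = f} := ⟨_, by first | (delta Cfsg.Lie.ChevalleyDatum.neg; rewrite [Cfsg.Agent.LsF.agetD_eq]; exact rfl) | exact rfl⟩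
private noncomputable def _root_.Cfsg.Agent.LsF.f00529d_19 : {f // @Cfsg.Lie.ChevalleyDatum.chainEntry = f} := ⟨_, by first | (delta Cfsg.Lie.ChevalleyDatum.chainEntry; rewrite [Cfsg.Agent.LsF.instDecEq_eq, Cfsg.Agent.LsF.find?_eq, Cfsg.Agent.LsF.agetD_eq, Cfsg.Agent.LsF.decide_eq]; (try delta Cfsg.Lie.ChevalleyDatum.chainEntry.match_1); (try delta Option.casesOn); exact rfl) | exact rfl⟩
private noncomputable def _root_.Cfsg.Agent.LsF.f00529d_20 : {f // @Cfsg.Lie.ChevalleyDatum.chainRoot = f} := ⟨_, by first | (delta Cfsg.Lie.ChevalleyDatum.chainRoot Option.map; rewrite [Cfsg.Agent.LsF.f00529d_19.2, Cfsg.Agent.LsF.nsub_pat, Cfsg.Agent.LsF.instGetElem?_eq]; (try delta Option.getD.match_1); (try delta Option.casesOn); exact rfl) | exact rfl⟩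
private noncomputable def _root_.Cfsg.Agent.LsF.f00529d_21 : {f // @Cfsg.Lie.ChevalleyDatum.chainM = f} := ⟨_, by first | (delta Cfsg.Lie.ChevalleyDatum.chainM Option.map; rewrite [Cfsg.Agent.LsF.f00529d_19.2, Cfsg.Agent.LsF.nsub_pat, Cfsg.Agent.LsF.instGetElem?_eq, Cfsg.Agent.LsF.ogetD_eq]; (try delta Option.getD.match_1); (try delta Option.casesOn); exact rfl) | exact rfl⟩
private noncomputable def _root_.Cfsg.Agent.LsF.f00529d_22 : {f // @Cfsg.Lie.ChevalleyDatum.commTerms = f} := ⟨_, by first | (delta Cfsg.Lie.ChevalleyDatum.commTerms Option.bind Option.map; rewrite [Cfsg.Agent.LsF.f00529d_20.2, Cfsg.Agent.LsF.f00529d_21.2, Cfsg.Agent.LsF.imul_pat, Cfsg.Agent.LsF.ineg_pat, Cfsg.Agent.LsF.filterMap_eq, Cfsg.Agent.LsF.ogetD_eq]; (try delta Option.bind.match_1); (try delta Option.getD.match_1); (try delta Option.casesOn); exact rfl) | exact rfl⟩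
theorem d4_tab : ∀ a < chevE7.nroots, rt chevE7 a 0 = 0 ∧ rt chevE7 a 5 = 0 ∧ rt chevE7 a 6 = 0 →
    chevE8.simple 7 ≠ ι78 a ∧ chevE8.simple 7 ≠ chevE8.neg (ι78 a) ∧
      (chevE8.commTerms (ι78 a) (chevE8.simple 7)).length = 0 := by
  (refine of_decide_eq_true ?_; (try (rewrite [Cfsg.Agent.LsF.f00529d_13.2, Cfsg.Agent.LsF.f00529d_8.2, Cfsg.Agent.LsF.f00529d_17.2, Cfsg.Agent.LsF.f00529d_18.2, Cfsg.Agent.LsF.f00529d_22.2, Cfsg.Agent.LsF.instDecEq_eq, Cfsg.Agent.LsF.instIDecEq_eq, Cfsg.Agent.LsF.dAnd_eq, Cfsg.Agent.LsF.dNot_eq, Cfsg.Agent.LsF.dBallLT_eq, Cfsg.Agent.LsF.dAllP_eq, Cfsg.Agent.LsF.length_eq, Cfsg.Agent.LsF.decide_eq])); decide +kernel)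

theorem cartan8 : ∀ i : Fin chevE7.rank, chevE8.cartan i (chevE8.simple 7) = if i = i6 then -1 else 0 := by
  decide +kernel

theorem simple8_lt : chevE8.simple 7 < chevE8.nroots := by decide +kernel

section D4

variable {K : Type} [Field K]

theorem d4_comm {z : chevE7.SteinbergGroup K} (hz : z ∈ _root_.Subgroup.closure (X0 K)) :
    Commute (hom emb78 K z) (chevE8.stGen K (chevE8.simple 7) 1) := by
  have h : _root_.Subgroup.closure (X0 K) ≤ (centralizer {chevE8.stGen K (chevE8.simple 7) 1}).comap (hom emb78 K) := by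
    refine (closure_le _).2 ?_
    rintro _ ⟨a, ha, h0, h5, h6, t, rfl⟩
    obtain ⟨h1, h2, h3⟩ := d4_tab a ha ⟨h0, h5, h6⟩
    rw [SetLike.mem_coe, mem_comap, mem_centralizer_singleton_iff, hom_stGen emb78 ha,
      stGen_mul_stGen chevE8 (emb78.lt a ha) simple8_lt h1 h2]
    unfold ChevalleyDatum.commWord
    rw [List.length_eq_zero_iff.1 h3, List.map_nil, wd_nil, mul_one]
  exact mem_centralizer_singleton_iff.1 (h hz)

theorem phi_conj (hD : InList chevE8) {Φ : (Fin chevE7.rank → Kˣ) →* chevE7.SteinbergGroup K} (hΦ : IsPhi Φ)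
    (c : Fin chevE7.rank → Kˣ) (t : K) : hom emb78 K (Φ c) * chevE8.stGen K (chevE8.simple 7) t * (hom emb78 K (Φ c))⁻¹ =
      chevE8.stGen K (chevE8.simple 7) (((c i6)⁻¹ : Kˣ) * t) := by
  let S : Submonoid (Fin chevE7.rank → Kˣ) :=
    { carrier := {c | ∀ t : K, hom emb78 K (Φ c) * chevE8.stGen K (chevE8.simple 7) t * (hom emb78 K (Φ c))⁻¹ =
        chevE8.stGen K (chevE8.simple 7) (((c i6)⁻¹ : Kˣ) * t)}
      one_mem' := fun t => by simp only [_root_.map_one, _root_.one_mul, _root_.inv_one, _root_.mul_one, _root_.Pi.one_apply, _root_.Units.val_one]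
      mul_mem' := by
        intro a b ha hb t
        rw [map_mul, map_mul]
        have e : hom emb78 K (Φ a) * hom emb78 K (Φ b) * chevE8.stGen K (chevE8.simple 7) t *
            (hom emb78 K (Φ a) * hom emb78 K (Φ b))⁻¹ = hom emb78 K (Φ a) * (hom emb78 K (Φ b) *
            chevE8.stGen K (chevE8.simple 7) t * (hom emb78 K (Φ b))⁻¹) * (hom emb78 K (Φ a))⁻¹ := by group
        rw [e, hb, ha, Pi.mul_apply, mul_inv, Units.val_mul, mul_assoc] }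
  have h : c ∈ S := by
    rw [← Finset.univ_prod_mulSingle c]
    refine Submonoid.prod_mem _ fun i _ => ?_
    intro t
    have hi : (i : ℕ) < 7 := i.2
    rw [hΦ.single, hom_sth emb78 (simple7_lt i), simple78 i hi,
      h_conj hD i _ (show (i : ℕ) < 8 by omega) simple8_lt (c i).ne_zero, cartan8]
    congr 2
    by_cases h : i = i6
    · rw [if_pos h, h, Pi.mulSingle_eq_same, zpow_neg_one, Units.val_inv_eq_inv_val]
    · rw [if_neg h, Pi.mulSingle_eq_of_ne (Ne.symm h), zpow_zero, inv_one, Units.val_one]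
  exact h t

/-- **the subgroup `D₄` meets the centre trivially** -/
theorem d4_inf (hD : InList chevE7) {z : chevE7.SteinbergGroup K} (hz : z ∈ _root_.Subgroup.closure (X0 K)) (h : theta hD K z = 1) :
    z = 1 := by
  have hD8 : InList chevE8 := H65.UnivE.typE8.hp.inList
  obtain ⟨Φ, hΦ⟩ := H129.PhiE.isPhi_E7 K
  have h0 : z ∈ center (chevE7.SteinbergGroup K) := by rw [← ker_theta hD]; exact h
  obtain ⟨c, rfl⟩ := hΦ.center_le h0
  have h1 := phi_conj hD8 hΦ c 1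
  rw [(d4_comm hz).eq, mul_inv_cancel_right, mul_one] at h1
  have h2 := congrArg (thetaGL hD8 K) h1
  rw [thetaGL_stGen, thetaGL_stGen] at h2
  have h3 := xG_injective hD8 simple8_lt h2
  have h4 : c i6 = 1 := inv_eq_one.1 (Units.ext h3.symm)
  rw [cen_one ((hΦ.mem_iff c).1 h0) h4, map_one]

end D4

/-! ### lifts of automorphisms -/

/-- **every automorphism of `E₇(k)` lifts to the Steinberg group** -/
theorem exists_lift (hD : InList chevE7) {k : Type} [Field k] (hk : LocFin k) {p : ℕ} [CharP k p] (hp : Odd p)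
    (β : MulAut ↥(chevE7.group k)) : ∃ b : chevE7.SteinbergGroup k →* chevE7.SteinbergGroup k,
      ∀ l, theta hD k (b l) = β (theta hD k l) := by
  have hθ : K2 (theta hD k) := k2_theta hD
  have h1 : ∀ (r : ℕ) (t : k), ∃ a, a ^ p = 1 ∧ theta hD k a = β (theta hD k (chevE7.stGen k r t)) := by
    intro r t
    obtain ⟨w, hw⟩ := theta_surjective hD (β (theta hD k (chevE7.stGen k r t)))
    rw [← hw]
    exact hθ.lift_ex hp w (by rw [hw, ← map_pow, ← map_pow, stGen_pow_char, map_one, map_one])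
  choose ψ hψ1 hψ2 using h1
  obtain ⟨b, hb⟩ := exists_glue (D := chevE7) hk ψ (by
    intro E hE
    let X : Subgroup (↥(chevE7.group E) × chevE7.SteinbergGroup k) :=
      ((β.toMonoidHom.comp (emb hD E.subtype)).comp (MonoidHom.fst _ _)).eqLocus ((theta hD k).comp (MonoidHom.snd _ _))
    have hX : ∀ x : X, β (emb hD E.subtype x.1.1) = theta hD k x.1.2 := fun x => x.2
    let π : X →* ↥(chevE7.group E) := (MonoidHom.fst _ _).comp X.subtype
    have hπ : KFacts.Mult.Calc.CE π := by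
      refine ⟨fun g => ?_, fun x hx => mem_center_iff.2 fun y => Subtype.ext (Prod.ext ?_ ?_)⟩
      · obtain ⟨w, hw⟩ := theta_surjective hD (β (emb hD E.subtype g))
        exact ⟨⟨(g, w), hw.symm⟩, rfl⟩
      · have h2 : x.1.1 = 1 := hx
        show y.1.1 * x.1.1 = x.1.1 * y.1.1
        rw [h2, mul_one, one_mul]
      · have h2 : x.1.1 = 1 := hx
        have h3 := hX x
        rw [h2, map_one, map_one] at h3
        exact hθ.cen _ h3.symm _
    obtain ⟨f, hf⟩ := H65.UnivE.typE7.exists_factor hπ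
    refine ⟨((MonoidHom.snd _ _).comp X.subtype).comp f, fun r t => ?_⟩
    refine hθ.lift_eq hp (by rw [← map_pow, stGen_pow_char, map_one]) (hψ1 _ _) ?_
    rw [hψ2, ← stMap_stGen, theta_stMap]
    have h4 : (f (chevE7.stGen E r t)).1.1 = theta hD E (chevE7.stGen E r t) := DFunLike.congr_fun hf _
    rw [← h4]
    exact (hX _).symm)
  refine ⟨b, fun l => ?_⟩
  have h : (theta hD k).comp b = β.toMonoidHom.comp (theta hD k) := by
    apply hom_ext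
    intro r _ t
    rw [MonoidHom.comp_apply, hb, hψ2]
    rfl
  exact DFunLike.congr_fun h l

end Cfsg.Agent.TO.X5S
end

-- part: TO/X5S/Main
section
/-!
# `Box7` : the covers of `E₇(q)`, `q` odd, split canonically over the Levi `D₄` (helper97)
-/

set_option autoImplicit false

namespace Cfsg.Agent.TO.X5S

open Subgroup Cfsg Cfsg.Lie Cfsg.Lie.ChevalleyDatum
open Cfsg.Agent.ChevalleyStructure Cfsg.Agent.ChevalleyStructure.Elts Cfsg.Agent.ChevalleyStructure.StBasic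
open Cfsg.Agent.ChevalleyStructure.StTheta (theta thetaGL coe_theta thetaGL_stGen theta_surjective)
open Cfsg.Agent.H129.StCover Cfsg.Agent.Nodes Cfsg.Agent.Nodes.RGDChev Cfsg.Agent.Nodes.BNOf
open Cfsg.Agent.GpExc.Field (emb emb_injective)
open Cfsg.Agent.KFacts.RgdChevCoord (XX)

theorem sup_eq (hD : InList chevE7) (K : Type) [Field K] :
    RGD.Sup (XX chevE7 7 K) X5.Del7 = (_root_.Subgroup.closure (X0 K)).map (theta hD K) := by
  have hp : IsType chevE7 7 CoxeterMatrix.E₇ := H65.UnivE.typE7.hp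
  apply le_antisymm
  · refine iSup_le ?_
    rintro ⟨a, ha, h0, h5, h6⟩ g hg
    obtain ⟨r, hr, rfl⟩ := (isRoot_iff hp _ a).1 ha
    have h1 : (g : GL chevE7.Idx K) ∈ XV chevE7 7 K (vec chevE7 7 r) := hg
    rw [XV_vec hp K hr, mem_rootSubgroup_iff hD] at h1
    obtain ⟨t, ht⟩ := h1
    refine ⟨chevE7.stGen K r t, subset_closure ⟨r, hr, h0, h5, h6, t, rfl⟩, Subtype.ext ?_⟩
    rw [coe_theta, thetaGL_stGen, ht]
  · rw [map_le_iff_le_comap]
    refine (closure_le _).2 ?_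
    rintro _ ⟨r, hr, h0, h5, h6, t, rfl⟩
    have h1 : theta hD K (chevE7.stGen K r t) ∈ XX chevE7 7 K (vec chevE7 7 r) := by
      show ((theta hD K (chevE7.stGen K r t) : ↥(chevE7.group K)) : GL chevE7.Idx K) ∈ XV chevE7 7 K (vec chevE7 7 r)
      rw [XV_vec hp K hr, coe_theta, thetaGL_stGen]
      exact xG_mem_rootSubgroup hD r t
    exact le_iSup (fun z : X5.Del7 => XX chevE7 7 K z) ⟨vec chevE7 7 r, isRoot_vec hp _ hr, h0, h5, h6⟩ h1

/-- **[Sec7]** -/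
theorem box7 : X5.Box7 := by
  intro F _ _ r e _ _ _ hF hr2 G _ _ σ hG hσs hσk y P hP hFP m
  have hp : IsType chevE7 7 CoxeterMatrix.E₇ := H65.UnivE.typE7.hp
  have hD : InList chevE7 := hp.inList
  have hr : Odd r := (Fact.out : r.Prime).odd_of_ne_two hr2
  obtain ⟨Φ, hΦ⟩ := H129.PhiE.isPhi_E7 F
  obtain ⟨Φ', hΦ'⟩ := H129.PhiE.isPhi_E7 (AlgebraicClosure F)
  obtain ⟨pG, hpG⟩ := H65.UnivE.typE7.exists_factor (K := F) (π := σ) ⟨hσs, hσk.le⟩
  have hps : Function.Surjective pG := H65.UCover.surj_of_perfect hσk.le hG (theta_surjective hD) hpG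
  obtain ⟨y, rfl⟩ := theta_surjective hD y
  have hcl : _root_.Subgroup.closure ((MulAut.conj y).toMonoidHom '' X0 (AlgebraicClosure F)) =
      (_root_.Subgroup.closure (X0 (AlgebraicClosure F))).map (MulAut.conj y).toMonoidHom := (MonoidHom.map_closure _ _).symm
  refine sec_abs σ _ _ (theta hD (AlgebraicClosure F)) (stMap chevE7 (algebraMap F (AlgebraicClosure F))) pG
    (stMap chevE7 (iterateFrobenius (AlgebraicClosure F) r e)) hr (k2_theta hD) (emb_injective hD _)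
    (stMap_inj hD _ hΦ hΦ') (fun g => ?_) hps hσs hσk.le (ker_le_range hD _) (fun x hx => ?_) (closure_stGen chevE7)
    (X := (MulAut.conj y).toMonoidHom '' X0 (AlgebraicClosure F)) (fun x hx => ?_) (fun z hz h => ?_) (fun l => ?_)
    (fun l hl => ?_) (exists_lift hD (DL.Ex.locFin_closure F) hr) ?_ hFP m
  · rw [theta_stMap]
    exact congrArg _ (DFunLike.congr_fun hpG g).symm
  · obtain ⟨a, t, -, rfl⟩ := hx
    exact stGen_pow_char r a t
  · obtain ⟨_, ⟨a, -, -, -, -, t, rfl⟩, rfl⟩ := hx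
    rw [← map_pow, stGen_pow_char, map_one]
  · rw [hcl] at hz
    obtain ⟨w, hw, rfl⟩ := hz
    have h1 : theta hD (AlgebraicClosure F) (y * w * y⁻¹) = 1 := h
    rw [map_mul, map_mul, map_inv, mul_inv_eq_one, mul_eq_left] at h1
    rw [d4_inf hD hw h1, map_one]
  · rw [theta_stMap, DL.Ex.frobA_apply]
  · exact H559.ChevConj.lift_fix hp CoxeterMatrix.E₇.toCoxeterSystem hΦ' _ (by rw [Nat.card_eq_fintype_card, hF]) hl
  · rw [hP, hcl, sup_eq hD, Reps.cj, map_map, map_map]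
    refine congrArg (fun f => Subgroup.map f (closure (X0 (AlgebraicClosure F)))) (MonoidHom.ext fun g => ?_)
    show theta hD _ y * theta hD _ g * (theta hD _ y)⁻¹ = theta hD _ (y * g * y⁻¹)
    rw [map_mul, map_mul, map_inv]

end Cfsg.Agent.TO.X5S
end

-- part: TO/X5T/Alt
section
/-!
# S4817, `²E₆(2)` at `p = 5` : central extensions of `A₈` (helper89)
-/

set_option autoImplicit false

namespace Cfsg.Agent.TO.X5T

open Cfsg Equiv Subgroup
open scoped commutatorElement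

/-- the cycle `(0 1 2 3 4)` -/
def v0 : Perm (Fin 8) := swap (0 : Fin 8) 4 * swap (0 : Fin 8) 3 * swap (0 : Fin 8) 2 * swap (0 : Fin 8) 1

/-- the cycle `(5 6 7)` -/
def c0 : Perm (Fin 8) := swap (5 : Fin 8) 7 * swap (5 : Fin 8) 6

/-- the permutation `(1 2 4 3) (5 6)` -/
def f0 : Perm (Fin 8) := swap (1 : Fin 8) 3 * swap (1 : Fin 8) 4 * swap (1 : Fin 8) 2 * swap (5 : Fin 8) 6

/-- the transposition `(5 6)` -/
def t0 : Perm (Fin 8) := swap (5 : Fin 8) 6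

/-- the cycle `(2 3 4)` -/
def a0 : Perm (Fin 8) := swap (2 : Fin 8) 4 * swap (2 : Fin 8) 3

/-- the permutation `(1 2) (3 4)` -/
def b0 : Perm (Fin 8) := swap (1 : Fin 8) 2 * swap (3 : Fin 8) 4

theorem c0_mem : c0 ∈ alternatingGroup (Fin 8) := by simp [c0, Perm.mem_alternatingGroup]

theorem f0_mem : f0 ∈ alternatingGroup (Fin 8) := by simp [f0, Perm.mem_alternatingGroup]

theorem a0_mem : a0 ∈ alternatingGroup (Fin 8) := by simp [a0, Perm.mem_alternatingGroup]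

theorem b0_mem : b0 ∈ alternatingGroup (Fin 8) := by simp [b0, Perm.mem_alternatingGroup]

theorem sign_v0 : Perm.sign v0 = 1 := by simp [v0]

theorem v0_pow : v0 ^ 5 = 1 := by decide +kernel

theorem v0_ne : v0 ≠ 1 := by decide

theorem tab1 : ∀ m < 5, ∀ j : Fin 8, (v0 ^ m) j ≠ j →
    ∃ a < 5, ∃ k < 4, (v0 ^ a * f0 ^ k) 0 = j ∧ v0 ^ a * f0 ^ k * v0 = v0 ^ m * (v0 ^ a * f0 ^ k) := by (set_option synthInstance.maxSize 9000 in open scoped Cfsg.Agent.Lib.FastPerm in decide +kernel)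

theorem tab2 : ∀ j : Fin 8, v0 j ≠ j → ∃ a < 5, (v0 ^ a) 0 = j := by decide +kernel

theorem tab3 : ∀ a b c : Fin 8, 5 ≤ a → 5 ≤ b → 5 ≤ c → a ≠ b → a ≠ c → b ≠ c → ∃ i < 3, ∃ e < 2,
    (c0 ^ i * t0 ^ e) 5 = a ∧ (c0 ^ i * t0 ^ e) 6 = b ∧ (c0 ^ i * t0 ^ e) 7 = c := by decide +kernel

theorem tab4 : ∀ i < 3, ∀ e < 2, ∀ j : Fin 8, j < 5 → (c0 ^ i * t0 ^ e) j = j := by decide +kernel

theorem tab5 : ∀ a < 5, ∀ i < 3, (v0 ^ a * c0 ^ i) ^ 5 = 1 → i = 0 := by (set_option synthInstance.maxSize 9000 in open scoped Cfsg.Agent.Lib.FastPerm in decide +kernel)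

theorem fix_of {t : Perm (Fin 8)} (h : t * v0 = v0 * t) (h0 : t 0 = 0) : ∀ j : Fin 8, j < 5 → t j = j := by
  have e : ∀ j, t (v0 j) = v0 (t j) := fun j => DFunLike.congr_fun h j
  have h1 : t 1 = 1 := (e 0).trans (by rw [h0]; rfl)
  have h2 : t 2 = 2 := (e 1).trans (by rw [h1]; rfl)
  have h3 : t 3 = 3 := (e 2).trans (by rw [h2]; rfl)
  have h4 : t 4 = 4 := (e 3).trans (by rw [h3]; rfl)
  intro j hj
  fin_cases j <;> first | assumption | exact absurd hj (by decide)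

theorem cent_v0 {s : Perm (Fin 8)} (h : s * v0 = v0 * s) (hs : Perm.sign s = 1) : ∃ a < 5, ∃ i < 3, s = v0 ^ a * c0 ^ i := by
  obtain ⟨a, ha, h1⟩ := tab2 (s 0) fun e => absurd (s.injective ((DFunLike.congr_fun h 0).trans e)) (by decide)
  have h2 := fix_of (t := (v0 ^ a)⁻¹ * s) (by
    rw [mul_assoc, h, ← mul_assoc, ← mul_assoc, ((Commute.refl v0).pow_left a).inv_left.eq])
    (by rw [Perm.mul_apply, ← h1]; simp only [_root_.Fin.isValue, _root_.Equiv.Perm.coe_inv, _root_.Equiv.symm_apply_apply])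
  have h3 : Perm.sign ((v0 ^ a)⁻¹ * s) = 1 := by simp [hs, sign_v0]
  refine ⟨a, ha, ?_⟩
  simp only [← inv_mul_eq_iff_eq_mul]
  generalize (v0 ^ a)⁻¹ * s = t at h2 h3
  have h4 : ∀ j : Fin 8, 5 ≤ j → 5 ≤ t j := fun j hj => by
    by_contra h5
    rw [t.injective (h2 _ (not_le.1 h5))] at h5
    exact h5 hj
  obtain ⟨i, hi, e, he, h5, h6, h7⟩ := tab3 _ _ _ (h4 5 (by decide)) (h4 6 (by decide)) (h4 7 (by decide))
    (t.injective.ne (by decide)) (t.injective.ne (by decide)) (t.injective.ne (by decide))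
  have h8 : t = c0 ^ i * t0 ^ e := Equiv.ext fun j => by
    by_cases hj : j < 5
    · rw [h2 j hj, tab4 i hi e he j hj]
    · fin_cases j <;> first | exact absurd (by decide) hj | exact h5.symm | exact h6.symm | exact h7.symm
  refine ⟨i, hi, ?_⟩
  interval_cases e
  · rw [h8, pow_zero, mul_one]
  · rw [h8] at h3
    simp [Perm.mem_alternatingGroup.1 c0_mem, t0] at h3

theorem norm_v0 {s : Perm (Fin 8)} {m : ℕ} (hm : m < 5) (h : s * v0 * s⁻¹ = v0 ^ m) : ∃ a k : ℕ,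
    ∀ y : Perm (Fin 8), (∀ j : Fin 8, ¬ j < 5 → y j = j) → s * y * s⁻¹ = v0 ^ a * f0 ^ k * y * (v0 ^ a * f0 ^ k)⁻¹ := by
  rw [mul_inv_eq_iff_eq_mul] at h
  obtain ⟨a, -, k, -, h1, h2⟩ := tab1 m hm (s 0) fun e =>
    absurd (s.injective ((DFunLike.congr_fun h 0).trans e)) (by decide)
  refine ⟨a, k, fun y hy => ?_⟩
  generalize v0 ^ a * f0 ^ k = g at h1 h2
  have h3 := fix_of (t := g⁻¹ * s) (by
    rw [mul_assoc, h, ← mul_inv_eq_iff_eq_mul.2 h2]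
    group) (by rw [Perm.mul_apply, ← h1]; simp only [_root_.Fin.isValue, _root_.Equiv.Perm.coe_inv, _root_.Equiv.symm_apply_apply])
  have h4 : Commute (g⁻¹ * s) y := Perm.Disjoint.commute fun j => (em (j < 5)).imp (h3 j) (hy j)
  calc s * y * s⁻¹ = g * (g⁻¹ * s * y) * s⁻¹ := by group
    _ = _ := by rw [h4.eq]; group

theorem conj_v0 {g : Perm (Fin 8)} (h : g ^ 5 = 1) (h1 : g ≠ 1) : IsConj g v0 := by
  have : Fact (Nat.Prime 5) := ⟨by norm_num⟩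
  have key : ∀ g : Perm (Fin 8), g ^ 5 = 1 → g ≠ 1 → g.cycleType = {5} := fun g h h1 => by
    have h2 := orderOf_eq_prime h h1
    obtain ⟨n, hn⟩ := Perm.cycleType_prime_order (σ := g) (by rw [h2]; norm_num)
    have h3 := g.sum_cycleType_le
    rw [hn, h2, Multiset.sum_replicate, Fintype.card_fin, smul_eq_mul] at h3
    rw [hn, h2, show n = 0 by omega]
    rfl
  rw [Perm.isConj_iff_cycleType_eq, key g h h1, key v0 v0_pow v0_ne]

section Core

variable {P : Type} [Group P]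

theorem comm_of_central {a b : P} (h : ⁅a, b⁆ ∈ center P) {m n : ℕ} (hmn : m.Coprime n) (ha : a ^ m ∈ center P)
    (hb : b ^ n ∈ center P) : Commute a b := by
  have key : ∀ {a b : P}, ⁅a, b⁆ ∈ center P → ∀ m : ℕ, ⁅a ^ m, b⁆ = ⁅a, b⁆ ^ m := fun {a b} h m => by
    induction m with
    | zero => simp
    | succ m ih =>
      have h1 := mem_center_iff.1 h (a ^ m)
      calc ⁅a ^ (m + 1), b⁆ = a ^ m * ⁅a, b⁆ * (a ^ m)⁻¹ * ⁅a ^ m, b⁆ := by simp only [commutatorElement_def]; group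
        _ = _ := by rw [h1, mul_inv_cancel_right, ih, pow_succ']
  have h1 := key h m
  have h2 := key (a := b) (b := a) (commutatorElement_inv a b ▸ inv_mem h) n
  rw [commutatorElement_eq_one_iff_mul_comm.2 (mem_center_iff.1 ha b).symm] at h1
  rw [commutatorElement_eq_one_iff_mul_comm.2 (mem_center_iff.1 hb a).symm, ← commutatorElement_inv, inv_pow,
    eq_comm, inv_eq_one] at h2
  exact commutatorElement_eq_one_iff_commute.1 ((pow_eq_one_iff_of_coprime hmn).1 ⟨h1.symm, h2⟩)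

theorem core0 (π : P →* Perm (Fin 8)) (hs : ∀ s ∈ alternatingGroup (Fin 8), ∃ g, π g = s)
    (he : ∀ g, Perm.sign (π g) = 1) (hk : ∀ g, π g = 1 → g ∈ center P)
    (hA : ∀ α : MulAut P, ∃ s, ∀ g, π (α g) = s * π g * s⁻¹) {E : Subgroup P} (hab : E ≤ Ce E)
    (h5 : ∀ a ∈ E, a ^ 5 = 1) (hE : ∀ g, π g = 1 → g ^ 5 = 1 → g ∈ E) {v : P} (hv : v ∈ E) (ev : π v = v0) :
    (∀ a ∈ Ce E, ∀ b ∈ Ce E, a * b = b * a) ∧ ∃ x, (∀ y ∈ E, x * y * x⁻¹ ∈ E) ∧ x ∉ Ce E ∧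
      (∀ g ∈ Ce E, ∃ d ∈ E, x * g * x⁻¹ = d * g) ∧
      ∀ α : MulAut P, (∀ y ∈ E, α y ∈ E) → ∃ d ∈ E, α x = d * x * d⁻¹ := by
  obtain ⟨c, ec⟩ := hs c0 c0_mem
  obtain ⟨f, ef⟩ := hs f0 f0_mem
  obtain ⟨a, ea⟩ := hs a0 a0_mem
  obtain ⟨b, eb⟩ := hs b0 b0_mem
  have lift : ∀ {g g' : P}, π g = π g' → ∃ z ∈ center P, π z = 1 ∧ g = g' * z := fun {g g'} e =>
    have h1 : π (g'⁻¹ * g) = 1 := by rw [map_mul, map_inv, e, inv_mul_cancel]
    ⟨_, hk _ h1, h1, by rw [mul_inv_cancel_left]⟩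
  have cz : ∀ {z : P}, z ∈ center P → ∀ g, Commute g z := fun hz g => mem_center_iff.1 hz g
  have h1 : ∀ g ∈ Ce E, ∃ i < 5, ∃ j < 3, π g = v0 ^ i * c0 ^ j := fun g hg =>
    cent_v0 (by rw [← ev, ← map_mul, ← map_mul, hg v hv]) (he g)
  have h2 : ∀ g ∈ Ce E, ∃ i j : ℕ, ∃ z ∈ center P, g = v ^ i * c ^ j * z := fun g hg => by
    obtain ⟨i, -, j, -, e⟩ := h1 g hg
    obtain ⟨z, hz, -, e'⟩ := lift (g := g) (g' := v ^ i * c ^ j) (by rw [e, map_mul, map_pow, map_pow, ev, ec])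
    exact ⟨i, j, z, hz, e'⟩
  have h3 : ∀ y ∈ E, ∃ i < 5, π y = v0 ^ i := fun y hy => by
    obtain ⟨i, hi, j, hj, e⟩ := h1 y (hab hy)
    obtain rfl := tab5 i hi j hj (by rw [← e, ← map_pow, h5 y hy, map_one])
    exact ⟨i, hi, by rw [e, pow_zero, mul_one]⟩
  have h4 : ∀ (g : P) (i : ℕ), g ^ 5 = 1 → π g = v0 ^ i → g ∈ E := fun g i hg e => by
    obtain ⟨z, hz, h6, rfl⟩ := lift (g := g) (g' := v ^ i) (by rw [e, map_pow, ev])
    rw [(cz hz _).mul_pow, h5 _ (pow_mem hv i), one_mul] at hg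
    exact mul_mem (pow_mem hv i) (hE z h6 hg)
  have c3 : c ^ 3 ∈ center P := hk _ (by rw [map_pow, ec]; decide)
  have vc : Commute v c := comm_of_central (m := 5) (n := 3)
    (hk _ (by rw [map_commutatorElement, ev, ec]; decide)) (by norm_num) (h5 v hv ▸ one_mem _) c3
  have ex : π ⁅a, b⁆ = f0 ^ 2 := by rw [map_commutatorElement, ea, eb]; decide
  have xc : Commute ⁅a, b⁆ c := comm_of_central (m := 2) (n := 3)
    (hk _ (by rw [map_commutatorElement, ex, ec]; decide)) (by norm_num) (hk _ (by rw [map_pow, ex]; decide)) c3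
  have xE : ∀ y ∈ E, ⁅a, b⁆ * y * ⁅a, b⁆⁻¹ ∈ E := fun y hy => by
    obtain ⟨i, -, e⟩ := h3 y hy
    refine h4 _ (4 * i) (by rw [conj_pow, h5 y hy, mul_one, mul_inv_cancel]) ?_
    rw [map_mul, map_mul, map_inv, ex, e, ← conj_pow, pow_mul]
    exact congrArg (· ^ i) (show f0 ^ 2 * v0 * (f0 ^ 2)⁻¹ = v0 ^ 4 by decide +kernel)
  refine ⟨fun g hg g' hg' => ?_, ⁅a, b⁆, xE, fun h => ?_, fun g hg => ?_, fun α hα => ?_⟩
  · obtain ⟨i, j, z, hz, rfl⟩ := h2 g hg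
    obtain ⟨i', j', z', hz', rfl⟩ := h2 g' hg'
    exact ((((Commute.refl v).pow_pow i i').mul_left (vc.symm.pow_pow j i')).mul_right
      ((vc.pow_pow i j').mul_left ((Commute.refl c).pow_pow j j'))).mul_left (cz hz _).symm |>.mul_right (cz hz' _)
  · have h6 := congrArg π (h v hv)
    rw [map_mul, map_mul, ex, ev] at h6
    exact absurd h6 (by decide)
  · obtain ⟨i, j, z, hz, rfl⟩ := h2 g hg
    refine ⟨_, mul_mem (xE _ (pow_mem hv i)) (inv_mem (pow_mem hv i)), ?_⟩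
    have h6 := ((xc.pow_right j).mul_right (cz hz _)).inv_left.eq
    generalize ⁅a, b⁆ = x at h6
    calc x * (v ^ i * c ^ j * z) * x⁻¹ = x * v ^ i * (c ^ j * z * x⁻¹) := by group
      _ = _ := by rw [← h6]; group
  · obtain ⟨s, hs⟩ := hA α
    obtain ⟨m, hm, e⟩ := h3 _ (hα v hv)
    obtain ⟨i, k, h6⟩ := norm_v0 hm (by rw [← e, hs, ev])
    have h7 : ∀ y : P, (∀ j : Fin 8, ¬ j < 5 → π y j = j) →
        ∃ z ∈ center P, α y = v ^ i * f ^ k * y * (v ^ i * f ^ k)⁻¹ * z := fun y hy => by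
      obtain ⟨z, hz, -, e⟩ := lift (g := α y) (g' := v ^ i * f ^ k * y * (v ^ i * f ^ k)⁻¹) (by
        simp only [map_mul, map_inv, map_pow, hs, h6 _ hy, ev, ef])
      exact ⟨z, hz, e⟩
    obtain ⟨z₁, hz₁, e₁⟩ := h7 a (by rw [ea]; decide)
    obtain ⟨z₂, hz₂, e₂⟩ := h7 b (by rw [eb]; decide)
    have h8 : ∀ (y y' : P) {z z' : P}, z ∈ center P → z' ∈ center P → ⁅y * z, y' * z'⁆ = ⁅y, y'⁆ := fun y y' z z' hz hz' => by
      have g1 := (cz hz (y' * z')).eq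
      have g2 := (cz hz' (y' * y⁻¹)⁻¹).eq
      calc ⁅y * z, y' * z'⁆ = y * (z * (y' * z') * z⁻¹) * y⁻¹ * z'⁻¹ * y'⁻¹ := by simp only [commutatorElement_def]; group
        _ = y * y' * (z' * y⁻¹) * z'⁻¹ * y'⁻¹ := by rw [← g1]; group
        _ = _ := by rw [← (cz hz' y⁻¹).eq, commutatorElement_def]; group
    obtain ⟨z, hz, -, e⟩ := lift (g := ⁅a, b⁆) (g' := f ^ 2) (by rw [ex, map_pow, ef])
    have h9 : Commute (f ^ k) ⁅a, b⁆ := by
      rw [e]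
      exact ((Commute.refl f).pow_pow k 2).mul_right (cz hz _)
    refine ⟨_, pow_mem hv i, ?_⟩
    rw [map_commutatorElement, e₁, e₂, h8 _ _ hz₁ hz₂, ← conjugate_commutatorElement, mul_assoc (v ^ i), h9.eq]
    group

/-- **central extensions of `A₈`** -/
theorem core (π : P →* alternatingGroup (Fin 8)) (hs : Function.Surjective π) (hk : ∀ g, π g = 1 → g ∈ center P)
    {E : Subgroup P} (hab : E ≤ Ce E) (h5 : ∀ a ∈ E, a ^ 5 = 1) (hE : ∀ g, π g = 1 → g ^ 5 = 1 → g ∈ E) {v : P} (hv : v ∈ E)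
    (hv1 : π v ≠ 1) :
    (∀ a ∈ Ce E, ∀ b ∈ Ce E, a * b = b * a) ∧ ∃ x, (∀ y ∈ E, x * y * x⁻¹ ∈ E) ∧ x ∉ Ce E ∧
      (∀ g ∈ Ce E, ∃ d ∈ E, x * g * x⁻¹ = d * g) ∧
      ∀ α : MulAut P, (∀ y ∈ E, α y ∈ E) → ∃ d ∈ E, α x = d * x * d⁻¹ := by
  obtain ⟨t, ht⟩ := isConj_iff.1 (conj_v0 (g := π v) (by
    rw [← Subgroup.coe_pow, ← map_pow, h5 v hv, map_one, Subgroup.coe_one]) fun e => hv1 (Subtype.ext e))
  let ρ : P →* alternatingGroup (Fin 8) := (MulAut.conjNormal t : MulAut (alternatingGroup (Fin 8))).toMonoidHom.comp π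
  have h1 : Function.Surjective ρ := (MulAut.conjNormal t : MulAut (alternatingGroup (Fin 8))).surjective.comp hs
  have h2 : ∀ g, ρ g = 1 → π g = 1 := fun g e =>
    (MulEquiv.map_eq_one_iff (MulAut.conjNormal t : MulAut (alternatingGroup (Fin 8)))).1 e
  have h3 : ∀ g, g ∈ ρ.ker ↔ g ∈ center P := fun g => ⟨fun e => hk g (h2 g e), fun e => by
    refine (alternatingGroup.center_eq_bot (α := Fin 8) (by simp)).le (mem_center_iff.2 fun y => ?_)
    obtain ⟨y, rfl⟩ := h1 y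
    rw [← map_mul, ← map_mul, mem_center_iff.1 e]⟩
  refine core0 ((alternatingGroup (Fin 8)).subtype.comp ρ) (fun s hs => ?_) (fun g => (ρ g).2)
    (fun g e => hk g (h2 g (Subtype.ext e))) (fun α => ?_) hab h5 (fun g e => hE g (h2 g (Subtype.ext e))) hv ht
  · obtain ⟨g, e⟩ := h1 ⟨s, hs⟩
    exact ⟨g, congrArg Subtype.val e⟩
  · obtain ⟨β, hβ⟩ := exists_ind h1 (α := α) (fun g e => (h3 _).2 (aut_center _ ((h3 g).1 e)))
      fun g e => (h3 _).2 (aut_center _ ((h3 g).1 e))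
    obtain ⟨s, rfl⟩ := (S2119.result 8 (by norm_num) (by norm_num)).2 β
    exact ⟨s, fun g => congrArg Subtype.val (hβ g)⟩

end Core

end Cfsg.Agent.TO.X5T
end

-- part: TO/X5T/Main
section
/-!
# S4817, `²E₆(2)` at `p = 5` (helper89)
-/

set_option autoImplicit false

namespace Cfsg.Agent.TO.X5T

open Cfsg Subgroup
open Cfsg.Agent.BHZ.Nil
open scoped commutatorElement

variable {G : Type} [Group G] [Finite G] {M : Ideal AlgInt} {b : Set (IrrCharacter G)} {D : Subgroup G} {θ : G → ℂ}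

/-- `K` for an abelian centralizer and an element which is canonical up to conjugation -/
theorem kill (B : Blk) (H : Two 5 M b D) (h : Can 5 M b D θ) (hc : Nat.card D = 5 ^ 2)
    (hab : ∀ a ∈ Ce D, ∀ a' ∈ Ce D, a * a' = a' * a) {u : G} (hu : u ∈ D) (hu1 : u ≠ 1) {x : G} (hx : x ∈ In D θ)
    (hxu : x ∈ Cu u) (hxc : x ∉ Ce D) (hα : ∀ α ∈ LA D θ, α u = u → ∃ d ∈ Ce D, α x = d * x * d⁻¹) : False := by
  have : Fact (Nat.Prime 5) := ⟨by norm_num⟩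
  let R : Subgroup G := _root_.Subgroup.closure (insert x (Ce D))
  have h1 : x ∈ R := _root_.Subgroup.subset_closure (Set.mem_insert _ _)
  have h2 : Ce D ≤ R := fun c hc => _root_.Subgroup.subset_closure (Set.mem_insert_of_mem _ hc)
  have h3 : R ≤ In D θ ⊓ Cu u := (closure_le _).2 (Set.insert_subset ⟨hx, hxu⟩ fun c hc =>
    ⟨h.Ce_le_In hc, Q8.ce_le_cu hu hc⟩)
  have hN : ((Ce D).subgroupOf R).Normal := ⟨fun c hc r => conj_mem_Ce (In_le_norm (h3 r.2).1) hc⟩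
  have h4 : IsCyclic (R ⧸ (Ce D).subgroupOf R) := by
    refine ⟨⟨QuotientGroup.mk ⟨x, h1⟩, fun q => ?_⟩⟩
    obtain ⟨⟨y, hy⟩, rfl⟩ := QuotientGroup.mk_surjective q
    change _ ∈ zpowers _
    induction hy using closure_induction with
    | mem y hy =>
      rcases hy with rfl | hy
      · exact mem_zpowers _
      · exact ((QuotientGroup.eq_one_iff (N := (Ce D).subgroupOf R) ⟨y, h2 hy⟩).2 hy).symm ▸ one_mem _
    | one => exact one_mem _
    | mul y y' _ _ a a' => exact mul_mem a a'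
    | inv y _ a => exact inv_mem a
  obtain ⟨χ, h5, h6⟩ := S0886.result ((Ce D).subgroupOf R) h4 (fun n => θ n.1.1)
    (Characters.Core.isIrr_comp (subgroupOfEquivOfLe h2).toMonoidHom (MulEquiv.surjective _) h.irr)
    fun g n => (h3 g.2).1.2 n.1.1
  have := Fintype.ofFinite (Ce D)
  have h7 : χ 1 = 1 := (h6 1).trans (H273.RC.irr_abel (fun a a' => Subtype.ext (hab a a.2 a' a'.2)) h.irr).1
  obtain ⟨f, rfl⟩ := Characters.Linear.exists_hom_of_isIrrCharacter h5 h7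
  classical
  refine B.k G 5 M b D θ (fun g => if hg : g ∈ R then (f ⟨g, hg⟩ : ℂ) else 0) H h (Or.inr rfl) hc u hu hu1 R h3
    (fun e => hxc (e h1)) ⟨h2, by simpa only [SetLike.coe_mem, dif_pos] using h5, fun c hc => ?_⟩ fun α hA e y hy hy' => ?_
  · rw [dif_pos (h2 hc)]
    exact h6 ⟨⟨c, h2 hc⟩, hc⟩
  have key : ∀ y (hy : y ∈ R), ∃ hy' : α y ∈ R, f ⟨α y, hy'⟩ = f ⟨y, hy⟩ := fun y hy => by
    induction hy using closure_induction with
    | mem y hy =>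
      rcases hy with rfl | hy
      · obtain ⟨d, hd, e⟩ := hα α hA e
        refine ⟨e ▸ mul_mem (mul_mem (h2 hd) h1) (inv_mem (h2 hd)), ?_⟩
        rw [show (⟨α y, _⟩ : R) = ⟨d, h2 hd⟩ * ⟨y, h1⟩ * ⟨d, h2 hd⟩⁻¹ from Subtype.ext e, map_mul, map_mul, map_inv,
          mul_inv_cancel_comm]
      · have h8 := (LA_Ce hA.1 y).2 hy
        exact ⟨h2 h8, Units.ext ((h6 ⟨⟨_, h2 h8⟩, h8⟩).trans ((hA.2 y).trans (h6 ⟨⟨_, h2 hy⟩, hy⟩).symm))⟩
    | one => exact ⟨(map_one α).symm ▸ one_mem _, congrArg f (Subtype.ext (map_one α))⟩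
    | mul y y' hy hy' a a' =>
      obtain ⟨a, e⟩ := a
      obtain ⟨a', e'⟩ := a'
      refine ⟨(map_mul α y y').symm ▸ mul_mem a a', ?_⟩
      rw [show (⟨α (y * y'), _⟩ : R) = ⟨_, a⟩ * ⟨_, a'⟩ from Subtype.ext (map_mul α y y'), map_mul, e, e', ← map_mul]
      rfl
    | inv y hy a =>
      obtain ⟨a, e⟩ := a
      refine ⟨(map_inv α y).symm ▸ inv_mem a, ?_⟩
      rw [show (⟨α y⁻¹, _⟩ : R) = ⟨_, a⟩⁻¹ from Subtype.ext (map_inv α y), map_inv, e, ← map_inv]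
      rfl
  rw [dif_pos hy, dif_pos hy', (key y hy).2]

theorem z5_pow : ∀ r : Multiplicative (ZMod 5), r ^ 5 = 1 := by decide

theorem z5_gen : ∀ r s : Multiplicative (ZMod 5), r ≠ 1 → ∃ i < 5, s = r ^ i := by decide

/-- the groups in which the elements of order five have the centralizer `5 × A₈` -/
theorem row_of (B : Blk) {X : Type} [Group X]
    (hX : ∀ x : X, orderOf x = 5 → Nonempty (Cu x ≃* Multiplicative (ZMod 5) × alternatingGroup (Fin 8))) : Row 5 X := by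
  intro G _ _ σ M b D H
  have : Fact (Nat.Prime 5) := ⟨by norm_num⟩
  have hp : IsPGroup 5 D := Blocks.Basic.isPGroup_of_isDefectGroup H.hD
  have hn : Nontrivial D := not_subsingleton_iff_nontrivial.1 fun _ => H.nc isCyclic_of_subsingleton
  obtain ⟨u, hu5, hu1, huc⟩ : ∃ u : D, u ^ 5 = 1 ∧ u ≠ 1 ∧ u ∈ center D := by
    have := hp.center_nontrivial
    obtain ⟨n, hn, e⟩ := (hp.to_subgroup (center D)).nontrivial_iff_card.1 this
    obtain ⟨u, hu⟩ := exists_prime_orderOf_dvd_card' (G := center D) 5 (e ▸ dvd_pow_self 5 hn.ne')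
    refine ⟨u, ?_, fun e => ?_, u.2⟩
    · rw [← hu, ← Subgroup.coe_pow, pow_orderOf_eq_one, Subgroup.coe_one]
    · rw [show u = 1 from Subtype.ext e, orderOf_one] at hu
      omega
  obtain ⟨u, hu⟩ := u
  replace hu5 : u ^ 5 ^ 1 = 1 := congrArg Subtype.val hu5
  replace hu1 : u ≠ 1 := fun e => hu1 (Subtype.ext e)
  have hD : D ≤ Cu u := fun d hd => Q8.mem_cu.2 (congrArg Subtype.val (mem_center_iff.1 huc ⟨d, hd⟩))
  have h1 : σ u ≠ 1 := fun e => hu1 (H.cpp.eq_one e hu5)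
  obtain ⟨e⟩ := hX (σ u) (orderOf_eq_prime (by rw [← map_pow, ← pow_one 5, hu5, map_one]) h1)
  let τ : Cu u →* Cu (σ u) := (σ.comp (Cu u).subtype).codRestrict _ fun g => Q8.mem_cu.2 (by
    rw [MonoidHom.comp_apply, ← map_mul, ← map_mul]
    exact congrArg σ (Q8.mem_cu.1 g.2))
  have h2 : Function.Surjective τ := fun y => by
    obtain ⟨g, hg⟩ := H.surj y
    exact ⟨⟨g, Q8.mem_cu.2 (H.cpp.comm_of_pelt hu5 (hg ▸ (Q8.mem_cu.1 y.2).symm)).symm⟩, Subtype.ext hg⟩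
  let ρ := e.toMonoidHom.comp τ
  have h3 : Function.Surjective ρ := e.surjective.comp h2
  have h4 : ∀ g g', ρ g = ρ g' → σ g = σ g' := fun g g' h => congrArg Subtype.val (e.injective h)
  have hc : Nat.card D = 5 ^ 2 := by
    have h5 := card_dvd_of_injective (ρ.comp (inclusion hD)) fun d d' h => H.injD (Subtype.ext (h4 _ _ h))
    obtain ⟨k, hk⟩ := hp.exists_card_eq
    rw [Nat.card_prod, Nat.card_congr Multiplicative.toAdd, Nat.card_zmod, nat_card_alternatingGroup, Nat.card_fin,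
      hk] at h5
    have h6 : k ≤ 2 := by
      by_contra h6
      exact absurd ((pow_dvd_pow 5 (show 3 ≤ k by omega)).trans h5) (by decide)
    have h7 : ¬ k ≤ 1 := fun h7 => H.nc (isCyclic_of_card_dvd_prime (p := 5) (hk ▸ (pow_dvd_pow 5 h7).trans (pow_one 5).dvd))
    rw [hk, show k = 2 by omega]
  have hab : D ≤ Ce D := fun d hd d' hd' =>
    congrArg Subtype.val ((IsPGroup.isMulCommutative_of_card_eq_prime_sq hc).1.1 ⟨d', hd'⟩ ⟨d, hd⟩)
  obtain ⟨θ, h⟩ := B.can0 G 5 M b D H.hM H.hb H.hD hab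
  let π := (MonoidHom.snd _ _).comp ρ
  have h6 : π ⟨u, hD hu⟩ = 1 := by
    refine (alternatingGroup.center_eq_bot (α := Fin 8) (by simp)).le (mem_center_iff.2 fun y => ?_)
    obtain ⟨g, hg⟩ := h3 (1, y)
    rw [show y = π g from (congrArg Prod.snd hg).symm, ← map_mul, ← map_mul]
    exact congrArg π (Subtype.ext (Q8.mem_cu.1 g.2))
  have h7 : ∀ g : Cu u, π g = 1 → g ^ 5 = 1 → g.1 ∈ zpowers u := fun g hg hg5 => by
    obtain ⟨i, -, hi⟩ := z5_gen (ρ ⟨u, hD hu⟩).1 (ρ g).1 fun e =>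
      h1 ((h4 ⟨u, hD hu⟩ 1 (by rw [map_one]; exact Prod.ext e h6)).trans (map_one σ))
    refine H.cpp.mem_of_pelt (n := 1) (hp.to_le (zpowers_le.2 hu)) (congrArg Subtype.val hg5) ⟨u ^ i, pow_mem (mem_zpowers u) i,
      h4 (⟨u, hD hu⟩ ^ i) g ?_⟩
    rw [map_pow]
    exact Prod.ext hi.symm ((congrArg (· ^ i) h6).trans ((one_pow i).trans hg.symm))
  have h8 : ∀ g : Cu u, π g = 1 → g ∈ center (Cu u) := fun g hg => mem_center_iff.2 fun y => by
    have h9 : σ g * σ y = σ y * σ g := by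
      rw [← map_mul, ← map_mul]
      refine h4 (g * y) (y * g) ?_
      rw [map_mul, map_mul]
      exact Prod.ext (mul_comm _ _) (show π g * π y = π y * π g by rw [hg, one_mul, mul_one])
    have h10 : σ (g ^ 5) = 1 := (h4 (g ^ 5) 1 (by
      rw [map_pow, map_one]
      exact Prod.ext (z5_pow _) ((congrArg (· ^ 5) hg).trans (one_pow 5)))).trans (map_one σ)
    have h11 := H.cpp.conj_pow h9 5
    rw [← H.cpp.comm h10, mul_inv_cancel_right, right_eq_mul] at h11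
    exact Subtype.ext (commutatorElement_eq_one_iff_mul_comm.1 (H.cpp.eq_one (CentPP.comm_ker h9) (n := 1) h11)).symm
  obtain ⟨v, hv, hv1⟩ : ∃ v ∈ D.subgroupOf (Cu u), π v ≠ 1 := by
    by_contra h9
    push Not at h9
    refine H.nc (le_antisymm (zpowers_le.2 hu) (fun d hd => h7 ⟨d, hD hd⟩ (h9 _ hd)
      (Subtype.ext (K.pow_eq_one_of hc H.nc hd))) ▸ inferInstance)
  obtain ⟨g1, x, g2, g3, g4, g5⟩ := core π (Prod.snd_surjective.comp h3) h8 (E := D.subgroupOf (Cu u))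
    (fun d hd => (Cn.mem_Ce_sub hD d).2 (hab hd)) (fun d hd => Subtype.ext (K.pow_eq_one_of hc H.nc hd))
    (fun g hg hg5 => zpowers_le.2 hu (h7 g hg hg5)) hv hv1
  have hC := Q8.ce_le_cu hu
  have g6 : x.1 ∈ normalizer (D : Set G) := mem_normalizer_fintype fun d hd => g2 ⟨d, hD hd⟩ hd
  refine kill B H.toTwo h hc (fun a ha a' ha' => congrArg Subtype.val (g1 ⟨a, hC ha⟩ ((Cn.mem_Ce_sub hD _).2 ha) ⟨a', hC ha'⟩
    ((Cn.mem_Ce_sub hD _).2 ha'))) hu hu1 (x := x) ⟨fun y => (mem_normalizer_iff.1 g6 y).symm, fun g => ?_⟩ x.2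
    (fun e => g3 ((Cn.mem_Ce_sub hD _).2 e)) fun α hα e => ?_
  · by_cases hg : g ∈ Ce D
    · obtain ⟨d, hd, e⟩ := g4 ⟨g, hC hg⟩ ((Cn.mem_Ce_sub hD _).2 hg)
      exact (congrArg θ (congrArg Subtype.val e)).trans (h.mul' hd g)
    · rw [h.zero g hg, h.zero]
      exact fun e => hg (by simpa only [mul_assoc, _root_.MulAut.conj_apply, _root_.inv_mul_cancel_left, _root_.inv_inv, _root_.inv_mul_cancel, _root_.mul_one] using conj_mem_Ce (inv_mem g6) e)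
  · obtain ⟨d, hd, e'⟩ := g5 (Q8.resAut α _ fun y => by simpa only [e] using Q8.map_mem_cu α u y)
      fun y hy => (hα.1 y).2 hy
    exact ⟨d, hab hd, congrArg Subtype.val e'⟩

/-- **[T2]** -/
theorem boxT2 : X5.BoxT2 := fun _ _ _ hK => row_of blk (S2227.result hK).2

end Cfsg.Agent.TO.X5T
end

-- part: TO/X5T/Aniso
section
/-!
# S4817, `F₄(2 ^ e)`, `p = 5` : the anisotropic plane does not occur (helper89)
-/

set_option autoImplicit false
set_option linter.unusedSectionVars false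

namespace Cfsg.Agent.TO.X5T

open CoxeterSystem Cfsg Cfsg.Lie Matrix
open Cfsg.Agent.ChevalleyStructure.CoxeterGeom Cfsg.Agent.ChevalleyStructure.CoxeterGeomTypes
open Cfsg.Agent.Nodes Cfsg.Agent.Nodes.RGDChev Cfsg.Agent.KZ.DatX Cfsg.Agent.TO.X
open Cfsg.Agent.BHZ.Nil (KK)

/-- the invariant form -/
def anK : Matrix (Fin 4) (Fin 4) ℤ := (beta% delta% lq26c09ab375 fun _ _ _ d e _ =>
 (@_root_.Matrix.of (Fin 4) (Fin 4) _ (d (d 4<|d 6<|d 4<|d 2<|e)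
 (d (d 6<|d 12<|d 8<|d 4<|e)
 (d (d 4<|d 8<|d 6<|d 3<|e)
 (d (d 2<|d 4<|d 3<|d 2<|e)
 e))))))

theorem anK_s : ∀ i, (sM chevF4 4 i)ᵀ * anK * sM chevF4 4 i = anK := by decide +kernel

theorem anK_W {W : Matrix (Fin 4) (Fin 4) ℤ} (h : WM chevF4 4 W) : Wᵀ * anK * W = anK := by
  obtain ⟨L, rfl⟩ := h
  induction L with
  | nil => simp
  | cons i L ih =>
    rw [List.map_cons, List.prod_cons, transpose_mul, mul_assoc, mul_assoc, ← mul_assoc anK, ← mul_assoc _ (anK * _),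
      ← mul_assoc _ anK, anK_s, ← mul_assoc, ih]

theorem an_form {W : Matrix (Fin 4) (Fin 4) ℤ} (h : WM chevF4 4 W) (v : Fin 4 → ZMod 5) :
    mv W v ⬝ᵥ mv anK (mv W v) = v ⬝ᵥ mv anK v := by
  conv_rhs => rw [← anK_W h, mv_mul, mv_mul]
  generalize mv anK (mv W v) = y
  unfold mv
  rw [transpose_map, dotProduct_comm, dotProduct_mulVec, dotProduct_comm, mulVec_transpose]

theorem an_reg : ∀ a, Rt chevF4 4 a →
    ¬ ∀ s ∈ ({![0, 1, 0, 0], ![1, 0, 1, 2]} : Set (Fin 4 → ZMod 5)), vl a s = 0 := by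
  have h : ∀ r < chevF4.nroots, ¬ (vl (_root_.Cfsg.Agent.Nodes.RGDChev.vec chevF4 4 r) (![0, 1, 0, 0] : Fin 4 → ZMod 5) = 0 ∧
      vl (_root_.Cfsg.Agent.Nodes.RGDChev.vec chevF4 4 r) (![1, 0, 1, 2] : Fin 4 → ZMod 5) = 0) := by decide +kernel
  rintro _ ⟨r, hr, rfl⟩ h1
  exact h r hr ⟨h1 _ (Set.mem_insert _ _), h1 _ (Set.mem_insert_of_mem _ rfl)⟩

theorem an_val : (![0, 1, 0, 0] : Fin 4 → ZMod 5) ⬝ᵥ mv anK ![0, 1, 0, 0] = 2 := by decide +kernel

theorem an_two : (2 : ZMod 5) ≠ 0 := by decide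

/-- **the anisotropic plane does not occur** -/
theorem aniso [Fact (Nat.Prime 5)] {k : Type} [Field k] [CharP k 2] [IsAlgClosed k] {e : ℕ}
    (X : XF hpF4 2 k ((2 : ℤ) ^ e • 1)) {S : Type} [Group S] (s : XS X (AdmL 2 [1, GamF]) 1 S) {ζ : kˣ}
    (hζ : IsPrimitiveRoot ζ 5) {Γ : Subgroup (MulAut S)} {Q : Subgroup S} (P : Pure 5 S Γ Q) (E : Tor X)
    (h1 : ![0, 1, 0, 0] ∈ vs s hζ E Q) (h2 : ![1, 0, 1, 2] ∈ vs s hζ E Q) : False := by
  have := finite_W hpF4 CoxeterMatrix.F₄.toCoxeterSystem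
  have hB : ({![0, 1, 0, 0], ![1, 0, 1, 2]} : Set (Fin 4 → ZMod 5)) ⊆ vs s hζ E Q := by
    rintro _ (rfl | rfl)
    exacts [h1, h2]
  have hA : ∀ v : Fin 4 → ZMod 5, mv E.A v = (((2 : ℤ) ^ e : ℤ) : ZMod 5) • mv (wm X E.w) v := fun v => by
    rw [E.A_eq, Matrix.mul_smul, mul_one, smul_mv]
  generalize (((2 : ℤ) ^ e : ℤ) : ZMod 5) = q at hA
  have hW : ¬ 5 ∣ Nat.card CoxeterMatrix.F₄.Group := by rw [card_W_F4]; norm_num
  have one : ∀ w, (∀ v ∈ ({![0, 1, 0, 0], ![1, 0, 1, 2]} : Set (Fin 4 → ZMod 5)), mv (wm X w) v = v) → w = 1 :=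
    fun w hw => Lat.eq_one_of_fix hpF4 Lat.rho_F4 an_reg hW pow_card_eq_one' fun v hv => by
      rw [← KZ.Exc.Wm_eq hpF4 X w]
      exact hw v hv
  have hq : q ^ 2 = 1 := by
    have h3 := (hA _).symm.trans (fix_of_mem_vs s hζ h1)
    have h4 := an_form (WM_wm X E.w) ![0, 1, 0, 0]
    have h5 : (![0, 1, 0, 0] : Fin 4 → ZMod 5) ⬝ᵥ mv anK ![0, 1, 0, 0] = 2 := an_val
    have h6 := h5
    rw [← h3, mv_smul, smul_dotProduct, dotProduct_smul, h4, h5, smul_smul, smul_eq_mul, ← sq] at h6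
    exact (mul_eq_right₀ an_two).1 h6
  have hF : ∀ v : Fin 4 → ZMod 5, mv E.A v = v := by
    rcases sq_eq_one_iff.1 hq with rfl | rfl
    · intro v
      rw [hA, one E.w fun u hu => by simpa [hA] using fix_of_mem_vs s hζ (hB hu), map_one, mv_one, one_smul]
    · obtain ⟨u, hu⟩ : ∃ u : CoxeterMatrix.F₄.Group, wm X u = -1 := XF.exists_neg_F4 X
      have h3 : ∀ v : Fin 4 → ZMod 5, mv E.A v = mv (wm X (u * E.w)) v := fun v => by
        rw [hA, map_mul, mv_mul, hu, ← neg_one_smul ℤ (1 : Matrix (Fin 4) (Fin 4) ℤ), smul_mv,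
          mv_one, Int.cast_neg, Int.cast_one]
      intro v
      rw [h3, one (u * E.w) fun y hy => (h3 y).symm.trans (fix_of_mem_vs s hζ (hB hy)), map_one, mv_one]
  have h3 : vs s hζ E (KK 5 Q) = ⊤ := eq_top_iff.2 fun v _ =>
    mem_vs_KK s hζ (Nat.coprime_one_left 5) E hB (hF v) fun x hx h => (an_reg x hx h).elim
  have h4 := Pl.rkG45 ((pureSp s hζ P E).mono fun _ => admS_of_admL (by norm_num) Nat.prime_two (by norm_num))
  rw [h3, finrank_top, Module.finrank_fintype_fun_eq_card, Fintype.card_fin] at h4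
  omega

end Cfsg.Agent.TO.X5T
end

-- part: TO/X5E/Glue
section
/-!
# S4817, `p = 5` : the rows from the core (helper36)
-/

set_option autoImplicit false
set_option linter.unusedSectionVars false
set_option maxHeartbeats 400000

namespace Cfsg.Agent.TO.X5E

open Cfsg Cfsg.Lie Matrix Cfsg.Agent.DL Cfsg.Agent.Nodes Cfsg.Agent.Nodes.RGDChev Cfsg.Agent.KZ.DatX Cfsg.Agent.TO.X
  Cfsg.Agent.ChevalleyStructure.CoxeterGeomTypes Cfsg.Agent.BpExc Cfsg.Agent.BpExc.Zc Cfsg.Agent.TO.X5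
  Cfsg.Agent.DL.Ex Cfsg.Agent.Nodes.BNOf
open Cfsg.Agent.KFacts.RgdChevCoord (XX)
open Cfsg.Agent.GpExc.Field (emb)
open scoped commutatorElement

attribute [local instance] fact5

/-- the section in the coprime case -/
def Cop : Prop := ∀ {C : ChevalleyDatum} {l : ℕ} {M : CoxeterMatrix (Fin l)} {hp : IsType C l M} {r : ℕ} [Fact r.Prime]
  {k : Type} [Field k] [CharP k r] [IsAlgClosed k] {Mx : Matrix (Fin l) (Fin l) ℤ} {X : XF hp r k Mx}
  {Adm : Matrix (Fin l) (Fin l) ℤ → Prop} {d : ℕ} {S : Type} [Group S] (s : XS X Adm d S) {G : Type} [Group G] [Finite G]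
  (σ : G →* S), Function.Surjective σ → σ.ker = Subgroup.center G → ∀ {m : ℕ}, d.Coprime m →
    (Nat.card (Subgroup.center G)).Coprime m → Sec σ s.ι X.F ⊤ m

section gen

variable {C : ChevalleyDatum} {l : ℕ} {M : CoxeterMatrix (Fin l)} {hp : IsType C l M} {r : ℕ} [Fact r.Prime] {k : Type}
  [Field k] [CharP k r] [IsAlgClosed k] {Mx : Matrix (Fin l) (Fin l) ℤ} {X : XF hp r k Mx}
  {Adm : Matrix (Fin l) (Fin l) ℤ → Prop} {d : ℕ} {S : Type} [Group S]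

theorem cz0 : CommZ M.toCoxeterSystem hp.isCartan (XX C l k) := by
  intro x y hx hy hxy hxy' a ha b hb
  refine RGD.Sup_mono (S := CommZ.combZ M.toCoxeterSystem hp x y) ?_
    (CommZ.comm_mem_Z hp M.toCoxeterSystem hx hy hxy hxy' ha hb)
  rintro z ⟨hz, i, j, hi, hj, e⟩
  exact ⟨hz, i, j, by exact_mod_cast hi, by exact_mod_cast hj, by rw [e, natCast_zsmul, natCast_zsmul]⟩

theorem S_eq (E : Tor X) (A : Set (Fin l → ℤ)) : E.S A = Reps.cj E.y (RGD.Sup (XX C l k) A) :=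
  X.D.conj_S (Subgroup.mem_top E.y) E.hF A

theorem cz (E : Tor X) : CommZ E.D.cs E.D.h E.D.X := fun a b ha hb h1 h2 u hu v hv => by
  have h3 := cz0 (hp := hp) a b ha hb h1 h2 _ (Reps.mem_cj.1 hu) _ (Reps.mem_cj.1 hv)
  have h4 : E.y⁻¹ * ⁅u, v⁆ * E.y = ⁅E.y⁻¹ * u * E.y, E.y⁻¹ * v * E.y⁆ := by
    simp only [commutatorElement_def]
    group
  exact (S_eq E _).ge ((Reps.mem_cj.2 (h4.symm ▸ h3) :))

theorem xfS_F (hk : TowChev.LocFin k) {e : ℕ} (he : 0 < e) : (xfS hp r hk he).F = frobA hp.inList r e := rfl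

theorem ex_wm (X : XF hp r k Mx) {L : List (Matrix (Fin l) (Fin l) ℤ)} (h : Lat.Ab hp L) {B : Matrix (Fin l) (Fin l) ℤ}
    (hB : B ∈ L) (j : ℕ) : ∃ n z, Pw r n ∧ n.natAbs = r ^ j ∧ (r : ℤ) ^ j • B = n • wm X z := by
  obtain ⟨u, hu⟩ := h B hB
  obtain ⟨z, hz⟩ := WM.exists_w X ((Lat.wM_iff hp).2 ⟨u, rfl⟩)
  rcases hu with hu | hu
  · exact ⟨_, z, ⟨j, .inl rfl⟩, by simp, by rw [hz, hu]⟩
  · exact ⟨_, z, ⟨j, .inr rfl⟩, by simp, by rw [hz, hu, neg_smul_neg]⟩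

theorem adm_of (X : XF hp r k Mx) {L : List (Matrix (Fin l) (Fin l) ℤ)} (h : Lat.Ab hp L) (A : Matrix (Fin l) (Fin l) ℤ)
    (hA : AdmL r L A) : ∃ n z, Pw r n ∧ A = n • wm X z := by
  obtain ⟨j, B, hB, rfl⟩ := hA
  obtain ⟨n, z, h1, -, h2⟩ := ex_wm X h hB j
  exact ⟨n, z, h1, h2⟩

theorem adm_F (X : XF hp r k Mx) (A : Matrix (Fin l) (Fin l) ℤ) (hA : AdmF r A) : ∃ n z, Pw r n ∧ A = n • wm X z :=
  let ⟨j, h⟩ := hA
  ⟨_, 1, ⟨j, .inl rfl⟩, by rw [map_one, h]⟩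

variable (s : XS X Adm d S) {ζ : kˣ} (hζ : IsPrimitiveRoot ζ 5) {G : Type} [Group G] [Finite G] {σ : G →* S}
  {I : Ideal AlgInt} {b : Set (IrrCharacter G)} {D : Subgroup G} (H : Hyp 5 I b D σ) {u x : Fin l → ZMod 5}
  {rt : P5 → Fin l → ℤ} {q : ℤ} {g : M.Group}
include H

theorem su_of {E : Tor X} (T : Tb hp u x rt) (hu : u ∈ vs s hζ E (D.map σ)) (hx : x ∈ vs s hζ E (D.map σ))
    (hM : Mx = q • wm X g) (hq : Pw r q)
    (rk : ∀ B : Submodule (ZMod 5) (Fin l → ZMod 5), PureSp C Adm B → Module.finrank (ZMod 5) B ≤ 2) (h5 : 5 ≠ r)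
    (hd : d.Coprime 5) : Su s hζ (Ind σ b) (D.map σ) E u x rt q (E.w * g) :=
  ⟨T, blk.pure G 5 I b D S σ H, hu, hx, by rw [map_mul, ← Matrix.mul_smul, ← hM, E.A_eq], hq,
    fun E' => rk _ (pureSp s hζ (blk.pure G 5 I b D S σ H) E'), h5, hd, cz E⟩

/-- a standard plane -/
theorem exists_pl [Finite S] {f : ℕ} (hf : Cn.PM C l f) (hf5 : (5 : ℕ).Coprime f) (h5 : 5 ≠ r) :
    ∃ u x : Fin l → ZMod 5, PurePl C Adm u x ∧ ∀ u₀ x₀, Pl.Std C u x u₀ x₀ →
      ∃ E : Tor X, u₀ ∈ vs s hζ E (D.map σ) ∧ x₀ ∈ vs s hζ E (D.map σ) := by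
  obtain ⟨E, a, c, u, x, ha, hc, -, h1, h2, h3⟩ := exists_plane s hζ (blk.pure G 5 I b D _ σ H) (conn_of_pm X hf hf5) h5
  refine ⟨u, x, h3, ?_⟩
  rintro u₀ x₀ ⟨W, hW, h4⟩
  obtain ⟨E', -, -, h⟩ := exists_std s hζ E ⟨a, ha, h1⟩ ⟨c, hc, h2⟩ hW h4
  exact ⟨E', h⟩

end gen

theorem prim (k : Type) [Field k] {r : ℕ} [Fact r.Prime] [CharP k r] [IsAlgClosed k] (hr : 5 ≠ r) :
    ∃ ζ : kˣ, IsPrimitiveRoot ζ 5 :=
  exists_prim (r := r) k (n := 5) fun h1 => hr ((Nat.prime_dvd_prime_iff_eq Fact.out p5).1 h1).symm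

theorem cop3 (n : ℕ) {c : ℕ} (h : c ∣ 3) : c.Coprime (4 * (n ^ 2 + 1)) := by
  refine Nat.Coprime.coprime_dvd_left h ((Nat.Prime.coprime_iff_not_dvd Nat.prime_three).2 fun h1 => ?_)
  have h2 : ∀ a : ZMod 3, 4 * (a ^ 2 + 1) ≠ 0 := by decide
  exact h2 n (by exact_mod_cast (ZMod.natCast_eq_zero_iff _ 3).2 h1)

theorem cop35 {c : ℕ} (h : c ∣ 3) : c.Coprime 5 := Nat.Coprime.coprime_dvd_left h (by norm_num)

variable (h : Core) (hc : Cop)
include h hc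

/-- the rows with `d` and the centre of order dividing three -/
theorem row_of {C : ChevalleyDatum} {l : ℕ} {M : CoxeterMatrix (Fin l)} {hp : IsType C l M} {r : ℕ} [Fact r.Prime]
    {L L' : List (Matrix (Fin l) (Fin l) ℤ)} {B : Matrix (Fin l) (Fin l) ℤ} {e d c f : ℕ} {S : Type} [Group S] [Finite S]
    (H : Has hp r ((r : ℤ) ^ e • B) (AdmL r L) d S) (hL : Lat.Ab hp L) (hL' : Lat.Ab hp L') (hB : B ∈ L') (hd : d ∣ 3)
    (hZ : ZD c S) (hc3 : c ∣ 3) (hf : Cn.PM C l f) (hf5 : (5 : ℕ).Coprime f) (h5 : 5 ≠ r) {u₀ x₀ : Fin l → ZMod 5}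
    {rt : P5 → Fin l → ℤ} {a : ZMod 5} (T : Tb hp (a • u₀) x₀ rt)
    (pl : ∀ u x : Fin l → ZMod 5, PurePl C (AdmS 5 L) u x → Pl.Std C u x u₀ x₀)
    (rk : ∀ B : Submodule (ZMod 5) (Fin l → ZMod 5), PureSp C (AdmS 5 L) B → Module.finrank (ZMod 5) B ≤ 2) :
    Row 5 S := by
  intro G _ _ σ I b D HH
  obtain ⟨k, _, _, _, X, ⟨s⟩⟩ := H
  obtain ⟨ζ, hζ⟩ := prim k h5
  have hA : ∀ A, AdmL r L A → AdmS 5 L A := fun _ => admS_of_admL p5 Fact.out h5
  obtain ⟨u, x, h1, h2⟩ := exists_pl s hζ HH hf hf5 h5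
  obtain ⟨E, h3, h4⟩ := h2 _ _ (pl u x (h1.mono hA))
  obtain ⟨q, g, hq, -, hM⟩ := ex_wm X hL' hB e
  exact h s hζ HH (su_of s hζ HH T (Submodule.smul_mem _ a h3) h4 hM hq (fun B hB => rk B (hB.mono hA)) h5 (cop35 hd))
    (hc s σ HH.surj HH.ker (cop3 _ hd) (cop3 _ ((hZ.dvd HH).trans hc3))) (.inl ⟨.inl rfl, adm_of X hL⟩)

omit h hc in
theorem toL {l r : ℕ} {L : List (Matrix (Fin l) (Fin l) ℤ)} (A : Matrix (Fin l) (Fin l) ℤ) (hA : AdmF r A) :
    AdmL r (1 :: L) A :=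
  let ⟨j, h⟩ := hA
  ⟨j, 1, List.mem_cons_self, h⟩

theorem e6 : RE6 5 := fun F _ _ r e _ _ hF hr =>
  row_of h hc (has_E6 hF) Lat.ab_E6 Lat.ab_E6 List.mem_cons_self (Nat.gcd_dvd_left _ _) (zd_E6 hF) (Nat.gcd_dvd_left _ _)
    Cn.pm_E6 (by norm_num) hr (a := 1) (by rw [one_smul]; exact tbE6) (fun _ _ => Pl.plE65) fun _ => Pl.rkE65

theorem te6 : RT6 5 := by
  intro K _ _ r e _ _ hK hr
  by_cases h2 : r ^ e = 2
  · rw [h2] at hK ⊢
    exact X5T.boxT2 K hK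
  · have he : 0 < e := Nat.pos_of_ne_zero fun h0 => by
      have h1 := Fintype.one_lt_card (α := K)
      rw [hK, h0] at h1
      simp at h1
    exact row_of h hc ((has_2E6 hK).mono toL) Lat.ab_E6 Lat.ab_E6 (List.mem_cons_of_mem _ List.mem_cons_self)
      (Nat.gcd_dvd_left _ _) (zd_2E6 ((Fact.out : r.Prime).isPrimePow.pow he.ne') hK h2) (Nat.gcd_dvd_left _ _)
      Cn.pm_E6 (by norm_num) hr (a := 1) (by rw [one_smul]; exact tbE6) (fun _ _ => Pl.plE65) fun _ => Pl.rkE65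

theorem boxD6 : BoxD6 := by
  intro _ r e _ k _ _ _ X S _ _ s ζ hζ hr G _ _ σ I b D H hσ E h1 h2
  have h3 : Nat.card (Subgroup.center G) = 1 := by
    rw [← H.ker, (MonoidHom.ker_eq_bot_iff σ).2 hσ.1, Subgroup.card_bot]
  exact h s hζ H (su_of s hζ H (g := 1) tbE8 h1 h2 (by rw [map_one]) ⟨e, .inl rfl⟩
    (fun B hB => Pl.rkE85 (hB.mono fun _ => admS_of_admF p5 Fact.out hr)) hr (Nat.coprime_one_left _))
    (hc s σ H.surj H.ker (Nat.coprime_one_left _) (h3 ▸ Nat.coprime_one_left _)) (.inl ⟨.inl rfl, adm_F X⟩)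

omit h hc in
theorem two_smul_u : (2 : ZMod 5) • (![1, 0, 0, 1] : Fin 4 → ZMod 5) = ![2, 0, 0, 2] := by decide

omit h hc in
theorem T_le {r : ℕ} [Fact r.Prime] {k : Type} [Field k] [CharP k r] [IsAlgClosed k] {Mx : Matrix (Fin 4) (Fin 4) ℤ}
    {X : XF hpF4 r k Mx} (E : Tor X) : E.T ≤ Td E rtF4 := by
  intro t ht
  obtain ⟨c, rfl⟩ := E.mem_T.1 ht
  refine (τ_mem_TD (D := E.D)).2 fun (m : Fin 4 → ℤ) hm => ?_
  have h1 : ∀ a : P5, a ≠ 0 → m ⬝ᵥ fl 4 (gt (rF4a ++ rF4b) (cd a)).2 = 0 := fun a ha =>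
    ((ckF4.cp_eq hpF4 (ckF4.mem a ha) m).symm.trans
      (E.D.pair_cor ((E.rt_iff _).2 (tbF4.root a ha)) m).symm).trans (hm _ ⟨a, ha, rfl⟩)
  have e1 : m ⬝ᵥ ![0, 0, 0, -1] = 0 := (congrArg _ (by decide)).trans (h1 (2, 0) (by decide))
  have e2 : m ⬝ᵥ ![0, 0, 1, -1] = 0 := (congrArg _ (by decide)).trans (h1 (1, 1) (by decide))
  have e3 : m ⬝ᵥ ![-1, 0, 0, 1] = 0 := (congrArg _ (by decide)).trans (h1 (1, 0) (by decide))
  have e4 : m ⬝ᵥ ![0, 1, -2, 1] = 0 := (congrArg _ (by decide)).trans (h1 (0, 1) (by decide))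
  simp only [dotProduct, Fin.sum_univ_four, cons_val_zero, cons_val_one, cons_val] at e1 e2 e3 e4
  have h2 : m = 0 := by
    funext i
    fin_cases i <;> simp <;> omega
  rw [h2]
  show ∏ j, c j ^ (0 : ℤ) = 1
  simp

theorem f4 : RF4 5 := by
  intro F _ _ r e _ _ hF h2 hr
  have hZ := zd_F4 (F := F) (hF ▸ h2)
  by_cases hr2 : r = 2
  · subst hr2
    intro G _ _ σ I b D H
    obtain ⟨k, _, _, _, X, ⟨s⟩⟩ := has_F4two hF
    obtain ⟨ζ, hζ⟩ := prim k hr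
    have hA : ∀ A, AdmL 2 [1, GamF] A → AdmS 5 [1, GamF] A := fun _ => admS_of_admL p5 Nat.prime_two hr
    obtain ⟨u, x, h1, h3⟩ := exists_pl s hζ H Cn.pm_F4 (Nat.coprime_one_right _) hr
    rcases Pl.plG45 (h1.mono hA) with h4 | h4
    · obtain ⟨E, h5, h6⟩ := h3 _ _ h4
      exact h s hζ H (su_of s hζ H (g := 1) (q := (2 : ℤ) ^ e) tbF4 (two_smul_u ▸ Submodule.smul_mem _ 2 h5) h6
        (by rw [map_one]) ⟨e, .inl rfl⟩ (fun B hB => Pl.rkG45 (hB.mono hA)) hr (Nat.coprime_one_left _))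
        (hc s σ H.surj H.ker (Nat.coprime_one_left _) (Nat.dvd_one.1 (hZ.dvd H) ▸ Nat.coprime_one_left _))
        (.inr ⟨rfl, rfl, T_le E, (hZ.inj H).1⟩)
    · obtain ⟨E, h5, h6⟩ := h3 _ _ h4
      exact X5T.aniso X s hζ (blk.pure G 5 I b D _ σ H) E h5 h6
  · exact row_of h hc ((has_F4 hF hr2).mono toL) (Lat.ab_one _) (Lat.ab_one _) List.mem_cons_self (one_dvd _) hZ (one_dvd _)
      Cn.pm_F4 (Nat.coprime_one_right _) hr (a := 2) (two_smul_u.symm ▸ tbF4) (fun _ _ => Pl.plF45) fun _ => Pl.rkF45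

private noncomputable def _root_.Cfsg.Agent.LsF.f00529d_23 : {f // @Cfsg.Agent.TO.X5.fl = f} := ⟨_, by first | (delta Cfsg.Agent.TO.X5.fl; rewrite [Cfsg.Agent.LsF.getD_eq]; exact rfl) | exact rfl⟩
private noncomputable def _root_.Cfsg.Agent.LsF.f00529d_24 : {f // @Cfsg.Agent.TO.X5.rtE7 = f} := ⟨_, by first | (delta Cfsg.Agent.TO.X5.rtE7; rewrite [Cfsg.Agent.LsF.f00529d_23.2, Cfsg.Agent.LsF.f00529d_1.2, Cfsg.Agent.LsF.f00529d_2.2, Cfsg.Agent.LsF.lappend_pat]; exact rfl) | exact rfl⟩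
omit h hc in
theorem del7 : Del rtE7 = Del7 := by
  have h1 : ∀ c : P5, rtE7 c 0 = 0 ∧ rtE7 c 5 = 0 ∧ rtE7 c 6 = 0 := by decide +kernel
  have h2 : ∀ s < chevE7.nroots, _root_.Cfsg.Agent.Nodes.RGDChev.vec chevE7 7 s 0 = 0 ∧ _root_.Cfsg.Agent.Nodes.RGDChev.vec chevE7 7 s 5 = 0 ∧ _root_.Cfsg.Agent.Nodes.RGDChev.vec chevE7 7 s 6 = 0 →
      ∃ c : P5, c ≠ 0 ∧ ∀ i, _root_.Cfsg.Agent.Nodes.RGDChev.vec chevE7 7 s i = rtE7 c i := by (refine of_decide_eq_true ?_; (try (rewrite [Cfsg.Agent.LsF.f00529d_14.2, Cfsg.Agent.LsF.f00529d_24.2, Cfsg.Agent.LsF.zdecEq_eq, Cfsg.Agent.LsF.dProdEq_eq, Cfsg.Agent.LsF.zFintype_eq, Cfsg.Agent.LsF.prodFintype_eq, Cfsg.Agent.LsF.dExists_eq, Cfsg.Agent.LsF.instIDecEq_eq, Cfsg.Agent.LsF.dAnd_eq, Cfsg.Agent.LsF.dNot_eq, Cfsg.Agent.LsF.dBallLT_eq, Cfsg.Agent.LsF.dForallFin_eq, Cfsg.Agent.LsF.dAllP_eq, Cfsg.Agent.LsF.decide_eq])); decide +kernel)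
  ext a
  constructor
  · rintro ⟨c, hc, rfl⟩
    exact ⟨(rt_iff' (hp := hpE7)).1 (tbE7.root c hc), h1 c⟩
  · rintro ⟨ha, h0⟩
    obtain ⟨s, hs, rfl⟩ := (rt_iff' (hp := hpE7)).2 ha
    obtain ⟨c, h3, h4⟩ := h2 s hs h0
    exact ⟨c, h3, funext h4⟩

theorem e7 : RE7 5 := by
  intro F _ _ r e _ _ hF hr
  have he := pos_of_card hF
  by_cases hr2 : r = 2
  · have h1 : Nat.gcd 2 (r ^ e - 1) ∣ 3 := by
      have h2 := cop_sub (Fact.out : r.Prime).pos he 2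
      rw [Nat.Coprime.eq_one_of_dvd h2 ((Nat.gcd_dvd_left _ _).trans (dvd_of_eq hr2.symm))]
      exact one_dvd _
    exact row_of h hc ((has_E7 hF).mono toL) (Lat.ab_one _) (Lat.ab_one _) List.mem_cons_self h1 (zd_E7 hF) h1
      Cn.pm_E7 (by norm_num) hr (a := 1) (by rw [one_smul]; exact tbE7) (fun _ _ => Pl.plE75) fun _ => Pl.rkE75
  · intro G _ _ σ I b D H
    have := charP_closure r F
    obtain ⟨s, hs⟩ : ∃ s : XS (xfS hpE7 r (locFin_closure F) he) (AdmF r) (Nat.gcd 2 (r ^ e - 1)) ↥(chevE7.group F),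
        s.ι = emb hpE7.inList (algebraMap F (AlgebraicClosure F)) :=
      ⟨(xsS (algebraMap F (AlgebraicClosure F)) (locFin_closure F) he hF (over_E7 _ hF hpE7)
        (cop_sub (Fact.out : r.Prime).pos he 2) (fun _ => index_dvd_E7 _ hF hpE7) List.mem_cons_self
        (grL_E7 r _ F)).mono fun _ => AdmL.admF, rfl⟩
    obtain ⟨ζ, hζ⟩ := prim (AlgebraicClosure F) hr
    have hA : ∀ A : Matrix (Fin 7) (Fin 7) ℤ, AdmF r A → AdmS 5 [1] A := fun _ => admS_of_admF p5 Fact.out hr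
    obtain ⟨u, x, h1, h2⟩ := exists_pl s hζ H Cn.pm_E7 (by norm_num) hr
    obtain ⟨E, h3, h4⟩ := h2 _ _ (Pl.plE75 (h1.mono hA))
    have U := su_of s hζ H (g := 1) (q := (r : ℤ) ^ e) tbE7 h3 h4 (by rw [map_one]) ⟨e, .inl rfl⟩
      (fun B hB => Pl.rkE75 (hB.mono hA)) hr (Nat.Coprime.coprime_dvd_left (Nat.gcd_dvd_left _ _) (by norm_num))
    have h5 := fo_F (u := ![4, 0, 4, 2, 0, 1, 0]) (x := ![0, 3, 0, 4, 4, 3, 0]) hζ U.hA U.hq fun v hv => fix_of_mem_vs s hζ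
      ((Submodule.span_le.2 (Set.pair_subset h3 h4) : _ ≤ vs s hζ E (D.map σ)) hv)
    refine h s hζ H U (P := E.S (Del rtE7)) ?_ (.inl ⟨.inr rfl, adm_F _⟩)
    rw [hs, xfS_F]
    refine X5S.box7 F r e hF hr2 G σ H.perf H.surj H.ker E.y _ ((S_eq E _).trans (by rw [del7])) (fun y hy => ?_) _
    rw [← xfS_F (locFin_closure F) he]
    exact h5.S hζ tbE7 U.cz le_rfl le_rfl (fun a ha =>
      ⟨tbE7.ac_mem (h5.pre hζ hr) ha, tbE7.dneg (tbE7.ac_mem (h5.pre hζ hr) ha)⟩) hy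

/-- **the prime five** -/
theorem exc_of : Exc 5 := ⟨f4 h hc, e6 h hc, te6 h hc, e7 h hc, e8_of (boxD6 h hc)⟩

end Cfsg.Agent.TO.X5E
end

private theorem dce_afe3e5febacb : _root_.True := by
  try have : _root_.True := by simp only [_root_.Cfsg.Agent.TO.X5T.c0.eq_1]
  try have : _root_.True := by simp only [_root_.Cfsg.Agent.TO.X5T.a0.eq_1]
  try have : _root_.True := by simp only [_root_.Cfsg.Agent.TO.X5T.v0.eq_1]
  try have : _root_.True := by simp only [_root_.Cfsg.Agent.TO.X5T.t0.eq_1]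
  try have : _root_.True := by simp only [_root_.Cfsg.Agent.TO.X5T.f0.eq_1]
  try have : _root_.True := by simp only [_root_.Cfsg.Agent.ChevalleyStructure.StEmbed.hom.congr_simp]
  try have : _root_.True := by simp only [_root_.Cfsg.Agent.TO.X5T.b0.eq_1]
  exact _root_.True.intro
end
end
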